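import Cfsg.Agent.Forms.Symplectic

set_option autoImplicit false

/-!
Central elements of the symplectic group are scalars.
-/

namespace CfsgLib.NormalCover

open Matrix CfsgLib.Forms

variable {F : Type*} [Field F] {m : ℕ}

theorem exists_sympForm_ne {w : Fin m ⊕ Fin m → F} (hw : w ≠ 0) : ∃ v, Cfsg.sympForm m F v w ≠ 0 := by
  by_contra h
  push Not at h
  exact hw (sympForm_sep w fun v => by rw [sympForm_swap, h, neg_zero])

theorem eigen_of_center {z : Matrix.symplecticGroup (Fin m) F} (hz : z ∈ Subgroup.center _) (w : Fin m ⊕ Fin m → F) :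
    ∃ a : F, z.1 *ᵥ w = a • w := by
  rcases eq_or_ne w 0 with rfl | hw
  · exact ⟨0, by simp⟩
  obtain ⟨x, hx⟩ := exists_sympForm_ne hw
  have h := congrArg (fun g : Matrix.symplecticGroup (Fin m) F => g.1 *ᵥ x)
    (Subgroup.mem_center_iff.1 hz (spTransv w 1))
  simp only [Submonoid.coe_mul, spTransv, ← mulVec_mulVec, sympTransvection_mulVec, mulVec_add, mulVec_smul,
    one_mul] at h
  refine ⟨(Cfsg.sympForm m F x w)⁻¹ * Cfsg.sympForm m F (z.1 *ᵥ x) w, ?_⟩
  rw [mul_smul, add_left_cancel h, smul_smul, inv_mul_cancel₀ hx, one_smul]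

theorem sp_scalar_of_center {z : Matrix.symplecticGroup (Fin m) F} (hz : z ∈ Subgroup.center _) :
    ∃ c : F, (∀ v, z.1 *ᵥ v = c • v) ∧ (0 < m → c * c = 1) := by
  rcases Nat.eq_zero_or_pos m with rfl | hm
  · exact ⟨1, fun v => Subsingleton.elim _ _, fun h => absurd h (by omega)⟩
  set e₀ : Fin m ⊕ Fin m → F := Pi.single (Sum.inl ⟨0, hm⟩) 1 with he
  choose a ha using eigen_of_center hz
  have hkey : ∀ u v, Cfsg.sympForm m F u v ≠ 0 → a u * a v = 1 := by
    intro u v huv
    have h := sympForm_map z u v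
    rw [ha, ha] at h
    simp only [← sympBilin_apply, map_smul, LinearMap.smul_apply, smul_eq_mul] at h
    rw [← sympBilin_apply] at huv
    exact mul_right_cancel₀ huv (by linear_combination h)
  set f₀ : Fin m ⊕ Fin m → F := Pi.single (Sum.inr ⟨0, hm⟩) 1
  have hef : Cfsg.sympForm m F e₀ f₀ ≠ 0 := by simp [e₀, f₀, sympForm_single_inr]
  have hfe : Cfsg.sympForm m F f₀ e₀ ≠ 0 := by simp [e₀, f₀, sympForm_single_inl]
  refine ⟨a e₀, fun v => ?_, fun _ => ?_⟩
  · rcases eq_or_ne v 0 with rfl | hv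
    · simp
    rw [ha v]
    congr 1
    by_contra hne
    have hind : ∀ s t : F, s • v + t • e₀ = 0 → s = 0 := by
      intro s t hst
      have h : z.1 *ᵥ (s • v + t • e₀) = 0 := by rw [hst, mulVec_zero]
      rw [mulVec_add, mulVec_smul, mulVec_smul, ha, ha] at h
      have h' : (s * (a v - a e₀)) • v = 0 := by
        have h2 := congrArg (fun x => a e₀ • x) hst
        rw [smul_zero, smul_add] at h2
        linear_combination (norm := module) h - h2
      rcases smul_eq_zero.1 h' with h3 | h3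
      · exact (mul_eq_zero.1 h3).resolve_right (sub_ne_zero.2 hne)
      · exact absurd h3 hv
    have hsum := ha (v + e₀)
    rw [mulVec_add, ha, ha] at hsum
    have h1 := hind (a v - a (v + e₀)) (a e₀ - a (v + e₀)) (by linear_combination (norm := module) hsum)
    have h2 : a v = a (v + e₀) := sub_eq_zero.1 h1
    rw [← h2] at hsum
    have h3 : (a e₀ - a v) • e₀ = 0 := by linear_combination (norm := module) hsum
    rcases smul_eq_zero.1 h3 with h4 | h4
    · exact hne (sub_eq_zero.1 h4).symm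
    · exact hef (by simp [h4, Cfsg.sympForm])
  · have h1 := hkey e₀ f₀ hef
    have hsum := ha (e₀ + f₀)
    rw [mulVec_add, ha, ha] at hsum
    have c1 := congrFun hsum (Sum.inl ⟨0, hm⟩)
    have c2 := congrFun hsum (Sum.inr ⟨0, hm⟩)
    simp [e₀, f₀] at c1 c2
    rw [show a f₀ = a e₀ by rw [c1, c2]] at h1
    exact h1

end CfsgLib.NormalCover
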