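import Cfsg.Agent.SylowTwoAb.G2Oct

set_option autoImplicit false

/-!
Short root automorphisms of Zorn's octonions and their transitivity on elements of trace one and given norm.
-/

namespace CfsgLib.NormalCover

open Cfsg.Lie Matrix CfsgLib.SylowTwoAb.Oct

variable {F : Type*} [Field F]

/-- A short root map moving `a` towards `c`. -/
def phiMap (c : Fin 3 → F) : (Fin 8 → F) →ₗ[F] (Fin 8 → F) where
  toFun x :=
    let k := c 0 * x 4 + c 1 * x 5 + c 2 * x 6
    ![x 0 + k, x 1 + (x 7 - x 0 - k) * c 0, x 2 + (x 7 - x 0 - k) * c 1, x 3 + (x 7 - x 0 - k) * c 2,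
      x 4 - (c 1 * x 3 - c 2 * x 2), x 5 - (c 2 * x 1 - c 0 * x 3), x 6 - (c 0 * x 2 - c 1 * x 1), x 7 - k]
  map_add' x y := by funext i; fin_cases i <;> simp <;> ring
  map_smul' a x := by funext i; fin_cases i <;> simp <;> ring

/-- A short root map moving `b` towards `d`. -/
def psiMap (d : Fin 3 → F) : (Fin 8 → F) →ₗ[F] (Fin 8 → F) where
  toFun x :=
    let k := d 0 * x 1 + d 1 * x 2 + d 2 * x 3
    ![x 0 - k, x 1 + (d 1 * x 6 - d 2 * x 5), x 2 + (d 2 * x 4 - d 0 * x 6), x 3 + (d 0 * x 5 - d 1 * x 4),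
      x 4 + (x 0 - x 7 - k) * d 0, x 5 + (x 0 - x 7 - k) * d 1, x 6 + (x 0 - x 7 - k) * d 2, x 7 + k]
  map_add' x y := by funext i; fin_cases i <;> simp <;> ring
  map_smul' a x := by funext i; fin_cases i <;> simp <;> ring

theorem phiMap_mul (c : Fin 3 → F) (x y : Fin 8 → F) :
    phiMap c (zornMul x y) = zornMul (phiMap c x) (phiMap c y) := by
  funext i
  fin_cases i <;> simp [phiMap, zornMul, dot3, cross3] <;> ring

theorem psiMap_mul (d : Fin 3 → F) (x y : Fin 8 → F) :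
    psiMap d (zornMul x y) = zornMul (psiMap d x) (psiMap d y) := by
  funext i
  fin_cases i <;> simp [psiMap, zornMul, dot3, cross3] <;> ring

theorem phiMap_neg (c : Fin 3 → F) (x : Fin 8 → F) : phiMap (-c) (phiMap c x) = x := by
  funext i
  fin_cases i <;> simp [phiMap] <;> ring

theorem psiMap_neg (d : Fin 3 → F) (x : Fin 8 → F) : psiMap (-d) (psiMap d x) = x := by
  funext i
  fin_cases i <;> simp [psiMap] <;> ring

/-- An invertible multiplicative linear map as an automorphism. -/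
theorem exists_aut (f f' : (Fin 8 → F) →ₗ[F] (Fin 8 → F)) (hinv : ∀ x, f' (f x) = x)
    (hmul : ∀ x y, f (zornMul x y) = zornMul (f x) (f y)) : ∃ g : G2 F, ∀ x, app g x = f x := by
  have h : LinearMap.toMatrix' f' * LinearMap.toMatrix' f = 1 := by
    rw [← LinearMap.toMatrix'_comp, show f'.comp f = LinearMap.id from LinearMap.ext hinv, LinearMap.toMatrix'_id]
  let u : GL (Fin 8) F := ⟨LinearMap.toMatrix' f, LinearMap.toMatrix' f', mul_eq_one_comm.1 h, h⟩
  refine ⟨⟨u, fun x y => ?_⟩, fun x => LinearMap.toMatrix'_mulVec f x⟩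
  show LinearMap.toMatrix' f *ᵥ _ = zornMul (LinearMap.toMatrix' f *ᵥ _) (LinearMap.toMatrix' f *ᵥ _)
  rw [LinearMap.toMatrix'_mulVec, LinearMap.toMatrix'_mulVec, LinearMap.toMatrix'_mulVec, hmul]

theorem exists_phi (c : Fin 3 → F) : ∃ g : G2 F, ∀ x, app g x = phiMap c x :=
  exists_aut _ (phiMap (-c)) (phiMap_neg c) (phiMap_mul c)

theorem exists_psi (d : Fin 3 → F) : ∃ g : G2 F, ∀ x, app g x = psiMap d x :=
  exists_aut _ (psiMap (-d)) (psiMap_neg d) (psiMap_mul d)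

/-- `y` is an image of `x`. -/
def Moves (x y : Fin 8 → F) : Prop := ∃ g : G2 F, app g x = y

theorem Moves.refl (x : Fin 8 → F) : Moves x x := ⟨1, by simp [app]⟩

theorem Moves.trans {x y z : Fin 8 → F} (h : Moves x y) (h' : Moves y z) : Moves x z := by
  obtain ⟨g, rfl⟩ := h
  obtain ⟨g', rfl⟩ := h'
  exact ⟨g' * g, app_mul_group g' g x⟩

theorem moves_phi (c : Fin 3 → F) (x : Fin 8 → F) : Moves x (phiMap c x) :=
  ⟨_, (exists_phi c).choose_spec x⟩

theorem moves_psi (d : Fin 3 → F) (x : Fin 8 → F) : Moves x (psiMap d x) :=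
  ⟨_, (exists_psi d).choose_spec x⟩

/-- The standard element of trace one and norm `n`. -/
def zStd (n : F) : Fin 8 → F := ![0, -n, 0, 0, 1, 0, 0, 1]

/-- The elements with scalar parts `0, 1` and norm `n`. -/
structure IsNormal (n : F) (x : Fin 8 → F) : Prop where
  h0 : x 0 = 0
  h7 : x 7 = 1
  hn : x 1 * x 4 + x 2 * x 5 + x 3 * x 6 = -n

theorem moves_line {n : F} (hn1 : n ≠ 1) (a2 a3 : F) : Moves ![0, -n, a2, a3, 1, 0, 0, 1] (zStd n) := by
  have h1 : (1 - n) ≠ 0 := sub_ne_zero.2 (Ne.symm hn1)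
  refine (moves_phi ![0, -a2 / (1 - n), -a3 / (1 - n)] _).trans ?_
  refine (Moves.trans (moves_psi ![-(-a2 / (1 - n) * a3 - -a3 / (1 - n) * a2), n * (-a3 / (1 - n)),
    -(n * (-a2 / (1 - n)))] _) ?_)
  convert Moves.refl (zStd n) using 1
  funext i
  fin_cases i <;> simp [phiMap, psiMap, zStd] <;> field_simp <;> ring

theorem moves_first {n : F} (hn1 : n ≠ 1) {x : Fin 8 → F} (hx : IsNormal n x) (h1 : x 1 = -n) :
    Moves x (zStd n) := by
  obtain ⟨h0, h7, hn⟩ := hx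
  refine (moves_psi ![x 4 - 1, x 5, x 6] x).trans ?_
  convert moves_line hn1 (x 2 + (x 6 * x 4 - (x 4 - 1) * x 6)) (x 3 + ((x 4 - 1) * x 5 - x 5 * x 4)) using 1
  have hk : (x 4 - 1) * x 1 + x 5 * x 2 + x 6 * x 3 = 0 := by linear_combination hn - h1
  funext i
  fin_cases i <;> simp [psiMap, h0, h7] <;>
    first
      | linear_combination h1
      | linear_combination hk
      | linear_combination -hk
      | linear_combination (-(x 4 - 1)) * hk
      | linear_combination (-x 5) * hk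
      | linear_combination (-x 6) * hk
      | ring


theorem moves_normal {n : F} (hn1 : n ≠ 1) {x : Fin 8 → F} (hx : IsNormal n x)
    (hb : x 4 ≠ 0 ∨ x 5 ≠ 0 ∨ x 6 ≠ 0) : Moves x (zStd n) := by
  by_cases h1 : x 1 = -n
  · exact moves_first hn1 hx h1
  have gen : ∀ {y : Fin 8 → F}, IsNormal n y → (y 5 ≠ 0 ∨ y 6 ≠ 0) → Moves y (zStd n) := by
    intro y hy hy56
    obtain ⟨c1, c2, hc⟩ : ∃ c1 c2, (-n - y 1) * y 4 + c1 * y 5 + c2 * y 6 = 0 := by
      rcases hy56 with h | h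
      · exact ⟨-(-n - y 1) * y 4 / y 5, 0, by field_simp; ring⟩
      · exact ⟨0, -(-n - y 1) * y 4 / y 6, by field_simp; ring⟩
    refine (moves_phi ![-n - y 1, c1, c2] y).trans (moves_first hn1 ⟨?_, ?_, ?_⟩ ?_)
    · simp [phiMap, hy.h0, hc]
    · simp [phiMap, hy.h7, hc]
    · simp [phiMap, hy.h0, hy.h7, hc]
      linear_combination hy.hn + hc
    · simp [phiMap, hy.h0, hy.h7, hc]
  by_cases h56 : x 5 ≠ 0 ∨ x 6 ≠ 0
  · exact gen hx h56
  · push Not at h56
    have hx1 : x 1 ≠ 0 := by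
      intro h0
      have := hx.hn
      rw [h0, h56.1, h56.2] at this
      apply h1
      rw [h0]
      linear_combination this
    refine (moves_phi ![0, 0, 1] x).trans (gen ⟨?_, ?_, ?_⟩ (Or.inl ?_))
    · simp [phiMap, hx.h0, h56.2]
    · simp [phiMap, hx.h7, h56.2]
    · simp [phiMap, hx.h0, hx.h7, h56.1, h56.2]
      have := hx.hn
      rw [h56.1, h56.2] at this
      linear_combination this
    · simp [phiMap, h56.1, hx1]

/-- Elements of trace one and norm `n ≠ 1` form one orbit. -/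
theorem moves_std {n : F} (hn1 : n ≠ 1) {z : Fin 8 → F} (ht : tr z = 1) (hn : nQ F z = n)
    (hne : ¬(z 0 = z 7 ∧ z 1 = 0 ∧ z 2 = 0 ∧ z 3 = 0 ∧ z 4 = 0 ∧ z 5 = 0 ∧ z 6 = 0)) : Moves z (zStd n) := by
  have finish : ∀ {y : Fin 8 → F}, tr y = 1 → nQ F y = n → (y 4 ≠ 0 ∨ y 5 ≠ 0 ∨ y 6 ≠ 0) → Moves y (zStd n) := by
    intro y ht hn hb
    rw [tr] at ht
    rw [nQ_apply] at hn
    by_cases h0 : y 0 = 0
    · refine moves_normal hn1 ⟨h0, by linear_combination ht - h0, ?_⟩ hb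
      linear_combination -hn + y 7 * h0
    obtain ⟨c, hc⟩ : ∃ c : Fin 3 → F, c 0 * y 4 + c 1 * y 5 + c 2 * y 6 = -y 0 := by
      rcases hb with h | h | h
      · exact ⟨![-y 0 / y 4, 0, 0], by simp; field_simp⟩
      · exact ⟨![0, -y 0 / y 5, 0], by simp; field_simp⟩
      · exact ⟨![0, 0, -y 0 / y 6], by simp; field_simp⟩
    refine (moves_phi c y).trans (moves_normal hn1 ⟨?_, ?_, ?_⟩ ?_)
    · simp [phiMap, hc]
    · simp [phiMap, hc]
      linear_combination ht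
    · simp [phiMap, hc]
      linear_combination -hn + (y 7 : F) * hc
    · by_contra hall
      push Not at hall
      obtain ⟨p4, p5, p6⟩ := hall
      simp [phiMap] at p4 p5 p6
      exact h0 (by linear_combination hc - c 0 * p4 - c 1 * p5 - c 2 * p6)
  have stepA : ∀ {y : Fin 8 → F}, tr y = 1 → nQ F y = n → (y 1 ≠ 0 ∨ y 2 ≠ 0 ∨ y 3 ≠ 0) → Moves y (zStd n) := by
    intro y ht hn ha
    by_cases hb : y 4 ≠ 0 ∨ y 5 ≠ 0 ∨ y 6 ≠ 0
    · exact finish ht hn hb
    push Not at hb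
    obtain ⟨b4, b5, b6⟩ := hb
    rw [tr] at ht
    rw [nQ_apply] at hn
    rcases em (y 2 = 0 ∧ y 3 = 0) with h | h
    · have hy1 : y 1 ≠ 0 := by
        rcases ha with h' | h' | h'
        · exact h'
        · exact absurd h.1 h'
        · exact absurd h.2 h'
      refine (moves_phi ![0, 1, 0] y).trans (finish ?_ ?_ (Or.inr (Or.inr ?_)))
      · simp [phiMap, tr, b4, b5, b6, ht]
      · rw [nQ_apply]; simp [phiMap, b4, b5, b6, h.1, h.2]
        rw [b4, b5, b6] at hn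
        linear_combination hn
      · simp [phiMap, b6, hy1]
    · refine (moves_phi ![1, 0, 0] y).trans (finish ?_ ?_ (Or.inr ?_))
      · simp [phiMap, tr, b4, b5, b6, ht]
      · rw [nQ_apply]; simp [phiMap, b4, b5, b6]
        rw [b4, b5, b6] at hn
        linear_combination hn
      · simp [phiMap, b5, b6]
        tauto
  by_cases ha : z 1 ≠ 0 ∨ z 2 ≠ 0 ∨ z 3 ≠ 0
  · exact stepA ht hn ha
  by_cases hb : z 4 ≠ 0 ∨ z 5 ≠ 0 ∨ z 6 ≠ 0
  · exact finish ht hn hb
  push Not at ha hb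
  have h07 : z 7 - z 0 ≠ 0 := fun h => hne ⟨(sub_eq_zero.1 h).symm, ha.1, ha.2.1, ha.2.2, hb.1, hb.2.1, hb.2.2⟩
  rw [tr] at ht
  rw [nQ_apply] at hn
  refine (moves_phi ![1, 0, 0] z).trans (stepA ?_ ?_ (Or.inl ?_))
  · simp [phiMap, tr, hb.1, hb.2.1, hb.2.2, ht]
  · rw [nQ_apply]; simp [phiMap, ha.1, ha.2.1, ha.2.2, hb.1, hb.2.1, hb.2.2]
    rw [ha.1, ha.2.1, ha.2.2, hb.1, hb.2.1, hb.2.2] at hn
    linear_combination hn
  · simp [phiMap, ha.1, hb.1, hb.2.1, hb.2.2, h07]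

end CfsgLib.NormalCover
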