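import Mathlib

set_option autoImplicit false

/-!
Two proper subgroups whose conjugates cover a group, and passage to the central quotient.
-/

namespace CfsgLib.NormalCover

/-- Two proper subgroups such that every element is conjugate into one of them. -/
def Cov (G : Type*) [Group G] : Prop :=
  ∃ H K : Subgroup G, H ≠ ⊤ ∧ K ≠ ⊤ ∧ ∀ g : G, ∃ x : G, x * g * x⁻¹ ∈ H ∨ x * g * x⁻¹ ∈ K

theorem map_mk_ne_top {G : Type*} [Group G] {N H : Subgroup G} [N.Normal] (hN : N ≤ H) (hH : H ≠ ⊤) :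
    H.map (QuotientGroup.mk' N) ≠ ⊤ := by
  intro h
  apply hH
  have := congrArg (Subgroup.comap (QuotientGroup.mk' N)) h
  rwa [QuotientGroup.comap_map_mk', sup_eq_right.2 hN, Subgroup.comap_top] at this

/-- A cover by subgroups containing a normal subgroup descends to the quotient. -/
theorem cov_quotient {G : Type*} [Group G] (N : Subgroup G) [N.Normal] {H K : Subgroup G}
    (hH : H ≠ ⊤) (hK : K ≠ ⊤) (hNH : N ≤ H) (hNK : N ≤ K)
    (hcov : ∀ g : G, ∃ x : G, x * g * x⁻¹ ∈ H ∨ x * g * x⁻¹ ∈ K) : Cov (G ⧸ N) := by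
  refine ⟨H.map (QuotientGroup.mk' N), K.map (QuotientGroup.mk' N), map_mk_ne_top hNH hH, map_mk_ne_top hNK hK,
    fun g => ?_⟩
  obtain ⟨g, rfl⟩ := QuotientGroup.mk'_surjective N g
  obtain ⟨x, hx | hx⟩ := hcov g
  · exact ⟨QuotientGroup.mk' N x, Or.inl ⟨_, hx, by simp⟩⟩
  · exact ⟨QuotientGroup.mk' N x, Or.inr ⟨_, hx, by simp⟩⟩

section Sub

open Matrix

variable {G : Type*} [Group G] {ι : Type*} [Fintype ι] [DecidableEq ι] {F : Type*} [Field F]

/-- The elements fixing the line through `v`. -/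
def lineStab (f : G →* Matrix ι ι F) (v : ι → F) : Subgroup G where
  carrier := {g | ∃ a : F, a ≠ 0 ∧ f g *ᵥ v = a • v}
  mul_mem' {g h} := by
    rintro ⟨a, ha, hg⟩ ⟨b, hb, hh⟩
    refine ⟨b * a, mul_ne_zero hb ha, ?_⟩
    rw [map_mul, ← Matrix.mulVec_mulVec, hh, Matrix.mulVec_smul, hg, smul_smul]
  one_mem' := ⟨1, one_ne_zero, by simp⟩
  inv_mem' {g} := by
    rintro ⟨a, ha, hg⟩
    refine ⟨a⁻¹, inv_ne_zero ha, ?_⟩
    have h1 : f g⁻¹ *ᵥ (f g *ᵥ v) = v := by
      rw [Matrix.mulVec_mulVec, ← map_mul, inv_mul_cancel, map_one, Matrix.one_mulVec]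
    rw [hg, Matrix.mulVec_smul] at h1
    conv_rhs => rw [← h1, smul_smul, inv_mul_cancel₀ ha, one_smul]

theorem mem_lineStab {f : G →* Matrix ι ι F} {v : ι → F} {g : G} :
    g ∈ lineStab f v ↔ ∃ a : F, a ≠ 0 ∧ f g *ᵥ v = a • v := Iff.rfl

/-- The elements commuting with `J`. -/
def centSub (f : G →* Matrix ι ι F) (J : Matrix ι ι F) : Subgroup G where
  carrier := {g | f g * J = J * f g}
  mul_mem' {g h} (hg : f g * J = J * f g) (hh : f h * J = J * f h) := by
    show f (g * h) * J = J * f (g * h)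
    rw [map_mul, mul_assoc, hh, ← mul_assoc, hg, mul_assoc]
  one_mem' := by simp
  inv_mem' {g} (hg : f g * J = J * f g) := by
    show f g⁻¹ * J = J * f g⁻¹
    calc f g⁻¹ * J = f g⁻¹ * (J * (f g * f g⁻¹)) := by rw [← map_mul, mul_inv_cancel, map_one, mul_one]
      _ = f g⁻¹ * (f g * J) * f g⁻¹ := by rw [hg]; simp only [mul_assoc]
      _ = J * f g⁻¹ := by rw [← mul_assoc, ← map_mul, inv_mul_cancel, map_one, one_mul]

theorem mem_centSub {f : G →* Matrix ι ι F} {J : Matrix ι ι F} {g : G} :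
    g ∈ centSub f J ↔ f g * J = J * f g := Iff.rfl

end Sub

end CfsgLib.NormalCover
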