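import Cfsg.Agent.NormalCover.Basic
import Cfsg.Agent.NormalCover.SympCenter
import Cfsg.Prelude.Def_Classical

set_option autoImplicit false
set_option linter.style.haveILetI false

/-!
Every symplectic transformation in characteristic two fixes a quadratic form polarising to the alternating form,
and there are two classes of such forms.
-/

namespace CfsgLib.NormalCover

open Matrix CfsgLib.Forms

variable {F : Type*} [Field F] {m : ℕ}

/-- The split quadratic form. -/
def q0 (v : Fin m ⊕ Fin m → F) : F := ∑ i, v (Sum.inl i) * v (Sum.inr i)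

/-- The quadratic form with parameter `a`. -/
def qf (a v : Fin m ⊕ Fin m → F) : F := q0 v + Cfsg.sympForm m F a v ^ 2

theorem q0_smul (c : F) (v : Fin m ⊕ Fin m → F) : q0 (c • v) = c ^ 2 * q0 v := by
  simp only [q0, Finset.mul_sum, Pi.smul_apply, smul_eq_mul]
  exact Finset.sum_congr rfl fun i _ => by ring

variable [CharP F 2]

theorem q0_add (u v : Fin m ⊕ Fin m → F) : q0 (u + v) = q0 u + q0 v + Cfsg.sympForm m F u v := by
  rw [sympForm_eq_sum, q0, q0, q0, ← Finset.sum_add_distrib, ← Finset.sum_add_distrib]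
  refine Finset.sum_congr rfl fun i _ => ?_
  rw [CharTwo.sub_eq_add]
  simp only [Pi.add_apply]
  ring

theorem sympForm_add_left (u u' v : Fin m ⊕ Fin m → F) :
    Cfsg.sympForm m F (u + u') v = Cfsg.sympForm m F u v + Cfsg.sympForm m F u' v := by
  simp [← sympBilin_apply]

theorem sympForm_comm (u v : Fin m ⊕ Fin m → F) : Cfsg.sympForm m F u v = Cfsg.sympForm m F v u := by
  rw [sympForm_swap, CharTwo.neg_eq]

theorem qf_add (a u v : Fin m ⊕ Fin m → F) : qf a (u + v) = qf a u + qf a v + Cfsg.sympForm m F u v := by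
  have h : Cfsg.sympForm m F a (u + v) = Cfsg.sympForm m F a u + Cfsg.sympForm m F a v := by
    simp [← sympBilin_apply]
  rw [qf, qf, qf, q0_add, h, CharTwo.add_sq]
  ring

theorem qf_smul (a : Fin m ⊕ Fin m → F) (c : F) (v : Fin m ⊕ Fin m → F) : qf a (c • v) = c ^ 2 * qf a v := by
  have h : Cfsg.sympForm m F a (c • v) = c * Cfsg.sympForm m F a v := by simp [← sympBilin_apply]
  rw [qf, qf, q0_smul, h]
  ring

theorem qf_transv (b v x : Fin m ⊕ Fin m → F) (r : F) :
    qf b ((spTransv v r).1 *ᵥ x) = qf b x + (r ^ 2 * qf b v + r) * Cfsg.sympForm m F x v ^ 2 := by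
  have h : Cfsg.sympForm m F x ((r * Cfsg.sympForm m F x v) • v) =
      r * Cfsg.sympForm m F x v * Cfsg.sympForm m F x v := by simp [← sympBilin_apply]
  rw [show (spTransv v r).1 = Cfsg.sympTransvection m v r from rfl, sympTransvection_mulVec, qf_add, qf_smul, h]
  ring

/-- The stabiliser of `qf a`. -/
def qStab (a : Fin m ⊕ Fin m → F) : Subgroup (Matrix.symplecticGroup (Fin m) F) where
  carrier := {g | ∀ v, qf a (g.1 *ᵥ v) = qf a v}
  mul_mem' {g h} (hg : ∀ v, qf a (g.1 *ᵥ v) = qf a v) (hh : ∀ v, qf a (h.1 *ᵥ v) = qf a v) := fun v => by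
    rw [Submonoid.coe_mul, ← mulVec_mulVec, hg, hh]
  one_mem' := fun v => by simp
  inv_mem' {g} (hg : ∀ v, qf a (g.1 *ᵥ v) = qf a v) := fun v => by
    have h := hg ((g⁻¹).1 *ᵥ v)
    rw [mulVec_mulVec, ← Submonoid.coe_mul, mul_inv_cancel, OneMemClass.coe_one, one_mulVec] at h
    exact h.symm

theorem qStab_ne_top (hm : 2 ≤ m) (b : Fin m ⊕ Fin m → F) : qStab b ≠ ⊤ := by
  classical
  intro h
  set e : Fin 2 → Fin m ⊕ Fin m → F := fun i => Pi.single (Sum.inl ⟨i.1, by omega⟩) 1 with he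
  have he0 : ∀ i, q0 (e i) = 0 := fun i => Finset.sum_eq_zero fun j _ => by simp [e]
  have he01 : q0 (e 0 + e 1) = 0 := Finset.sum_eq_zero fun j _ => by simp [e]
  obtain ⟨v, hv0, hv⟩ : ∃ v, v ≠ 0 ∧ qf b v = 0 := by
    by_cases h0 : Cfsg.sympForm m F b (e 0) = 0
    · refine ⟨e 0, fun h' => ?_, by rw [qf, he0, h0]; simp⟩
      have := congrFun h' (Sum.inl ⟨0, by omega⟩)
      simp [e] at this
    · refine ⟨Cfsg.sympForm m F b (e 1) • e 0 + Cfsg.sympForm m F b (e 0) • e 1, fun h' => ?_, ?_⟩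
      · have := congrFun h' (Sum.inl ⟨1, by omega⟩)
        simp [e] at this
        exact h0 this
      · have hq : q0 (Cfsg.sympForm m F b (e 1) • e 0 + Cfsg.sympForm m F b (e 0) • e 1) = 0 :=
          Finset.sum_eq_zero fun j _ => by simp [e]
        have hB : Cfsg.sympForm m F b (Cfsg.sympForm m F b (e 1) • e 0 + Cfsg.sympForm m F b (e 0) • e 1) = 0 := by
          simp only [← sympBilin_apply, map_add, map_smul, smul_eq_mul]
          rw [mul_comm, CharTwo.add_self_eq_zero]
        rw [qf, hq, hB]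
        simp
  obtain ⟨x, hx⟩ := exists_sympForm_ne hv0
  have hmem : spTransv v 1 ∈ qStab b := h ▸ Subgroup.mem_top _
  have h1 : qf b ((spTransv v 1).1 *ᵥ x) = qf b x := hmem x
  rw [qf_transv, hv] at h1
  simp at h1
  exact hx h1

theorem center_le_qStab (hm : 0 < m) (b : Fin m ⊕ Fin m → F) :
    Subgroup.center (Matrix.symplecticGroup (Fin m) F) ≤ qStab b := by
  intro z hz v
  obtain ⟨c, hc, hc2⟩ := sp_scalar_of_center hz
  rw [hc, qf_smul, sq, hc2 hm, one_mul]

variable [Fintype F]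

theorem sqrt_exists (x : F) : ∃ y : F, y ^ 2 = x := by
  obtain ⟨y, hy⟩ := FiniteField.isSquare_of_char_two (ringChar.eq F 2) x
  exact ⟨y, by rw [sq, ← hy]⟩

theorem sq_left_cancel {x y : F} (h : x ^ 2 = y ^ 2) : x = y := by
  rcases sq_eq_sq_iff_eq_or_eq_neg.1 h with h' | h'
  · exact h'
  · rwa [CharTwo.neg_eq] at h'

/-- Every element fixes some form. -/
theorem exists_fixed_form (g : Matrix.symplecticGroup (Fin m) F) :
    ∃ a, ∀ v, qf a (g.1 *ᵥ v) = qf a v := by
  choose rt hrt using sqrt_exists (F := F)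
  have hadd : ∀ u v, q0 (g.1 *ᵥ (u + v)) + q0 (u + v) =
      (q0 (g.1 *ᵥ u) + q0 u) + (q0 (g.1 *ᵥ v) + q0 v) := by
    intro u v
    rw [mulVec_add, q0_add, q0_add, sympForm_map]
    linear_combination CharTwo.add_self_eq_zero (Cfsg.sympForm m F u v)
  let w : (Fin m ⊕ Fin m → F) →ₗ[F] F :=
    { toFun := fun v => rt (q0 (g.1 *ᵥ v) + q0 v)
      map_add' := fun u v => sq_left_cancel (by rw [CharTwo.add_sq, hrt, hrt, hrt, hadd])
      map_smul' := fun c v => sq_left_cancel (by
        rw [RingHom.id_apply, smul_eq_mul, mul_pow, hrt, hrt, mulVec_smul, q0_smul, q0_smul, mul_add]) }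
  let L : (Fin m ⊕ Fin m → F) →ₗ[F] (Fin m ⊕ Fin m → F) := Matrix.mulVecLin g.1 - LinearMap.id
  have hw : w ∈ LinearMap.range L.dualMap := by
    rw [LinearMap.range_dualMap_eq_dualAnnihilator_ker, Submodule.mem_dualAnnihilator]
    intro v hv
    have hv' : g.1 *ᵥ v = v := sub_eq_zero.1 (LinearMap.mem_ker.1 hv)
    refine sq_left_cancel ?_
    show rt (q0 (g.1 *ᵥ v) + q0 v) ^ 2 = 0 ^ 2
    rw [hrt, hv', CharTwo.add_self_eq_zero]
    simp
  obtain ⟨l, hl⟩ := hw
  obtain ⟨a, ha⟩ := (LinearMap.BilinForm.toDual (sympBilin m F) sympBilin_nondegenerate).surjective l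
  refine ⟨a, fun v => ?_⟩
  have h1 : Cfsg.sympForm m F a (g.1 *ᵥ v) + Cfsg.sympForm m F a v = rt (q0 (g.1 *ᵥ v) + q0 v) := by
    have := LinearMap.congr_fun hl v
    simp only [LinearMap.dualMap_apply] at this
    rw [← ha] at this
    rw [LinearMap.BilinForm.toDual_def, sympBilin_apply] at this
    rw [← CharTwo.sub_eq_add (R := F) (Cfsg.sympForm m F a (g.1 *ᵥ v))]
    refine Eq.trans ?_ this
    show _ = Cfsg.sympForm m F a (g.1 *ᵥ v - v)
    simp [← sympBilin_apply]
  have h2 := congrArg (· ^ 2) h1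
  simp only [CharTwo.add_sq, hrt] at h2
  rw [qf, qf]
  linear_combination h2 + CharTwo.add_self_eq_zero (q0 (g.1 *ᵥ v)) -
    CharTwo.add_self_eq_zero (Cfsg.sympForm m F a v ^ 2)

/-- The Artin-Schreier map. -/
def asHom : F →+ F where
  toFun x := x ^ 2 + x
  map_zero' := by simp
  map_add' x y := by rw [CharTwo.add_sq]; ring

theorem index_asRange : (asHom : F →+ F).range.index = 2 := by
  have h := AddSubgroup.card_mul_index (asHom : F →+ F).ker
  rw [AddSubgroup.index_ker] at h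
  have h' := AddSubgroup.card_mul_index (asHom : F →+ F).range
  have hk : Nat.card (asHom : F →+ F).ker = 2 := by
    have hset : ((asHom : F →+ F).ker : Set F) = {0, 1} := by
      ext x
      simp only [SetLike.mem_coe, AddMonoidHom.mem_ker, Set.mem_insert_iff, Set.mem_singleton_iff]
      show x ^ 2 + x = 0 ↔ _
      rw [show x ^ 2 + x = x * (x + 1) by ring, mul_eq_zero, CharTwo.add_eq_zero]
    calc Nat.card (asHom : F →+ F).ker = ((asHom : F →+ F).ker : Set F).ncard := Nat.card_coe_set_eq _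
      _ = 2 := by rw [hset, Set.ncard_pair zero_ne_one]
  rw [hk] at h
  have hpos : 0 < Nat.card (asHom : F →+ F).range := Nat.card_pos
  refine Nat.eq_of_mul_eq_mul_left hpos ?_
  rw [h', ← h, mul_comm]

theorem as_add {x y : F} (hx : x ∉ (asHom : F →+ F).range) (hy : y ∉ (asHom : F →+ F).range) :
    x + y ∈ (asHom : F →+ F).range := by
  rw [AddSubgroup.add_mem_iff_of_index_two index_asRange]
  simp [hx, hy]

theorem exists_not_as : ∃ x : F, x ∉ (asHom : F →+ F).range := by
  by_contra h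
  push Not at h
  have := index_asRange (F := F)
  rw [AddSubgroup.index_eq_one.2 (eq_top_iff.2 fun x _ => h x)] at this
  omega

/-- Forms whose parameters differ by a value in the Artin-Schreier image are conjugate. -/
theorem exists_move_form {a b : Fin m ⊕ Fin m → F} (h : qf b (a + b) ∈ (asHom : F →+ F).range) :
    ∃ x : Matrix.symplecticGroup (Fin m) F, ∀ v, qf b (x.1 *ᵥ v) = qf a v := by
  obtain ⟨y, hy⟩ := h
  have hy' : y ^ 2 + y = qf b (a + b) := hy
  obtain ⟨r, hr⟩ : ∃ r : F, r ^ 2 * qf b (a + b) + r = 1 := by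
    rcases eq_or_ne y 0 with rfl | hy0
    · exact ⟨1, by rw [← hy']; simp⟩
    · refine ⟨y⁻¹, ?_⟩
      rw [← hy']
      field_simp
      linear_combination (CharTwo.two_eq_zero : (2 : F) = 0)
  refine ⟨spTransv (a + b) r, fun v => ?_⟩
  rw [qf_transv, hr, one_mul, sympForm_comm v, sympForm_add_left, CharTwo.add_sq, qf, qf]
  linear_combination CharTwo.add_self_eq_zero (Cfsg.sympForm m F b v ^ 2)

/-- The symplectic case in characteristic two. -/
theorem cov_psp_even (hm : 2 ≤ m) : Cov (Cfsg.PSp m F) := by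
  obtain ⟨δ, hδ⟩ := exists_not_as (F := F)
  classical
  set i₀ : Fin m := ⟨0, by omega⟩
  set a₁ : Fin m ⊕ Fin m → F := Pi.single (Sum.inl i₀) 1 + δ • Pi.single (Sum.inr i₀) 1 with ha₁
  have hqa : q0 a₁ = δ := by
    rw [q0, Finset.sum_eq_single i₀]
    · simp [a₁]
    · intro j _ hj
      simp [a₁, hj]
    · simp
  refine cov_quotient _ (H := qStab 0) (K := qStab a₁) (qStab_ne_top hm 0) (qStab_ne_top hm a₁)
    (center_le_qStab (by omega) 0) (center_le_qStab (by omega) a₁) fun g => ?_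
  obtain ⟨a, ha⟩ := exists_fixed_form g
  have key : ∀ b, qf b (a + b) ∈ (asHom : F →+ F).range →
      ∃ x : Matrix.symplecticGroup (Fin m) F, x * g * x⁻¹ ∈ qStab b := by
    intro b hb
    obtain ⟨x, hx⟩ := exists_move_form hb
    refine ⟨x, fun v => ?_⟩
    rw [Submonoid.coe_mul, Submonoid.coe_mul, ← mulVec_mulVec, ← mulVec_mulVec, hx, ha, ← hx, mulVec_mulVec,
      ← Submonoid.coe_mul, mul_inv_cancel, OneMemClass.coe_one, one_mulVec]
  by_cases h0 : q0 a ∈ (asHom : F →+ F).range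
  · obtain ⟨x, hx⟩ := key 0 (by simpa [qf, Cfsg.sympForm] using h0)
    exact ⟨x, Or.inl hx⟩
  · obtain ⟨x, hx⟩ := key a₁ (by
      have hs : Cfsg.sympForm m F a₁ (a + a₁) = Cfsg.sympForm m F a₁ a := by
        simp [← sympBilin_apply, sympBilin_isAlt a₁]
      rw [qf, q0_add, hqa, hs, sympForm_comm a a₁, add_assoc]
      refine add_mem (as_add h0 hδ) ⟨Cfsg.sympForm m F a₁ a, ?_⟩
      show Cfsg.sympForm m F a₁ a ^ 2 + Cfsg.sympForm m F a₁ a = _
      ring)
    exact ⟨x, Or.inr hx⟩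

end CfsgLib.NormalCover
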