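import Cfsg.Agent.NormalCover.GTwoMoves
import Cfsg.Agent.NormalCover.SympEven

set_option autoImplicit false
set_option linter.style.haveILetI false

/-!
Every automorphism of the octonions in characteristic two maps some trace-one element `z` to `z` or `z + 1`.
-/

namespace CfsgLib.NormalCover

open Cfsg.Lie Matrix CfsgLib.SylowTwoAb.Oct

variable {F : Type*} [Field F] [CharP F 2]

theorem app_add (g : G2 F) (x y : Fin 8 → F) : app g (x + y) = app g x + app g y := Matrix.mulVec_add _ _ _

theorem app_smul (g : G2 F) (c : F) (x : Fin 8 → F) : app g (c • x) = c • app g x := Matrix.mulVec_smul _ _ _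

/-- Trace and norm are invariant. -/
theorem app_tr (g : G2 F) (x : Fin 8 → F) : tr (app g x) = tr x ∧ nQ F (app g x) = nQ F x := by
  have e := app_mul g x x
  rw [sq_eq, sq_eq, sub_eq_add_neg, app_add, app_smul, ← neg_smul, app_smul, app_one] at e
  have ht : tr (app g x) = tr x := by
    by_contra hne
    have h2 : (tr (app g x) - tr x) • app g x = (nQ F (app g x) - nQ F x) • one8 F := by
      linear_combination (norm := module) -(1 : F) • e
    set r := (nQ F (app g x) - nQ F x) / (tr (app g x) - tr x)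
    have h3 : app g x = r • one8 F := by
      rw [show r • one8 F = (tr (app g x) - tr x)⁻¹ • ((nQ F (app g x) - nQ F x) • one8 F) by
        rw [smul_smul, inv_mul_eq_div], ← h2, smul_smul, inv_mul_cancel₀ (sub_ne_zero.2 hne), one_smul]
    have h4 : x = r • one8 F := app_injective g (by rw [app_smul, app_one, h3])
    exact hne (by rw [h3, ← h4])
  refine ⟨ht, ?_⟩
  rw [ht] at e
  have e7 := congrFun e 0
  simp [one8] at e7
  linear_combination e7

omit [CharP F 2] in
theorem nQ_add (x y : Fin 8 → F) : nQ F (x + y) = nQ F x + nQ F y + pol x y := by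
  rw [← polar_nQ, QuadraticMap.polar]
  ring

theorem app_pol_two (g : G2 F) (x y : Fin 8 → F) : pol (app g x) (app g y) = pol x y := by
  have h := nQ_add (app g x) (app g y)
  rw [← app_add, (app_tr g _).2, (app_tr g _).2, (app_tr g _).2, nQ_add] at h
  linear_combination -h

omit [CharP F 2] in
theorem eq_zero_of_pol {u : Fin 8 → F} (h : ∀ z, pol u z = 0) : u = 0 := by
  funext i
  fin_cases i
  · simpa [pol] using h (Pi.single 7 1)
  · simpa [pol] using h (Pi.single 4 1)
  · simpa [pol] using h (Pi.single 5 1)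
  · simpa [pol] using h (Pi.single 6 1)
  · simpa [pol] using h (Pi.single 1 1)
  · simpa [pol] using h (Pi.single 2 1)
  · simpa [pol] using h (Pi.single 3 1)
  · simpa [pol] using h (Pi.single 0 1)

/-- Some element of trace one is moved by a scalar. -/
theorem exists_trace_one_fixed (g : G2 F) :
    ∃ (z : Fin 8 → F) (r : F), tr z = 1 ∧ app g z = z + r • one8 F := by
  by_contra hcon
  push Not at hcon
  let L : (Fin 8 → F) →ₗ[F] (Fin 8 → F) ⧸ Submodule.span F {one8 F} :=
    (Submodule.span F {one8 F}).mkQ.comp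
      (Matrix.mulVecLin ((g : GL (Fin 8) F) : Matrix (Fin 8) (Fin 8) F) - LinearMap.id)
  let t : (Fin 8 → F) →ₗ[F] F := LinearMap.proj (R := F) (φ := fun _ : Fin 8 => F) 0 + LinearMap.proj (R := F) (φ := fun _ : Fin 8 => F) 7
  have ht : t ∈ LinearMap.range L.dualMap := by
    rw [LinearMap.range_dualMap_eq_dualAnnihilator_ker, Submodule.mem_dualAnnihilator]
    intro v hv
    have hv' : app g v - v ∈ Submodule.span F {one8 F} :=
      (Submodule.Quotient.mk_eq_zero _).1 (LinearMap.mem_ker.1 hv)
    obtain ⟨r, hr⟩ := Submodule.mem_span_singleton.1 hv'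
    show tr v = 0
    by_contra hne
    refine hcon ((tr v)⁻¹ • v) ((tr v)⁻¹ * r) ?_ ?_
    · simp only [tr, Pi.smul_apply, smul_eq_mul] at hne ⊢
      rw [← mul_add, inv_mul_cancel₀ hne]
    · rw [app_smul, mul_smul, hr, smul_sub]
      abel
  obtain ⟨f', hf'⟩ := ht
  set f : (Fin 8 → F) →ₗ[F] F := f'.comp (Submodule.span F {one8 F}).mkQ with hf
  let e : Fin 8 → F := fun i => f (Pi.single i 1)
  let w : Fin 8 → F := ![e 7, -e 4, -e 5, -e 6, -e 1, -e 2, -e 3, e 0]
  have hw : ∀ y, pol w y = f y := by
    intro y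
    have hy : y = ∑ i, y i • Pi.single i (1 : F) := pi_eq_sum_univ' y
    conv_rhs => rw [hy, map_sum, Fin.sum_univ_eight]
    simp only [map_smul, smul_eq_mul]
    simp [w, pol, e]
    ring
  have htL : ∀ y, f (app g y - y) = tr y := fun y => LinearMap.congr_fun hf' y
  have hf1 : f (one8 F) = 0 := by
    rw [hf, LinearMap.comp_apply, Submodule.mkQ_apply,
      (Submodule.Quotient.mk_eq_zero _).2 (Submodule.mem_span_singleton_self _), map_zero]
  have htw : tr w = 0 := by rw [← pol_one, pol_comm, hw, hf1]
  have hgw : app g⁻¹ w = w + one8 F := by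
    rw [← sub_eq_zero]
    refine eq_zero_of_pol fun z => ?_
    have h1 : pol (app g⁻¹ w) z = pol w (app g z) := by
      rw [← app_pol_two g, ← app_mul_group, mul_inv_cancel, show app (1 : G2 F) w = w by simp [app]]
    have h2 : pol w (app g z) - pol w z = tr z := by
      rw [hw, hw, ← map_sub, htL]
    rw [sub_eq_add_neg, pol_add_left, ← neg_one_smul F (w + one8 F), pol_smul_left, pol_add_left, pol_one, h1]
    linear_combination h2
  have hN := (app_tr g⁻¹ w).2
  rw [hgw, nQ_add, pol_comm, pol_one, htw] at hN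
  simp [nQ_apply, one8] at hN

/-- The stabiliser of `{z, z + 1}`. -/
def pairStab (z : Fin 8 → F) : Subgroup (G2 F) where
  carrier := {g | app g z = z ∨ app g z = z + one8 F}
  one_mem' := Or.inl (by simp [app])
  mul_mem' {g h} := by
    rintro (hg | hg) (hh | hh) <;> simp only [Set.mem_ofPred_eq, app_mul_group, hh, hg, app_add, app_one]
    · exact Or.inl trivial
    · exact Or.inr trivial
    · exact Or.inr trivial
    · exact Or.inl (by rw [add_assoc, CharTwo.add_self_eq_zero, add_zero])
  inv_mem' {g} := by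
    have hid : app g⁻¹ (app g z) = z := by rw [← app_mul_group, inv_mul_cancel]; simp [app]
    rintro (hg | hg)
    · left; rw [hg] at hid; exact hid
    · right
      rw [hg, app_add, app_one] at hid
      calc app g⁻¹ z = app g⁻¹ z + (one8 F + one8 F) := by rw [CharTwo.add_self_eq_zero, add_zero]
        _ = z + one8 F := by rw [← add_assoc, hid]

theorem app_inv_eq (g : G2 F) {x y : Fin 8 → F} (h : app g x = y) : app g⁻¹ y = x := by
  rw [← h, ← app_mul_group, inv_mul_cancel]; simp [app]

theorem pairStab_ne_top [Fintype F] (h4 : 4 ≤ Fintype.card F) (n : F) : pairStab (zStd n) ≠ ⊤ := by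
  classical
  obtain ⟨t, ht0, ht1⟩ : ∃ t : F, t ≠ 0 ∧ t ≠ 1 := by
    by_contra h
    push Not at h
    have hsub : (Finset.univ : Finset F) ⊆ {0, 1} := fun x _ => by
      rw [Finset.mem_insert, Finset.mem_singleton]
      exact (em (x = 0)).imp_right (h x)
    have := (Finset.card_le_card hsub).trans Finset.card_le_two
    rw [Finset.card_univ] at this
    omega
  intro htop
  obtain ⟨g, hg⟩ := exists_phi ![t, 0, 0]
  have hm : g ∈ pairStab (zStd n) := htop ▸ Subgroup.mem_top g
  rcases hm with h | h <;> rw [hg] at h <;> have h0 := congrFun h 0 <;> simp [phiMap, zStd, one8] at h0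
  · exact ht0 h0
  · exact ht1 h0

/-- The octonion case in characteristic two. -/
theorem cov_g2 [Fintype F] (h4 : 4 ≤ Fintype.card F) : Cov (G2 F) := by
  classical
  obtain ⟨δ, hδ, hδ1⟩ : ∃ δ : F, δ ∉ (asHom : F →+ F).range ∧ δ ≠ 1 := by
    obtain ⟨δ, hδ⟩ := exists_not_as (F := F)
    by_cases h1 : δ = 1
    · obtain ⟨t, ht0, ht1⟩ : ∃ t : F, t ∈ (asHom : F →+ F).range ∧ t ≠ 0 := by
        by_contra h
        push Not at h
        have hb : (asHom : F →+ F).range = ⊥ := (AddSubgroup.eq_bot_iff_forall _).2 h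
        have := index_asRange (F := F)
        rw [hb, AddSubgroup.index_bot, Nat.card_eq_fintype_card] at this
        omega
      refine ⟨δ + t, fun h => hδ ((add_mem_cancel_right ht0).1 h), fun h => ht1 ?_⟩
      rw [h1] at h
      linear_combination h
    · exact ⟨δ, hδ, h1⟩
  refine ⟨pairStab (zStd 0), pairStab (zStd δ), pairStab_ne_top h4 0, pairStab_ne_top h4 δ, fun g => ?_⟩
  obtain ⟨z, r, htz, hgz⟩ := exists_trace_one_fixed g
  have key : ∀ n : F, n ≠ 1 → (∃ s : F, s ^ 2 + s = nQ F z + n) → ∃ x : G2 F, x * g * x⁻¹ ∈ pairStab (zStd n) := by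
    rintro n hn1 ⟨s, hs⟩
    set z' := z + s • one8 F with hz'
    have htone : tr (one8 F) = 0 := by simp [tr, one8, CharTwo.add_self_eq_zero]
    have ht' : tr z' = 1 := by
      simp only [tr, hz', Pi.add_apply, Pi.smul_apply, smul_eq_mul] at htone htz ⊢
      linear_combination htz + s * htone
    have hn' : nQ F z' = n := by
      have h1 : nQ F (one8 F) = 1 := by simp [nQ_apply, one8]
      rw [hz', nQ_add, pol_comm, pol_smul_left, pol_one, htz, QuadraticMap.map_smul, h1, smul_eq_mul]
      linear_combination hs + CharTwo.add_self_eq_zero (nQ F z)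
    obtain ⟨x, hx⟩ := moves_std hn1 ht' hn' (fun h => by
      rw [tr, h.1, CharTwo.add_self_eq_zero] at ht'
      exact zero_ne_one ht')
    have hr : r = 0 ∨ r = 1 := by
      have hN := (app_tr g z).2
      rw [hgz, nQ_add, pol_comm, pol_smul_left, pol_one, htz, QuadraticMap.map_smul,
        show nQ F (one8 F) = 1 by simp [nQ_apply, one8], smul_eq_mul] at hN
      have h' : r * (r + 1) = 0 := by linear_combination hN
      rcases mul_eq_zero.1 h' with h | h
      · exact Or.inl h
      · exact Or.inr (CharTwo.add_eq_zero.1 h)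
    have hgz' : app g z' = z' + r • one8 F := by
      rw [hz', app_add, app_smul, app_one, hgz]
      abel
    have hconj : app (x * g * x⁻¹) (zStd n) = zStd n + r • one8 F := by
      rw [app_mul_group, app_mul_group, app_inv_eq x hx, hgz', app_add, app_smul, app_one, hx]
    refine ⟨x, ?_⟩
    rcases hr with rfl | rfl
    · exact Or.inl (by rw [hconj, zero_smul, add_zero])
    · exact Or.inr (by rw [hconj, one_smul])
  by_cases hmem : nQ F z ∈ (asHom : F →+ F).range
  · obtain ⟨s, hs⟩ := hmem
    obtain ⟨x, hx⟩ := key 0 zero_ne_one ⟨s, by rw [add_zero]; exact hs⟩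
    exact ⟨x, Or.inl hx⟩
  · obtain ⟨s, hs⟩ := as_add hmem hδ
    obtain ⟨x, hx⟩ := key δ hδ1 ⟨s, hs⟩
    exact ⟨x, Or.inr hx⟩

end CfsgLib.NormalCover
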