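import Cfsg.Agent.NormalCover.Basic
import Cfsg.Agent.ClassCountU.Unitary
import Cfsg.Prelude.Def_Classical

set_option autoImplicit false
set_option linter.style.haveILetI false

/-!
`PSL(n,q)` for `n = 2, 3, 4` is covered by the conjugates of a line stabiliser and of the centraliser of a field.
-/

namespace CfsgLib.NormalCover

open Polynomial Matrix
open CfsgLib.ClassCount (Item IsItem Decomp dataOf size)

variable {F : Type*} [Field F] [Fintype F] {n : ℕ}

theorem exists_irreducible (r : ℕ) (hr : 2 ≤ r) : ∃ h : F[X], IsItem ((h, 1) : Item F) ∧ h.natDegree = r := by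
  obtain ⟨p, hp⟩ := CharP.exists F
  haveI := hp
  obtain ⟨k, hpp, -⟩ := FiniteField.card F p
  haveI := Fact.mk hpp
  haveI : NeZero r := ⟨by omega⟩
  let E := FiniteField.Extension F p r
  haveI : Finite E := inferInstance
  obtain ⟨x, hx⟩ := Field.exists_primitive_element F E
  have hint : IsIntegral F x := Algebra.IsIntegral.isIntegral x
  have hdeg : (minpoly F x).natDegree = r := by
    have h1 := IntermediateField.adjoin.finrank hint
    rw [hx, IntermediateField.finrank_top', FiniteField.finrank_extension] at h1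
    exact h1.symm
  refine ⟨minpoly F x, ⟨minpoly.monic hint, minpoly.irreducible hint, ?_, le_rfl⟩, hdeg⟩
  intro h0
  have hirr := minpoly.irreducible hint
  have hX : (X : F[X]) ∣ minpoly F x := X_dvd_iff.2 h0
  have := natDegree_eq_of_degree_eq (degree_eq_degree_of_associated (irreducible_X.associated_of_dvd hirr hX))
  rw [natDegree_X, hdeg] at this
  omega

/-- All matrices killed by a fixed irreducible polynomial have the same elementary divisors. -/
theorem data_of_root {h : F[X]} (hh : IsItem ((h, 1) : Item F)) (J : GL (Fin n) F)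
    (hJ : aeval (J : Matrix (Fin n) (Fin n) F) h = 0) :
    dataOf J = Multiset.replicate (n / h.natDegree) ((h, 1) : Item F) := by
  classical
  obtain ⟨d⟩ := ClassCount.exists_decomp _ (Matrix.GeneralLinearGroup.det_ne_zero J)
  rw [ClassCount.dataOf_eq d]
  have hall : ∀ it ∈ d.data, it = ((h, 1) : Item F) := by
    intro it hit
    obtain ⟨i, -, rfl⟩ := Multiset.mem_map.1 hit
    have h0 := ClassCount.map_aeval d h (d.φ.symm (Pi.single i 1)) i
    rw [hJ, zero_mulVec, map_zero, Pi.zero_apply, LinearEquiv.apply_symm_apply, Pi.single_eq_same, mul_one,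
      eq_comm, AdjoinRoot.mk_eq_zero] at h0
    have hdvd : d.P i ∣ h := (dvd_pow_self _ (Nat.one_le_iff_ne_zero.1 (d.item i).pos)).trans h0
    have hP : d.P i = h := eq_of_monic_of_associated (d.item i).monic hh.monic
      ((d.item i).irr.associated_of_dvd hh.irr hdvd)
    refine Prod.ext hP ?_
    rw [hP] at h0
    have h1 := natDegree_le_of_dvd h0 hh.monic.ne_zero
    rw [natDegree_pow] at h1
    have hd := hh.deg_pos
    have hp := (d.item i).pos
    simp only at hd hp ⊢
    nlinarith
  have heq : d.data = Multiset.replicate (Multiset.card d.data) ((h, 1) : Item F) :=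
    Multiset.eq_replicate_card.2 hall
  have hs := d.size_eq
  rw [heq, size, Multiset.map_replicate, Multiset.sum_replicate, smul_eq_mul, mul_one] at hs
  rw [heq]
  congr 1
  simp only at hs
  exact (Nat.div_eq_of_eq_mul_left hh.deg_pos hs.symm).symm

/-- An element whose elementary divisors all have degree divisible by `deg h` commutes with a root of `h`. -/
theorem exists_commuting_root (g : GL (Fin n) F) {h : F[X]} (hh : IsItem ((h, 1) : Item F))
    (hdeg : ∀ it ∈ dataOf g, h.natDegree ∣ it.1.natDegree) :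
    ∃ J : GL (Fin n) F, Commute J g ∧ aeval (J : Matrix (Fin n) (Fin n) F) h = 0 := by
  classical
  obtain ⟨d⟩ := ClassCount.exists_decomp _ (Matrix.GeneralLinearGroup.det_ne_zero g)
  rw [ClassCount.dataOf_eq d] at hdeg
  have ha : ∀ i, ∃ a : AdjoinRoot (d.P i ^ d.e i), aeval a h = 0 := by
    intro i
    have hP : Irreducible (d.P i) := (d.item i).irr
    haveI : Fact (Irreducible (d.P i)) := ⟨hP⟩
    haveI : Fact (Irreducible h) := ⟨hh.irr⟩
    haveI := ClassCount.finite_adjoinRoot hP.ne_zero
    haveI : Finite (AdjoinRoot (d.P i)) := Module.finite_of_finite F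
    obtain ⟨f⟩ := FiniteField.nonempty_algHom_of_finrank_dvd (F := F) (K := AdjoinRoot h)
      (L := AdjoinRoot (d.P i)) (by
        rw [ClassCount.finrank_adjoinRoot hh.monic.ne_zero, ClassCount.finrank_adjoinRoot hP.ne_zero]
        exact hdeg (d.P i, d.e i) (Multiset.mem_map.2 ⟨i, Finset.mem_univ_val i, rfl⟩))
    obtain ⟨s, -⟩ := ClassCount.exists_residue_hom (P := d.P i) (d.e i) (d.item i).pos
    refine ⟨(s.comp f) (AdjoinRoot.root h), ?_⟩
    rw [aeval_algHom_apply, AdjoinRoot.aeval_eq, AdjoinRoot.mk_self, map_zero]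
  choose a ha using ha
  let H : Matrix (Fin n) (Fin n) F := LinearMap.toMatrix' (d.φ.symm.toLinearMap.comp
    ((LinearMap.pi fun j => (LinearMap.mulLeft F (a j)).comp (LinearMap.proj j)).comp d.φ.toLinearMap))
  have hH : ∀ v j, d.φ (H *ᵥ v) j = a j * d.φ v j := by
    intro v j
    simp [H, LinearMap.toMatrix'_mulVec]
  have hHp : ∀ (f : F[X]) v j, d.φ (aeval H f *ᵥ v) j = aeval (a j) f * d.φ v j := by
    intro f
    induction f using Polynomial.induction_on' with
    | add p q hp hq =>
      intro v j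
      rw [map_add, add_mulVec, map_add, Pi.add_apply, hp, hq, map_add, add_mul]
    | monomial m r =>
      intro v j
      rw [aeval_monomial, aeval_monomial, ← Algebra.smul_def, ← Algebra.smul_def, smul_mulVec, map_smul,
        Pi.smul_apply, smul_mul_assoc]
      congr 1
      induction m generalizing v with
      | zero => simp
      | succ m ih => rw [pow_succ, ← mulVec_mulVec, ih, hH, pow_succ, mul_assoc]
  have hzero : aeval H h = 0 := by
    refine Matrix.ext_iff_mulVec.2 fun v => d.φ.injective (funext fun j => ?_)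
    rw [hHp, ha, zero_mul, zero_mulVec, map_zero, Pi.zero_apply]
  have hdet : H.det ≠ 0 := by
    intro h0
    obtain ⟨v, hv, hv0⟩ := Matrix.exists_mulVec_eq_zero_iff.2 h0
    have hfac : aeval H h = aeval H (h.divX) * H + algebraMap F _ (h.coeff 0) := by
      conv_lhs => rw [← divX_mul_X_add h]
      rw [map_add, map_mul, aeval_X, aeval_C]
    have := congrArg (· *ᵥ v) (hfac.symm.trans hzero)
    simp only [add_mulVec, ← mulVec_mulVec, hv0, mulVec_zero, zero_add, zero_mulVec,
      Algebra.algebraMap_eq_smul_one, smul_mulVec, one_mulVec, smul_eq_zero] at this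
    exact this.elim hh.coeff_ne hv
  refine ⟨Matrix.GeneralLinearGroup.mkOfDetNeZero H hdet, Units.ext ?_, hzero⟩
  show H * (g : Matrix (Fin n) (Fin n) F) = (g : Matrix (Fin n) (Fin n) F) * H
  refine Matrix.ext_iff_mulVec.2 fun v => d.φ.injective (funext fun j => ?_)
  rw [← mulVec_mulVec, ← mulVec_mulVec, hH, d.map_mulVec, d.map_mulVec, hH, mul_left_comm]

/-- The matrix of an element of `SL`. -/
abbrev slm : Matrix.SpecialLinearGroup (Fin n) F →* Matrix (Fin n) (Fin n) F := Cfsg.slToMat n F

theorem slm_apply (g : Matrix.SpecialLinearGroup (Fin n) F) : slm g = (g : Matrix (Fin n) (Fin n) F) := rfl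

theorem scalar_of_center {g : Matrix.SpecialLinearGroup (Fin n) F}
    (hg : g ∈ Subgroup.center (Matrix.SpecialLinearGroup (Fin n) F)) :
    ∃ r : F, (g : Matrix (Fin n) (Fin n) F) = Matrix.scalar (Fin n) r := by
  obtain ⟨r, -, hr⟩ := Matrix.SpecialLinearGroup.mem_center_iff.1 hg
  exact ⟨r, hr.symm⟩

omit [Fintype F] in
/-- `SL` is transitive on lines. -/
theorem exists_line_move (v : Fin (n + 1) → F) (hv : v ≠ 0) :
    ∃ x : Matrix.SpecialLinearGroup (Fin (n + 1)) F, ∃ a : F, a ≠ 0 ∧
      (x : Matrix (Fin (n + 1)) (Fin (n + 1)) F) *ᵥ v = a • Pi.single 0 1 := by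
  classical
  obtain ⟨W, hW⟩ := Submodule.exists_isCompl (Submodule.span F {v})
  have hWd : Module.finrank F W = n := by
    have := Submodule.finrank_add_eq_of_isCompl hW
    rw [finrank_span_singleton hv, Module.finrank_fin_fun] at this
    omega
  let b := Module.finBasisOfFinrankEq F W hWd
  let e : (Fin (n + 1) → F) ≃ₗ[F] F × W :=
    ((LinearEquiv.toSpanNonzeroSingleton F _ v hv).symm.prodCongr (LinearEquiv.refl F W)).symm.trans
      (Submodule.prodEquivOfIsCompl _ _ hW) |>.symm
  let e' : (Fin (n + 1) → F) ≃ₗ[F] (Fin (n + 1) → F) :=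
    (e.trans ((LinearEquiv.refl F F).prodCongr b.equivFun)).trans (Fin.consLinearEquiv F fun _ => F)
  have he' : e' v = Pi.single 0 1 := by
    have h1 : e v = (1, 0) := by
      rw [show e = _ from rfl, LinearEquiv.symm_apply_eq]
      show v = Submodule.prodEquivOfIsCompl _ _ hW (LinearEquiv.toSpanNonzeroSingleton F _ v hv 1, 0)
      simp [Submodule.coe_prodEquivOfIsCompl', LinearEquiv.toSpanNonzeroSingleton_apply]
    show Fin.consLinearEquiv F (fun _ => F) (((LinearEquiv.refl F F).prodCongr b.equivFun) (e v)) = _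
    rw [h1]
    funext i
    refine Fin.cases ?_ (fun j => ?_) i <;> simp
  set G := LinearMap.toMatrix' e'.toLinearMap with hG
  have hd : G.det ≠ 0 := by rw [hG, LinearMap.det_toMatrix']; exact e'.isUnit_det'.ne_zero
  let D : Matrix (Fin (n + 1)) (Fin (n + 1)) F := Matrix.diagonal (Function.update 1 0 G.det⁻¹)
  have hDd : D.det = G.det⁻¹ := by
    rw [Matrix.det_diagonal, Finset.prod_update_of_mem (Finset.mem_univ 0)]
    simp
  refine ⟨⟨D * G, by rw [det_mul, hDd, inv_mul_cancel₀ hd]⟩, G.det⁻¹, inv_ne_zero hd, ?_⟩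
  show (D * G) *ᵥ v = _
  rw [← mulVec_mulVec, hG, LinearMap.toMatrix'_mulVec, LinearEquiv.coe_coe, he']
  funext i
  rw [Matrix.mulVec_diagonal]
  rcases eq_or_ne i 0 with rfl | h
  · simp [hG]
  · simp [Pi.single_eq_of_ne h]

/-- The linear case. -/
theorem cov_psl (n r : ℕ) (hr : 2 ≤ r) (hrn : r ≤ n + 1)
    (hdeg : ∀ D : Multiset (Item F), (∀ it ∈ D, IsItem it) → size D = n + 1 →
      (∀ it ∈ D, 2 ≤ it.1.natDegree) → ∀ it ∈ D, r ∣ it.1.natDegree) :
    Cov (Matrix.ProjectiveSpecialLinearGroup (Fin (n + 1)) F) := by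
  classical
  obtain ⟨h, hh, hhd⟩ := exists_irreducible (F := F) r hr
  have hdvd : r ∣ n + 1 ∨ ¬ r ∣ n + 1 := em _
  rcases hdvd with hdvd | hdvd
  swap
  · -- every element has an eigenvector
    exfalso
    obtain ⟨h', hh', hhd'⟩ := exists_irreducible (F := F) (n + 1) (by omega)
    have := hdeg {((h', 1) : Item F)} (fun it hit => by rw [Multiset.mem_singleton.1 hit]; exact hh')
      (by simp [size, hhd']) (fun it hit => by rw [Multiset.mem_singleton.1 hit]; simp only; omega)
      (h', 1) (Multiset.mem_singleton_self _)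
    exact hdvd (hhd' ▸ this)
  obtain ⟨J₀, hJ₀⟩ := ClassCountU.exists_of_data (m := n + 1)
    (D := Multiset.replicate ((n + 1) / r) ((h, 1) : Item F))
    (fun it hit => by rw [Multiset.eq_of_mem_replicate hit]; exact hh)
    (by rw [size, Multiset.map_replicate, Multiset.sum_replicate, smul_eq_mul, mul_one, hhd,
      Nat.div_mul_cancel hdvd])
  obtain ⟨d₀⟩ := ClassCount.exists_decomp _ (Matrix.GeneralLinearGroup.det_ne_zero J₀)
  have hd0i : ∀ i, (d₀.P i, d₀.e i) = ((h, 1) : Item F) := fun i => by
    have : (d₀.P i, d₀.e i) ∈ d₀.data := Multiset.mem_map.2 ⟨i, Finset.mem_univ_val i, rfl⟩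
    rw [← ClassCount.dataOf_eq d₀, hJ₀] at this
    exact Multiset.eq_of_mem_replicate this
  have h0 : aeval (J₀ : Matrix (Fin (n + 1)) (Fin (n + 1)) F) h = 0 := by
    refine Matrix.ext_iff_mulVec.2 fun v => d₀.φ.injective (funext fun j => ?_)
    have e1 : d₀.P j = h := congrArg Prod.fst (hd0i j)
    have e2 : d₀.e j = 1 := congrArg Prod.snd (hd0i j)
    rw [ClassCount.map_aeval, zero_mulVec, map_zero, Pi.zero_apply,
      show AdjoinRoot.mk (d₀.P j ^ d₀.e j) h = 0 from AdjoinRoot.mk_eq_zero.2 (by rw [e1, e2, pow_one]),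
      zero_mul]
  refine cov_quotient _ (H := lineStab slm (Pi.single 0 1)) (K := centSub slm (J₀ : Matrix _ _ F)) ?_ ?_ ?_ ?_ ?_
  · intro htop
    obtain ⟨j, hj⟩ : ∃ j : Fin (n + 1), j ≠ 0 := ⟨Fin.last n, fun e => by
      have := congrArg Fin.val e
      simp at this
      omega⟩
    let t : Matrix.SpecialLinearGroup (Fin (n + 1)) F :=
      ⟨Matrix.transvection j 0 1, Matrix.det_transvection_of_ne j 0 hj 1⟩
    obtain ⟨a, -, ha⟩ := mem_lineStab.1 (htop.symm ▸ Subgroup.mem_top t : t ∈ lineStab slm (Pi.single 0 1))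
    have := congrFun ha j
    rw [slm_apply] at this
    simp [t, Matrix.transvection, add_mulVec, hj, Pi.single_eq_of_ne hj] at this
  · intro htop
    have hscal : ∃ c, (J₀ : Matrix (Fin (n + 1)) (Fin (n + 1)) F) = Matrix.scalar _ c := by
      obtain ⟨c, hc⟩ := mem_range_scalar_of_commute_transvectionStruct (M := (J₀ : Matrix (Fin (n + 1)) (Fin (n + 1)) F))
        (fun t => by
          let x : Matrix.SpecialLinearGroup (Fin (n + 1)) F := ⟨t.toMatrix, t.det⟩
          have hx : x ∈ centSub slm (J₀ : Matrix (Fin (n + 1)) (Fin (n + 1)) F) := by rw [htop]; exact Subgroup.mem_top x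
          exact mem_centSub.1 hx)
      exact ⟨c, hc.symm⟩
    obtain ⟨c, hc⟩ := hscal
    have h1 := h0
    rw [hc, show Matrix.scalar (Fin (n + 1)) c = algebraMap F (Matrix (Fin (n + 1)) (Fin (n + 1)) F) c from rfl,
      aeval_algebraMap_apply, map_eq_zero_iff _ (algebraMap F (Matrix (Fin (n + 1)) (Fin (n + 1)) F)).injective,
      coe_aeval_eq_eval] at h1
    have h2 : h.eval c = 0 := h1
    have h3 := natDegree_eq_of_degree_eq (degree_eq_degree_of_associated
      ((irreducible_X_sub_C c).associated_of_dvd hh.irr (dvd_iff_isRoot.2 h2)))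
    rw [natDegree_X_sub_C, hhd] at h3
    omega
  · intro g hg
    obtain ⟨r', hr'⟩ := scalar_of_center hg
    refine ⟨r', fun e => ?_, ?_⟩
    · have := g.2
      rw [hr', e] at this
      simp at this
    · rw [slm_apply, hr', Matrix.scalar_apply, ← smul_one_eq_diagonal, smul_mulVec, one_mulVec]
  · intro g hg
    obtain ⟨r', hr'⟩ := scalar_of_center hg
    show slm g * _ = _ * slm g
    rw [slm_apply, hr']
    exact (Matrix.scalar_commute r' (Commute.all r') _).eq
  · intro g
    set A := (g : Matrix (Fin (n + 1)) (Fin (n + 1)) F) with hA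
    by_cases hroot : ∃ c : F, A.charpoly.IsRoot c
    · obtain ⟨c, hc⟩ := hroot
      rw [IsRoot, Matrix.eval_charpoly] at hc
      obtain ⟨v, hv, hv0⟩ := Matrix.exists_mulVec_eq_zero_iff.2 hc
      rw [sub_mulVec, sub_eq_zero, Matrix.scalar_apply, ← smul_one_eq_diagonal, smul_mulVec, one_mulVec] at hv0
      obtain ⟨x, a, ha, hx⟩ := exists_line_move v hv
      refine ⟨x, Or.inl ⟨c, fun e => ?_, ?_⟩⟩
      · rw [e, zero_smul] at hv0
        exact hv (Matrix.eq_zero_of_mulVec_eq_zero (by rw [g.2]; exact one_ne_zero) hv0.symm)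
      · have hxi : slm x⁻¹ *ᵥ (a • Pi.single 0 1) = v := by
          rw [← hx, ← slm_apply, mulVec_mulVec, ← map_mul, inv_mul_cancel, map_one, one_mulVec]
        have h1 : slm (x * g * x⁻¹) *ᵥ (a • Pi.single 0 1) = c • (a • Pi.single 0 1) := by
          rw [map_mul, map_mul, ← mulVec_mulVec, hxi, ← mulVec_mulVec, slm_apply g, ← hA, ← hv0, mulVec_smul,
            slm_apply x, hx]
        rw [mulVec_smul, smul_comm c a] at h1
        exact smul_right_injective _ ha h1
    · set gg : GL (Fin (n + 1)) F := Matrix.SpecialLinearGroup.toGL g with hgg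
      have hall : ∀ it ∈ dataOf gg, r ∣ it.1.natDegree := by
        refine hdeg _ (ClassCountU.dataOf_valid _) (ClassCountU.dataOf_size _) fun it hit => ?_
        have hv := ClassCountU.dataOf_valid _ it hit
        by_contra hlt
        have hd1 : it.1.natDegree = 1 := by have := hv.deg_pos; omega
        apply hroot
        obtain ⟨d⟩ := ClassCount.exists_decomp _ (Matrix.GeneralLinearGroup.det_ne_zero gg)
        rw [ClassCount.dataOf_eq d] at hit
        obtain ⟨i, -, hi⟩ := Multiset.mem_map.1 hit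
        have hP : d.P i = X - C (-(d.P i).coeff 0) := by
          rw [map_neg, sub_neg_eq_add]
          exact (d.item i).monic.eq_X_add_C (by rw [show d.P i = it.1 from congrArg Prod.fst hi]; exact hd1)
        set c := -(d.P i).coeff 0
        refine ⟨c, ?_⟩
        rw [IsRoot, Matrix.eval_charpoly]
        refine Matrix.exists_mulVec_eq_zero_iff.1
          ⟨d.φ.symm (Pi.single i (AdjoinRoot.mk _ (d.P i ^ (d.e i - 1)))), ?_, ?_⟩
        · intro e
          have := congrArg (fun w => d.φ w i) e
          simp only [LinearEquiv.apply_symm_apply, Pi.single_eq_same, map_zero, Pi.zero_apply,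
            AdjoinRoot.mk_eq_zero] at this
          rw [pow_dvd_pow_iff (d.item i).monic.ne_zero (d.item i).irr.not_isUnit] at this
          have := (d.item i).pos
          simp only at this
          omega
        · rw [show Matrix.scalar (Fin (n + 1)) c - A = -aeval (gg : Matrix (Fin (n + 1)) (Fin (n + 1)) F) (X - C c) by
            rw [map_sub, aeval_X, aeval_C]; simp [hgg, hA]; rfl, neg_mulVec, neg_eq_zero]
          refine d.φ.injective (funext fun j => ?_)
          rw [ClassCount.map_aeval, map_zero, Pi.zero_apply, LinearEquiv.apply_symm_apply]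
          rcases eq_or_ne j i with rfl | hj
          · rw [Pi.single_eq_same, ← hP, ← map_mul, AdjoinRoot.mk_eq_zero, ← pow_succ',
              Nat.sub_add_cancel (show 1 ≤ d.e j from (d.item j).pos)]
          · rw [Pi.single_eq_of_ne hj, mul_zero]
      obtain ⟨J, hJc, hJ0⟩ := exists_commuting_root gg hh (hhd.symm ▸ hall)
      obtain ⟨P, hP⟩ := isConj_iff.1 (ClassCountU.isConj_GL_of_dataOf
        ((data_of_root hh J hJ0).trans (data_of_root hh J₀ h0).symm))
      have hpos : 0 < d₀.k := by
        rcases Nat.eq_zero_or_pos d₀.k with h | h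
        · exfalso
          have hsz := d₀.size_eq
          haveI : IsEmpty (Fin d₀.k) := by rw [h]; infer_instance
          rw [show d₀.data = 0 from Multiset.eq_zero_of_forall_notMem fun x hx => by
            obtain ⟨i, -, -⟩ := Multiset.mem_map.1 hx
            exact IsEmpty.false i] at hsz
          simp [size] at hsz
        · exact h
      obtain ⟨Y, hYc, hYd⟩ := ClassCount.exists_centralizer_det d₀ ⟨0, hpos⟩
        (Matrix.GeneralLinearGroup.det P)⁻¹
      have he1 : d₀.e ⟨0, hpos⟩ = 1 := congrArg Prod.snd (hd0i _)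
      rw [he1, pow_one] at hYd
      have hYd' : Matrix.GeneralLinearGroup.det (Y * P) = 1 := by rw [map_mul, hYd, inv_mul_cancel]
      let x : Matrix.SpecialLinearGroup (Fin (n + 1)) F := ⟨((Y * P : GL (Fin (n + 1)) F) : Matrix _ _ F), by
        rw [← Matrix.GeneralLinearGroup.val_det_apply, hYd', Units.val_one]⟩
      refine ⟨x, Or.inr ?_⟩
      have hx : Matrix.SpecialLinearGroup.toGL x = Y * P := Units.ext rfl
      have hk : Commute (Matrix.SpecialLinearGroup.toGL (x * g * x⁻¹)) J₀ := by
        rw [map_mul, map_mul, map_inv, hx, ← hgg]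
        show _ * J₀ = J₀ * _
        have e2 : P * J = J₀ * P := mul_inv_eq_iff_eq_mul.1 hP
        calc Y * P * gg * (Y * P)⁻¹ * J₀ = Y * P * gg * P⁻¹ * (Y⁻¹ * J₀) := by group
          _ = Y * P * gg * P⁻¹ * (J₀ * Y⁻¹) := by rw [(Commute.inv_left hYc : Commute Y⁻¹ J₀).eq]
          _ = Y * P * gg * (P⁻¹ * J₀ * P) * P⁻¹ * Y⁻¹ := by group
          _ = Y * P * (gg * J) * P⁻¹ * Y⁻¹ := by rw [mul_assoc P⁻¹, ← e2, inv_mul_cancel_left]; group
          _ = Y * P * (J * gg) * P⁻¹ * Y⁻¹ := by rw [hJc.eq]
          _ = Y * (P * J) * gg * P⁻¹ * Y⁻¹ := by group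
          _ = Y * J₀ * P * gg * P⁻¹ * Y⁻¹ := by rw [e2]; group
          _ = J₀ * Y * P * gg * P⁻¹ * Y⁻¹ := by rw [hYc]
          _ = J₀ * (Y * P * gg * (Y * P)⁻¹) := by group
      exact congrArg Units.val hk.eq

end CfsgLib.NormalCover
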