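import Cfsg.Agent.NormalCover.SpSixModel

set_option autoImplicit false
set_option linter.style.haveILetI false

/-!
`PSp(6,q)`, `q` a power of three, is covered by the conjugates of the stabiliser of a hyperbolic plane and of the
normaliser of an extension-field structure.
-/

namespace CfsgLib.NormalCover

open Matrix Module Polynomial

variable {F : Type*} [Field F] [Fintype F]

/-- An element negating one hyperbolic pair and fixing the others. -/
theorem exists_reflection : ∃ D : Matrix.symplecticGroup (Fin 3) F, D * D = 1 ∧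
    ∀ x j, act D x j = (if j = Sum.inl 0 ∨ j = Sum.inr 0 then (-1 : F) else 1) * x j := by
  classical
  let s : Fin 3 ⊕ Fin 3 → F := fun j => if j = Sum.inl 0 ∨ j = Sum.inr 0 then -1 else 1
  let L : V6 F →ₗ[F] V6 F := LinearMap.pi fun j => s j • LinearMap.proj j
  have hL : ∀ x j, L x j = s j * x j := fun x j => by simp [L]
  have hs : ∀ i : Fin 3, s (Sum.inl i) = s (Sum.inr i) ∧ s (Sum.inl i) * s (Sum.inl i) = 1 := fun i => by
    fin_cases i <;> simp [s]
  obtain ⟨D, hD⟩ := CfsgLib.Forms.exists_sp_of_linearMap L fun u v => by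
    rw [CfsgLib.Forms.sympForm_eq_sum, CfsgLib.Forms.sympForm_eq_sum]
    refine Finset.sum_congr rfl fun i _ => ?_
    rw [hL, hL, hL, hL, ← (hs i).1]
    linear_combination (u (Sum.inr i) * v (Sum.inl i) - u (Sum.inl i) * v (Sum.inr i)) * (hs i).2
  have hDx : ∀ x j, act D x j = s j * x j := fun x j => by rw [act_apply, hD, hL]
  refine ⟨D, act_ext fun x => funext fun j => ?_, hDx⟩
  rw [map_mul, map_one, Module.End.mul_apply, Module.End.one_apply, hDx, hDx, ← mul_assoc]
  rcases j with i | i
  · rw [(hs i).2, one_mul]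
  · rw [← (hs i).1, (hs i).2, one_mul]

section

variable {h : F[X]} [Fact (Irreducible h)] (m : Model h)

theorem K_ne_top (h2 : (2 : F) ≠ 0) : m.K ≠ ⊤ := by
  classical
  intro htop
  obtain ⟨D, hDD, hD⟩ := exists_reflection (F := F)
  obtain ⟨⟨z, hz⟩, -⟩ := (htop ▸ Subgroup.mem_top D : D ∈ m.K)
  have hD2 : act D * act D = 1 := by rw [← map_mul, hDD, map_one]
  have hμinj : Function.Injective m.μ := (m.μ).toRingHom.injective
  -- `z` is a conjugate of the root
  have hsemi : ∀ p : F[X], act D * aeval m.J p = aeval (m.μ z) p * act D := by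
    intro p
    induction p using Polynomial.induction_on' with
    | add p r hp hr => rw [map_add, map_add, mul_add, add_mul, hp, hr]
    | monomial k c =>
      rw [aeval_monomial, aeval_monomial, ← Algebra.smul_def, ← Algebra.smul_def, mul_smul_comm, smul_mul_assoc]
      exact congrArg (c • ·) (SemiconjBy.pow_right (show SemiconjBy (act D) m.J (m.μ z) from hz) k).eq
  have hz0 : aeval z h = 0 := hμinj (by
    have e := hsemi h
    rw [m.aeval_J, mul_zero, aeval_algHom_apply] at e
    rw [map_zero, ← mul_one (m.μ _), ← hD2, ← mul_assoc, ← e, zero_mul])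
  obtain ⟨j, -, hj⟩ := exists_pow_of_root m.deg hz0
  have hback : act D * m.μ z = m.J * act D := by
    calc act D * m.μ z = act D * (m.μ z * act D) * act D := by rw [mul_assoc, mul_assoc, hD2, mul_one]
      _ = m.J * act D := by rw [← hz, ← mul_assoc, hD2, one_mul]
  have hfix : z ^ Fintype.card F ^ j = AdjoinRoot.root h := hμinj (by
    have e := hsemi (X ^ (Fintype.card F ^ j))
    rw [aeval_X_pow, aeval_X_pow, Model.J, ← map_pow, hj, ← map_pow, hback] at e
    have e' := congrArg (· * act D) e
    simp only [mul_assoc, hD2, mul_one] at e'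
    exact e'.symm)
  have hj0 : 3 ∣ j := by
    by_contra hne
    have h3 : ¬ 3 ∣ 2 * j := by omega
    obtain ⟨c, hc⟩ := scalar_of_fixed m.deg h3 (z := AdjoinRoot.root h) (by rw [two_mul, pow_add, pow_mul, hj, hfix])
    exact root_not_scalar m.deg c hc
  obtain ⟨i, rfl⟩ := hj0
  rw [pow_card_mul m.deg] at hj
  have hcomm : Commute (act D) m.J := by
    show act D * m.J = m.J * act D
    rw [hz, ← hj, Model.J]
  -- the eigenspace for `-1` has dimension two
  have hcr : ∀ k : ℕ, ∀ x : V6 F, act D x = -x → act D ((m.J ^ k) x) = -(m.J ^ k) x := fun k x hx => by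
    rw [← Module.End.mul_apply, (hcomm.pow_right k).eq, Module.End.mul_apply, hx, map_neg]
  set e : V6 F := Pi.single (Sum.inl 0) 1 with he
  set f : V6 F := Pi.single (Sum.inr 0) 1 with hf
  have hee : act D e = -e := funext fun j => by
    rw [hD]; by_cases hj : j = Sum.inl 0 <;> simp [e, hj]
  have hW : ∀ x, act D x = -x → x ∈ Submodule.span F (Set.range ![e, f]) := by
    intro x hx
    rw [Matrix.range_cons_cons_empty, Submodule.mem_span_pair]
    refine ⟨x (Sum.inl 0), x (Sum.inr 0), funext fun j => ?_⟩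
    have hh := congrFun hx j
    rw [hD] at hh
    by_cases h1 : j = Sum.inl 0
    · subst h1; simp [e, f]
    by_cases h1' : j = Sum.inr 0
    · subst h1'; simp [e, f]
    simp [h1, h1'] at hh
    have : x j = 0 := (mul_eq_zero.1 (show (2 : F) * x j = 0 by linear_combination hh)).resolve_left h2
    simp [e, f, h1, h1', this]
  let L : Polynomial.degreeLT F 3 →ₗ[F] V6 F :=
    ((LinearMap.applyₗ e).comp (aeval m.J).toLinearMap).comp (Polynomial.degreeLT F 3).subtype
  have hinj : Function.Injective L := (injective_iff_map_eq_zero L).2 fun p hp => by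
    by_contra hp0
    have hp0' : (p : F[X]) ≠ 0 := fun h => hp0 (Subtype.ext h)
    have hndvd : ¬ h ∣ (p : F[X]) := fun hd => by
      have h1 := natDegree_le_of_dvd hd hp0'
      have h3 := (natDegree_lt_iff_degree_lt hp0').2 (Polynomial.mem_degreeLT.1 p.2)
      rw [m.deg] at h1
      omega
    obtain ⟨a, b, hab⟩ := (Fact.out : Irreducible h).coprime_iff_not_dvd.2 hndvd
    have h1 := congrArg (fun w : F[X] => aeval m.J w e) hab
    have hp' : aeval m.J (p : F[X]) e = 0 := hp
    simp [m.aeval_J, hp'] at h1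
    have := congrFun h1 (Sum.inl 0)
    simp [e] at this
  have hran : LinearMap.range L ≤ Submodule.span F (Set.range ![e, f]) := by
    rintro _ ⟨p, rfl⟩
    show aeval m.J (p : F[X]) e ∈ _
    refine hW _ ?_
    generalize (p : F[X]) = w
    induction w using Polynomial.induction_on' with
    | add a b ha hb => rw [map_add, LinearMap.add_apply, map_add, ha, hb, neg_add]
    | monomial k c =>
      rw [aeval_monomial, Module.End.mul_apply, Module.algebraMap_end_apply, map_smul, hcr k e hee, smul_neg]
  have h5 := Submodule.finrank_mono hran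
  rw [LinearMap.finrank_range_of_inj hinj, (Polynomial.degreeLTEquiv F 3).finrank_eq, Module.finrank_fin_fun] at h5
  have h6 : finrank F (Submodule.span F (Set.range ![e, f])) ≤ Fintype.card (Fin 2) := finrank_range_le_card ![e, f]
  simp at h6
  omega

end

variable [CharP F 3]

theorem cov_psp_six : Cov (Cfsg.PSp 3 F) := by
  classical
  have h2 : (2 : F) ≠ 0 := Ring.two_ne_zero (by rw [ringChar.eq F 3]; norm_num)
  obtain ⟨P₀, hP₀, hd⟩ := exists_irreducible (F := F) 3 (by norm_num)
  haveI : Fact (Irreducible P₀) := ⟨hP₀.irr⟩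
  obtain ⟨m⟩ := exists_model (h := P₀) hd
  set e : V6 F := Pi.single (Sum.inl 0) 1 with he
  set f : V6 F := Pi.single (Sum.inr 0) 1 with hf
  set W := Submodule.span F ({f, e} : Set (V6 F)) with hW
  have hfe : Cfsg.sympForm 3 F f e = 1 := by rw [CfsgLib.Forms.sympForm_single_inl]; simp [f]
  have htrans : ∀ u v : V6 F, B6 F u v = 1 → ∃ A : Matrix.symplecticGroup (Fin 3) F, act A u = f ∧ act A v = e := by
    intro u v huv
    obtain ⟨A, -, h1, h3⟩ := CfsgLib.Forms.exists_mem_transvGroup_pair (⊤ : Submodule F (V6 F))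
      (fun x _ hx => by
        obtain ⟨y, hy⟩ := exists_dual hx
        exact ⟨y, trivial, by rw [← CfsgLib.Forms.sympBilin_apply, hy]; exact one_ne_zero⟩)
      (u := u) (v := v) (u' := f) (v' := e) trivial trivial trivial trivial
      (by rw [← CfsgLib.Forms.sympBilin_apply]; exact huv) hfe
    exact ⟨A, by rw [act_apply, h1], by rw [act_apply, h3]⟩
  have hWne : spStab W ≠ ⊤ := by
    intro htop
    set e' : V6 F := Pi.single (Sum.inl 1) 1
    set f' : V6 F := Pi.single (Sum.inr 1) 1
    have hfe' : B6 F f' e' = 1 := by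
      rw [CfsgLib.Forms.sympBilin_apply, CfsgLib.Forms.sympForm_single_inl]; simp [f']
    obtain ⟨A, hA, -⟩ := htrans f' e' hfe'
    have hmem := ((htop ▸ Subgroup.mem_top A : A ∈ spStab W) f').1 (by
      rw [hA]; exact Submodule.subset_span (Set.mem_insert _ _))
    obtain ⟨s, t, hst⟩ := Submodule.mem_span_pair.1 hmem
    have h1 := congrFun hst (Sum.inr 1)
    simp [e, f, f'] at h1
  have hcenter : ∀ z ∈ Subgroup.center (Matrix.symplecticGroup (Fin 3) F), ∃ c : F, ∀ v, act z v = c • v := by
    intro z hz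
    obtain ⟨c, hc, -⟩ := sp_scalar_of_center hz
    exact ⟨c, fun v => by rw [act_apply, hc]⟩
  refine cov_quotient _ (H := spStab W) (K := m.K) hWne (K_ne_top m h2) (fun z hz => ?_) (fun z hz => ?_) fun g => ?_
  · obtain ⟨c, hc⟩ := hcenter z hz
    exact mem_spStab_of_le fun v hv => by rw [hc]; exact W.smul_mem c hv
  · obtain ⟨c, hc⟩ := hcenter z hz
    exact m.mem_K_of_scalar hc
  -- the plane case
  have hypCase : ∀ g : Matrix.symplecticGroup (Fin 3) F, HasHyp g →
      ∃ x : Matrix.symplecticGroup (Fin 3) F, x * g * x⁻¹ ∈ spStab W := by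
    rintro g ⟨u, v, huv, hu, hv⟩
    obtain ⟨A, hAu, hAv⟩ := htrans u v huv
    refine ⟨A, mem_spStab_of_le ?_⟩
    have himg : ∀ {x}, x ∈ Submodule.span F ({u, v} : Set (V6 F)) → act A x ∈ W := by
      intro x hx
      obtain ⟨s, t, rfl⟩ := Submodule.mem_span_pair.1 hx
      rw [map_add, map_smul, map_smul, hAu, hAv]
      exact Submodule.mem_span_pair.2 ⟨s, t, rfl⟩
    intro x hx
    obtain ⟨s, t, rfl⟩ := Submodule.mem_span_pair.1 hx
    have e1 : act (A * g * A⁻¹) f = act A (act g u) := by
      rw [map_mul, map_mul, Module.End.mul_apply, Module.End.mul_apply, ← hAu, act_inv_apply]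
    have e2 : act (A * g * A⁻¹) e = act A (act g v) := by
      rw [map_mul, map_mul, Module.End.mul_apply, Module.End.mul_apply, ← hAv, act_inv_apply]
    rw [map_add, map_smul, map_smul, e1, e2]
    exact W.add_mem (W.smul_mem _ (himg hu)) (W.smul_mem _ (himg hv))
  obtain ⟨zn, hznK, hzn⟩ := m.exists_neg
  -- elements of trace two
  have twoCase : ∀ g : Matrix.symplecticGroup (Fin 3) F, nop g 2 ^ 3 = 0 →
      HasHyp g ∨ ∃ x : Matrix.symplecticGroup (Fin 3) F, x * g * x⁻¹ ∈ m.K := by
    intro g h3
    by_cases hN : nop g 2 ^ 2 = 0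
    · rcases low_two h2 (by rw [← pow_two]; exact hN) with hh | ⟨hn3, hn2⟩
      · exact Or.inl hh
      obtain ⟨g', hg'K, h3', hn2'⟩ := m.witness_three
      obtain ⟨S, hS⟩ := conj_order_three h2 hn3 hn2 h3' hn2'
      exact Or.inr ⟨S, hS ▸ hg'K⟩
    · obtain ⟨s, -, hconj⟩ := conj_regular_two h2 h3 hN
      obtain ⟨g', hg'K, h3', w, hw⟩ := m.witness_two s
      obtain ⟨S, hS⟩ := hconj g' w h3' hw
      exact Or.inr ⟨S, hS ▸ hg'K⟩
  rcases trichotomy h2 g with hh | ⟨P, hPm, hPi, hPd, hPT⟩ | ⟨t, ht3⟩
  · obtain ⟨x, hx⟩ := hypCase g hh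
    exact ⟨x, Or.inl hx⟩
  · -- an irreducible cubic
    haveI : Fact (Irreducible P) := ⟨hPi⟩
    haveI := finite_root (h := P)
    haveI := finite_root (h := P₀)
    haveI := (AdjoinRoot.powerBasis hPi.ne_zero).finite
    haveI := (AdjoinRoot.powerBasis hP₀.irr.ne_zero).finite
    obtain ⟨φ⟩ := FiniteField.nonempty_algHom_of_finrank_dvd (F := F) (K := AdjoinRoot P₀) (L := AdjoinRoot P) (by
      rw [ClassCount.finrank_adjoinRoot hP₀.irr.ne_zero, ClassCount.finrank_adjoinRoot hPi.ne_zero, hd, hPd])
    obtain ⟨p, hp⟩ := AdjoinRoot.mk_surjective (φ (AdjoinRoot.root P₀))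
    have hJ' : aeval (aeval (trc g) p) P₀ = 0 := by
      rw [← aeval_comp]
      have : P ∣ P₀.comp p := by
        rw [← AdjoinRoot.mk_eq_zero, ← AdjoinRoot.aeval_eq, aeval_comp, AdjoinRoot.aeval_eq, hp, aeval_algHom_apply,
          AdjoinRoot.aeval_eq, AdjoinRoot.mk_self, map_zero]
      obtain ⟨c, hc⟩ := this
      rw [hc, map_mul, hPT, zero_mul]
    obtain ⟨S, hS⟩ := exists_sp_cubic h2 ((sa_trc g).aeval p) (m.sa_μ _) hP₀.monic hP₀.irr hd hJ' m.aeval_J
    refine ⟨S, Or.inr (m.mem_K_of_commute (LinearMap.ext fun x => ?_))⟩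
    have hJ : ∀ y, m.J y = act S (aeval (trc g) p (act S⁻¹ y)) := fun y => by
      rw [hS, act_apply_inv]
      rfl
    have hc := LinearMap.congr_fun (commute_aeval_right (commute_trc g) p).eq
    simp only [Module.End.mul_apply] at hc
    simp only [map_mul, Module.End.mul_apply, hJ, act_inv_apply, hc]
  · have ht3' : nop g t ^ 3 = 0 := ht3
    by_cases ht4 : t * t = 4
    · rcases (show t = 2 ∨ t = -2 from mul_self_eq_mul_self_iff.1 (ht4.trans (by norm_num))) with rfl | rfl
      · rcases twoCase g ht3' with hh | ⟨x, hx⟩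
        · obtain ⟨x, hx⟩ := hypCase g hh
          exact ⟨x, Or.inl hx⟩
        · exact ⟨x, Or.inr hx⟩
      · -- pass to the negative
        have hznx : ∀ x, act zn x = -x := fun x => by rw [hzn]; rfl
        have hact : ∀ x, act (zn * g) x = -act g x := fun x => by rw [map_mul, Module.End.mul_apply, hznx]
        have hzc : ∀ y : Matrix.symplecticGroup (Fin 3) F, y * zn = zn * y := fun y => act_ext fun x => by
          rw [map_mul, map_mul, Module.End.mul_apply, Module.End.mul_apply, hznx, hznx, map_neg]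
        have hacti : ∀ x, act (zn * g)⁻¹ x = -act g⁻¹ x := fun x => by
          have h1 : act (zn * g) (-act g⁻¹ x) = x := by rw [hact, map_neg, act_apply_inv, neg_neg]
          conv_lhs => rw [← h1]
          rw [act_inv_apply]
        have hnop : ∀ x, nop (zn * g) 2 x = -nop g (-2) x := fun x => by
          rw [nop_apply, nop_apply, trc_apply, trc_apply, hact, hacti]
          module
        have h3 : nop (zn * g) 2 ^ 3 = 0 := LinearMap.ext fun x => by
          have h := LinearMap.congr_fun ht3' x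
          rw [_root_.pow_three, Module.End.mul_apply, Module.End.mul_apply, LinearMap.zero_apply] at h
          rw [_root_.pow_three, Module.End.mul_apply, Module.End.mul_apply, hnop, hnop, hnop, map_neg, map_neg,
            map_neg, h, neg_zero, neg_zero, neg_zero, LinearMap.zero_apply]
        rcases twoCase (zn * g) h3 with ⟨u, v, huv, hu, hv⟩ | ⟨x, hx⟩
        · obtain ⟨x, hx⟩ := hypCase g ⟨u, v, huv, by
            rw [hact] at hu; simpa using Submodule.neg_mem _ hu, by
            rw [hact] at hv; simpa using Submodule.neg_mem _ hv⟩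
          exact ⟨x, Or.inl hx⟩
        · refine ⟨x, Or.inr ?_⟩
          have e : x * (zn * g) * x⁻¹ = zn * (x * g * x⁻¹) := by
            rw [← mul_assoc, hzc, mul_assoc zn, mul_assoc zn]
          rw [e] at hx
          have := m.K.mul_mem (m.K.inv_mem hznK) hx
          rwa [inv_mul_cancel_left] at this
    · by_cases hN : nop g t ^ 2 = 0
      · obtain ⟨x, hx⟩ := hypCase g (low_ne h2 ht4 (by rw [← pow_two]; exact hN))
        exact ⟨x, Or.inl hx⟩
      · obtain ⟨g', hg'K, h3', hN'⟩ := m.witness_ne ht4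
        obtain ⟨S, hS⟩ := conj_regular_ne h2 ht4 ht3' hN h3' hN'
        exact ⟨S, Or.inr (hS ▸ hg'K)⟩

end CfsgLib.NormalCover
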