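import Cfsg.Agent.NormalCover.Basic
import Cfsg.Agent.NormalCover.SympCenter

set_option autoImplicit false
set_option linter.style.haveILetI false

/-!
Self-adjoint endomorphisms of a six-dimensional symplectic space and conjugation by Lagrangian frames.
-/

namespace CfsgLib.NormalCover

open Matrix Module Polynomial CfsgLib.Forms

variable {F : Type*} [Field F]

/-- The six-dimensional space. -/
abbrev V6 (F : Type*) := Fin 3 ⊕ Fin 3 → F

/-- The symplectic form. -/
noncomputable abbrev B6 (F : Type*) [Field F] : LinearMap.BilinForm F (V6 F) := sympBilin 3 F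

/-- The action of the symplectic group. -/
noncomputable def act : Matrix.symplecticGroup (Fin 3) F →* Module.End F (V6 F) :=
  (Matrix.toLinAlgEquiv' : Matrix (Fin 3 ⊕ Fin 3) (Fin 3 ⊕ Fin 3) F ≃ₐ[F] _).toMonoidHom.comp
    (Matrix.symplecticGroup (Fin 3) F).subtype

theorem act_apply (g : Matrix.symplecticGroup (Fin 3) F) (x : V6 F) : act g x = g.1 *ᵥ x :=
  Matrix.toLinAlgEquiv'_apply g.1 x

theorem act_ext {g g' : Matrix.symplecticGroup (Fin 3) F} (h : ∀ x, act g x = act g' x) : g = g' :=
  sp_ext fun x => by rw [← act_apply, ← act_apply, h]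

theorem act_inv_apply (g : Matrix.symplecticGroup (Fin 3) F) (x : V6 F) : act g⁻¹ (act g x) = x := by
  rw [← Module.End.mul_apply, ← map_mul, inv_mul_cancel, map_one, Module.End.one_apply]

theorem act_apply_inv (g : Matrix.symplecticGroup (Fin 3) F) (x : V6 F) : act g (act g⁻¹ x) = x := by
  rw [← Module.End.mul_apply, ← map_mul, mul_inv_cancel, map_one, Module.End.one_apply]

theorem form_map (g : Matrix.symplecticGroup (Fin 3) F) (u v : V6 F) : B6 F (act g u) (act g v) = B6 F u v := by
  rw [sympBilin_apply, sympBilin_apply, act_apply, act_apply, sympForm_map]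

theorem form_adj (g : Matrix.symplecticGroup (Fin 3) F) (u v : V6 F) : B6 F (act g u) v = B6 F u (act g⁻¹ v) := by
  conv_lhs => rw [← act_apply_inv g v]
  rw [form_map]

theorem form_swap (u v : V6 F) : B6 F v u = - B6 F u v := by
  rw [sympBilin_apply, sympBilin_apply, sympForm_swap]

theorem form_self (u : V6 F) : B6 F u u = 0 := sympBilin_isAlt u

theorem form_sep {u : V6 F} (h : ∀ v, B6 F u v = 0) : u = 0 :=
  sympForm_sep u fun v => by rw [← sympBilin_apply]; exact h v

theorem form_sep' {u : V6 F} (h : ∀ v, B6 F v u = 0) : u = 0 :=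
  form_sep fun v => by rw [form_swap, h, neg_zero]

theorem exists_dual {u : V6 F} (hu : u ≠ 0) : ∃ v, B6 F u v = 1 := by
  obtain ⟨v, hv⟩ : ∃ v, B6 F u v ≠ 0 := by
    by_contra h
    push Not at h
    exact hu (form_sep h)
  exact ⟨(B6 F u v)⁻¹ • v, by rw [map_smul, smul_eq_mul, inv_mul_cancel₀ hv]⟩

theorem finrank_V6 : finrank F (V6 F) = 6 := by simp

/-- The space of vectors pairing to zero with a subspace. -/
theorem finrank_orth (W : Submodule F (V6 F)) : finrank F ((B6 F).orthogonal W) = 6 - finrank F W := by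
  rw [LinearMap.BilinForm.finrank_orthogonal sympBilin_nondegenerate, finrank_V6]

/-- A totally isotropic subspace has dimension at most three. -/
theorem finrank_ti_le {W : Submodule F (V6 F)} (h : ∀ x ∈ W, ∀ y ∈ W, B6 F x y = 0) : finrank F W ≤ 3 := by
  have hle : W ≤ (B6 F).orthogonal W := fun x hx y hy => h y hy x hx
  have h1 := Submodule.finrank_mono hle
  rw [finrank_orth] at h1
  omega

/-- A nondegenerate subspace is not of dimension three or one. -/
theorem finrank_nondeg_ne (h2 : (2 : F) ≠ 0) {W : Submodule F (V6 F)}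
    (hW : ∀ x ∈ W, (∀ y ∈ W, B6 F x y = 0) → x = 0) : finrank F W ≠ 3 ∧ finrank F W ≠ 1 := by
  have key : ∀ k, finrank F W = k → Odd k → False := by
    intro k hk hodd
    let b : Basis (Fin k) F W := Module.finBasisOfFinrankEq F W hk
    set S : Matrix (Fin k) (Fin k) F := Matrix.of fun i j => B6 F (b i : V6 F) (b j : V6 F) with hS
    have hST : Sᵀ = -S := by ext i j; simp [S, form_swap (b i : V6 F)]
    have hdet : S.det = 0 := by
      have h1 := congrArg Matrix.det hST
      rw [det_transpose, det_neg, Fintype.card_fin, hodd.neg_one_pow] at h1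
      exact (mul_eq_zero.1 (show (2 : F) * S.det = 0 by linear_combination h1)).resolve_left h2
    obtain ⟨c, hc0, hc⟩ := Matrix.exists_vecMul_eq_zero_iff.2 hdet
    set x : W := ∑ i, c i • b i with hx
    have hx0 : (x : V6 F) = 0 := by
      refine hW _ x.2 fun y hy => ?_
      have hy' : (⟨y, hy⟩ : W) = ∑ j, b.repr ⟨y, hy⟩ j • b j := (b.sum_repr _).symm
      have hy'' : y = ∑ j, b.repr ⟨y, hy⟩ j • (b j : V6 F) := by
        have h5 := congrArg W.subtype hy'
        simp only [map_sum, map_smul, Submodule.subtype_apply] at h5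
        exact h5
      rw [hy'', map_sum]
      refine Finset.sum_eq_zero fun j _ => ?_
      have := congrFun hc j
      simp only [vecMul, dotProduct, S, of_apply, Pi.zero_apply] at this
      simp only [map_smul, hx, Submodule.coe_sum, Submodule.coe_smul, map_sum, LinearMap.sum_apply,
        LinearMap.smul_apply, smul_eq_mul, this, mul_zero]
    exact hc0 (funext fun i => Fintype.linearIndependent_iff.1 b.linearIndependent c (Subtype.ext hx0) i)
  exact ⟨fun h => key 3 h (by decide), fun h => key 1 h odd_one⟩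

/-- Lagrangian frames with invertible pairing matrix are independent. -/
theorem frames_indep {a b : Fin 3 → V6 F} (haa : ∀ i j, B6 F (a i) (a j) = 0)
    (hbb : ∀ i j, B6 F (b i) (b j) = 0) (M : Matrix (Fin 3) (Fin 3) F) (hM : M.det ≠ 0)
    (hab : ∀ i j, B6 F (a i) (b j) = M i j) : LinearIndependent F (Sum.elim a b) := by
  set e : Fin 3 ⊕ Fin 3 → V6 F := Sum.elim a b
  rw [Fintype.linearIndependent_iff]
  intro c hc
  have hA : ∀ j, ∑ i, c (Sum.inl i) * M i j = 0 := by
    intro j
    have h := congrArg (fun x => B6 F x (b j)) hc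
    simp only [map_add, LinearMap.add_apply, map_sum, LinearMap.sum_apply, map_smul, LinearMap.smul_apply, smul_eq_mul, map_zero,
      LinearMap.zero_apply, Fintype.sum_sum_type, e, Sum.elim_inl, Sum.elim_inr, hab, hbb, mul_zero,
      Finset.sum_const_zero, add_zero] at h
    exact h
  have hB : ∀ i, ∑ j, M i j * c (Sum.inr j) = 0 := by
    intro i
    have h := congrArg (fun x => B6 F (a i) x) hc
    simp only [map_add, map_sum, map_smul, smul_eq_mul, map_zero, Fintype.sum_sum_type, e, Sum.elim_inl, Sum.elim_inr, hab,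
      haa, mul_zero, Finset.sum_const_zero, zero_add] at h
    simpa only [mul_comm] using h
  have h1 : (fun i => c (Sum.inl i)) = 0 := eq_zero_of_vecMul_eq_zero hM (funext hA)
  have h2 : (fun i => c (Sum.inr i)) = 0 := eq_zero_of_mulVec_eq_zero hM (funext hB)
  rintro (i | i)
  · exact congrFun h1 i
  · exact congrFun h2 i

theorem frames_span {a b : Fin 3 → V6 F} (haa : ∀ i j, B6 F (a i) (a j) = 0)
    (hbb : ∀ i j, B6 F (b i) (b j) = 0) (M : Matrix (Fin 3) (Fin 3) F) (hM : M.det ≠ 0)
    (hab : ∀ i j, B6 F (a i) (b j) = M i j) (x : V6 F) :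
    ∃ c d : Fin 3 → F, x = ∑ i, c i • a i + ∑ i, d i • b i := by
  have h := (frames_indep haa hbb M hM hab).span_eq_top_of_card_eq_finrank (by simp)
  obtain ⟨c, hc⟩ := (Submodule.mem_span_range_iff_exists_fun F).1 (show x ∈ Submodule.span F (Set.range (Sum.elim a b)) from h ▸ Submodule.mem_top)
  exact ⟨fun i => c (Sum.inl i), fun i => c (Sum.inr i), by rw [← hc, Fintype.sum_sum_type]; rfl⟩

/-- Two Lagrangian frames with the same pairing matrix are related by a symplectic transformation. -/
theorem exists_sp_of_frames {a b a' b' : Fin 3 → V6 F} (haa : ∀ i j, B6 F (a i) (a j) = 0)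
    (hbb : ∀ i j, B6 F (b i) (b j) = 0) (haa' : ∀ i j, B6 F (a' i) (a' j) = 0)
    (hbb' : ∀ i j, B6 F (b' i) (b' j) = 0) (M : Matrix (Fin 3) (Fin 3) F) (hM : M.det ≠ 0)
    (hab : ∀ i j, B6 F (a i) (b j) = M i j) (hab' : ∀ i j, B6 F (a' i) (b' j) = M i j) :
    ∃ S : Matrix.symplecticGroup (Fin 3) F, (∀ i, act S (a i) = a' i) ∧ (∀ i, act S (b i) = b' i) ∧
      ∀ (T T' : Module.End F (V6 F)), (∀ i, act S (T (a i)) = T' (a' i)) → (∀ i, act S (T (b i)) = T' (b' i)) →
        ∀ x, act S (T x) = T' (act S x) := by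
  set e : Fin 3 ⊕ Fin 3 → V6 F := Sum.elim a b
  set e' : Fin 3 ⊕ Fin 3 → V6 F := Sum.elim a' b'
  have hind : LinearIndependent F e := frames_indep haa hbb M hM hab
  let bas : Basis (Fin 3 ⊕ Fin 3) F (V6 F) := basisOfLinearIndependentOfCardEqFinrank hind (by simp)
  have hbas : ∀ i, bas i = e i := fun i => by simp [bas]
  let L : V6 F →ₗ[F] V6 F := bas.constr F e'
  have hL : ∀ i, L (e i) = e' i := fun i => by rw [← hbas, Basis.constr_basis]
  have hgram : ∀ i j, B6 F (e' i) (e' j) = B6 F (e i) (e j) := by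
    rintro (i | i) (j | j) <;> simp only [e, e', Sum.elim_inl, Sum.elim_inr, haa, hbb, haa', hbb', hab, hab']
    rw [form_swap (a' j), form_swap (a j), hab, hab']
  have hiso : ∀ u v, B6 F (L u) (L v) = B6 F u v := by
    have : (B6 F).compl₁₂ L L = B6 F := LinearMap.ext_basis bas bas fun i j => by
      rw [LinearMap.compl₁₂_apply, hbas, hbas, hL, hL, hgram]
    exact fun u v => LinearMap.congr_fun₂ this u v
  obtain ⟨S, hS⟩ := exists_sp_of_linearMap L fun u v => by rw [← sympBilin_apply, ← sympBilin_apply]; exact hiso u v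
  have hSL : ∀ x, act S x = L x := fun x => by rw [act_apply, hS]
  refine ⟨S, fun i => (hSL _).trans (hL (Sum.inl i)), fun i => (hSL _).trans (hL (Sum.inr i)), fun T T' ha hb x => ?_⟩
  refine LinearMap.congr_fun (bas.ext (f₁ := act S * T) (f₂ := T' * act S) fun i => ?_) x
  rw [hbas, Module.End.mul_apply, Module.End.mul_apply, hSL (e i), hL]
  rcases i with i | i
  · exact ha i
  · exact hb i

/-- Self-adjointness for the symplectic form. -/
def SA (T : Module.End F (V6 F)) : Prop := ∀ u v, B6 F (T u) v = B6 F u (T v)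

theorem SA.pow {T : Module.End F (V6 F)} (hT : SA T) : ∀ (k : ℕ) (u v : V6 F), B6 F ((T ^ k) u) v = B6 F u ((T ^ k) v)
  | 0, _, _ => by simp
  | k + 1, u, v => by
    rw [pow_succ', Module.End.mul_apply, hT, SA.pow hT k, ← Module.End.mul_apply, ← pow_succ, pow_succ']

theorem SA.aeval {T : Module.End F (V6 F)} (hT : SA T) (p : F[X]) : SA (Polynomial.aeval T p) := by
  intro u v
  induction p using Polynomial.induction_on' with
  | add p r hp hr => simp only [map_add, LinearMap.add_apply, hp, hr]
  | monomial k c =>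
    simp only [aeval_monomial, Module.End.mul_apply, Module.algebraMap_end_apply, map_smul, LinearMap.smul_apply,
      hT.pow k]

theorem SA.self_zero {T : Module.End F (V6 F)} (hT : SA T) (h2 : (2 : F) ≠ 0) (u : V6 F) : B6 F u (T u) = 0 := by
  have h : B6 F u (T u) = - B6 F u (T u) := by rw [← form_swap u (T u), hT u u]
  exact (mul_eq_zero.1 (show (2 : F) * B6 F u (T u) = 0 by linear_combination h)).resolve_left h2

theorem SA.orbit_zero {T : Module.End F (V6 F)} (hT : SA T) (h2 : (2 : F) ≠ 0) (p r : F[X]) (u : V6 F) :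
    B6 F (Polynomial.aeval T p u) (Polynomial.aeval T r u) = 0 := by
  rw [hT.aeval p, ← Module.End.mul_apply, ← map_mul]
  exact (hT.aeval _).self_zero h2 u

/-- The element `g + g⁻¹`. -/
noncomputable def trc (g : Matrix.symplecticGroup (Fin 3) F) : Module.End F (V6 F) := act g + act g⁻¹

theorem trc_apply (g : Matrix.symplecticGroup (Fin 3) F) (x : V6 F) : trc g x = act g x + act g⁻¹ x := rfl

theorem sa_trc (g : Matrix.symplecticGroup (Fin 3) F) : SA (trc g) := fun u v => by
  rw [trc_apply, trc_apply, map_add, LinearMap.add_apply, map_add, form_adj, form_adj, inv_inv, add_comm]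

theorem commute_trc (g : Matrix.symplecticGroup (Fin 3) F) : Commute (act g) (trc g) :=
  (Commute.refl _).add_right ((Commute.refl g).inv_right.map act)

theorem act_sq (g : Matrix.symplecticGroup (Fin 3) F) (x : V6 F) : act g (act g x) = trc g (act g x) - x := by
  rw [trc_apply, act_inv_apply, add_sub_cancel_right]

/-- The stabiliser of a subspace, given by the iff condition. -/
def spStab (W : Submodule F (V6 F)) : Subgroup (Matrix.symplecticGroup (Fin 3) F) where
  carrier := {g | ∀ v, act g v ∈ W ↔ v ∈ W}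
  mul_mem' {g h} (hg : ∀ v, act g v ∈ W ↔ v ∈ W) (hh : ∀ v, act h v ∈ W ↔ v ∈ W) := fun v => by
    rw [map_mul, Module.End.mul_apply, hg, hh]
  one_mem' := fun v => by rw [map_one, Module.End.one_apply]
  inv_mem' {g} (hg : ∀ v, act g v ∈ W ↔ v ∈ W) := fun v => by rw [← hg (act g⁻¹ v), act_apply_inv]

theorem mem_spStab_of_le {W : Submodule F (V6 F)} {g : Matrix.symplecticGroup (Fin 3) F}
    (h : ∀ v ∈ W, act g v ∈ W) : g ∈ spStab W := by
  intro v
  refine ⟨fun hv => ?_, h v⟩
  let L : W →ₗ[F] W := (act g).restrict h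
  have hinj : Function.Injective L := fun a b hab => Subtype.ext (by
    have := congrArg (fun z : W => act g⁻¹ (z : V6 F)) hab
    change act g⁻¹ (act g (a : V6 F)) = act g⁻¹ (act g (b : V6 F)) at this
    rwa [act_inv_apply, act_inv_apply] at this)
  obtain ⟨u, hu⟩ := (LinearMap.injective_iff_surjective.1 hinj) ⟨_, hv⟩
  have h1 : act g⁻¹ (act g (u : V6 F)) = act g⁻¹ (act g v) := congrArg (act g⁻¹) (congrArg Subtype.val hu)
  rw [act_inv_apply, act_inv_apply] at h1
  rw [← h1]
  exact u.2

/-- An invariant hyperbolic plane. -/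
def HasHyp (g : Matrix.symplecticGroup (Fin 3) F) : Prop :=
  ∃ u v : V6 F, B6 F u v = 1 ∧ act g u ∈ Submodule.span F {u, v} ∧ act g v ∈ Submodule.span F {u, v}

end CfsgLib.NormalCover
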