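import Cfsg.Agent.NormalCover.SpSixRegular

set_option autoImplicit false
set_option linter.style.haveILetI false

/-!
Elements with `(g + g⁻¹ - t) ^ 2 = 0`: an invariant hyperbolic plane, or a single class with two blocks of size three.
-/

namespace CfsgLib.NormalCover

open Matrix Module Polynomial

variable {F : Type*} [Field F]

theorem hyp_of_pair {g : Matrix.symplecticGroup (Fin 3) F} {z z' : V6 F} (h : B6 F z z' ≠ 0)
    (hz : act g z ∈ Submodule.span F {z, z'}) (hz' : act g z' ∈ Submodule.span F {z, z'}) : HasHyp g := by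
  refine ⟨z, (B6 F z z')⁻¹ • z', by rw [map_smul, smul_eq_mul, inv_mul_cancel₀ h], ?_, ?_⟩ <;>
    rw [Submodule.span_insert, Submodule.span_singleton_smul_eq (inv_ne_zero h).isUnit, ← Submodule.span_insert]
  · exact hz
  · rw [map_smul]; exact Submodule.smul_mem _ _ hz'

/-- The kernel of a square-zero self-adjoint map is not totally isotropic. -/
theorem ker_not_ti (h2 : (2 : F) ≠ 0) {N : Module.End F (V6 F)} (hN : SA N) (hsq : N * N = 0) :
    ∃ z z', N z = 0 ∧ N z' = 0 ∧ B6 F z z' ≠ 0 := by
  by_contra hc
  push Not at hc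
  set U := LinearMap.ker N with hU
  have hti : ∀ x ∈ U, ∀ y ∈ U, B6 F x y = 0 := fun x hx y hy =>
    hc x y (LinearMap.mem_ker.1 hx) (LinearMap.mem_ker.1 hy)
  have hUle := finrank_ti_le hti
  have hRU : LinearMap.range N ≤ U := by
    rintro _ ⟨x, rfl⟩
    rw [hU, LinearMap.mem_ker, ← Module.End.mul_apply, hsq, LinearMap.zero_apply]
  have hle := Submodule.finrank_mono hRU
  have hsum := LinearMap.finrank_range_add_finrank_ker N
  rw [finrank_V6, ← hU] at hsum
  have hr : finrank F (LinearMap.range N) = 3 := by omega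
  have hUR : LinearMap.range N = U := Submodule.eq_of_le_of_finrank_le hRU (by omega)
  let b : Basis (Fin 3) F (LinearMap.range N) := Module.finBasisOfFinrankEq F _ hr
  choose u hu using fun i => (b i).2
  set S : Matrix (Fin 3) (Fin 3) F := Matrix.of fun i j => B6 F (u i) (N (u j)) with hS
  have hST : Sᵀ = -S := by
    ext i j
    show B6 F (u j) (N (u i)) = -B6 F (u i) (N (u j))
    rw [← hN, form_swap]
  have hdet : S.det = 0 := by
    have h1 := congrArg Matrix.det hST
    rw [det_transpose, det_neg, Fintype.card_fin, show ((-1 : F) ^ 3) = -1 by norm_num] at h1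
    exact (mul_eq_zero.1 (show (2 : F) * S.det = 0 by linear_combination h1)).resolve_left h2
  obtain ⟨c, hc0, hcS⟩ := Matrix.exists_vecMul_eq_zero_iff.2 hdet
  have hx : N (∑ i, c i • u i) = 0 := form_sep fun y => by
    obtain ⟨d, hd⟩ : ∃ d : Fin 3 → F, N y = ∑ j, d j • N (u j) := by
      refine ⟨b.repr ⟨N y, LinearMap.mem_range_self N y⟩, ?_⟩
      have h := congrArg (LinearMap.range N).subtype (b.sum_repr ⟨N y, LinearMap.mem_range_self N y⟩)
      simp only [map_sum, map_smul, Submodule.subtype_apply, ← hu] at h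
      exact h.symm
    rw [hN, hd]
    simp only [map_sum, map_smul, LinearMap.sum_apply, LinearMap.smul_apply, smul_eq_mul]
    refine Finset.sum_eq_zero fun j _ => ?_
    have := congrFun hcS j
    simp only [vecMul, dotProduct, S, of_apply, Pi.zero_apply] at this
    rw [this, mul_zero]
  refine hc0 (funext (Fintype.linearIndependent_iff.1 b.linearIndependent c (Subtype.ext ?_)))
  rw [map_sum] at hx
  simp only [map_smul, hu] at hx
  simp only [Submodule.coe_sum, Submodule.coe_smul, ZeroMemClass.coe_zero]
  exact hx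

theorem hyp_of_kernel {g : Matrix.symplecticGroup (Fin 3) F} {t : F} {v : V6 F} (hv : nop g t v = 0)
    (h : B6 F v (act g v) ≠ 0) : HasHyp g := by
  refine hyp_of_pair h (Submodule.subset_span (Set.mem_insert_of_mem _ rfl)) ?_
  have hT : trc g (act g v) = t • act g v := by
    have h1 : nop g t (act g v) = 0 := by
      rw [← Module.End.mul_apply, ← (commute_nop g t).eq, Module.End.mul_apply, hv, map_zero]
    rwa [nop_apply, sub_eq_zero] at h1
  rw [act_sq, hT]
  exact Submodule.sub_mem _ (Submodule.smul_mem _ _ (Submodule.subset_span (Set.mem_insert_of_mem _ rfl)))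
    (Submodule.subset_span (Set.mem_insert _ _))

/-- Polarised: without such a vector the kernel is orthogonal to its image under `g - g⁻¹`. -/
theorem polar_kernel {g : Matrix.symplecticGroup (Fin 3) F} {t : F}
    (hall : ∀ v, nop g t v = 0 → B6 F v (act g v) = 0) {u v : V6 F} (hu : nop g t u = 0) (hv : nop g t v = 0) :
    B6 F u (act g v - act g⁻¹ v) = 0 := by
  have h := hall (u + v) (by rw [map_add, hu, hv, add_zero])
  simp only [map_add, LinearMap.add_apply, hall u hu, hall v hv, zero_add, add_zero] at h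
  rw [form_swap (act g u) v, form_adj] at h
  rw [map_sub]
  linear_combination h

theorem low_ne (h2 : (2 : F) ≠ 0) {g : Matrix.symplecticGroup (Fin 3) F} {t : F} (ht : t * t ≠ 4)
    (hN : nop g t * nop g t = 0) : HasHyp g := by
  by_contra hno
  have hall : ∀ v, nop g t v = 0 → B6 F v (act g v) = 0 := fun v hv => by
    by_contra h
    exact hno (hyp_of_kernel hv h)
  obtain ⟨z, z', hz, hz', hzz⟩ := ker_not_ti h2 (sa_nop g t) hN
  set w := act g z' - act g⁻¹ z' with hw
  have hcomm : Commute (act g⁻¹) (nop g t) := by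
    have hc : Commute (act g⁻¹) (trc g) := ((Commute.refl g).inv_left.map act).add_right (Commute.refl _)
    exact hc.sub_right ((Commute.one_right _).smul_right t)
  have hwk : nop g t w = 0 := by
    rw [hw, map_sub, ← Module.End.mul_apply, ← Module.End.mul_apply, ← (commute_nop g t).eq, ← hcomm.eq,
      Module.End.mul_apply, Module.End.mul_apply, hz', map_zero, map_zero, sub_zero]
  have hsq : act g w - act g⁻¹ w = (t * t - 4) • z' := by
    have e := LinearMap.congr_fun (trc_sq g) z'
    simp only [Module.End.mul_apply, LinearMap.sub_apply, LinearMap.smul_apply, Module.End.one_apply] at e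
    have hT : trc g z' = t • z' := by rw [← sub_eq_zero, ← nop_apply, hz']
    rw [hw, e, hT, map_smul, hT, smul_smul, ← sub_smul]
  have h := polar_kernel hall hz hwk
  rw [hsq, map_smul, smul_eq_mul] at h
  exact hzz ((mul_eq_zero.1 h).resolve_left (sub_ne_zero.2 ht))

theorem low_two (h2 : (2 : F) ≠ 0) {g : Matrix.symplecticGroup (Fin 3) F} (hN : nop g 2 * nop g 2 = 0) :
    HasHyp g ∨ ((act g - 1) ^ 3 = 0 ∧ (act g - 1) ^ 2 ≠ 0) := by
  by_contra hc
  push Not at hc
  obtain ⟨hno, hc⟩ := hc
  set N := nop g 2 with hNd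
  set n := act g - 1 with hn
  have hG' : act g⁻¹ * act g = 1 := by rw [← map_mul, inv_mul_cancel, map_one]
  have hnn : n * n = N * act g := by
    simp only [hn, hNd, nop, trc, sub_mul, mul_sub, add_mul, smul_mul_assoc, one_mul, mul_one, hG']
    module
  have hcN : Commute (act g) N := commute_nop g 2
  have hcn : Commute n N := hcN.sub_left (Commute.one_left _)
  have hall : ∀ v, N v = 0 → B6 F v (act g v) = 0 := fun v hv => by
    by_contra h
    exact hno (hyp_of_kernel hv h)
  -- the fixed space is totally isotropic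
  have hK : ∀ x ∈ LinearMap.ker n, ∀ y ∈ LinearMap.ker n, B6 F x y = 0 := by
    intro x hx y hy
    by_contra h
    have fix : ∀ {z}, z ∈ LinearMap.ker n → act g z = z := fun {z} hz => by
      rw [LinearMap.mem_ker, hn, LinearMap.sub_apply, sub_eq_zero] at hz
      exact hz
    exact hno (hyp_of_pair h (by rw [fix hx]; exact Submodule.subset_span (Set.mem_insert _ _))
      (by rw [fix hy]; exact Submodule.subset_span (Set.mem_insert_of_mem _ rfl)))
  have hk3 := finrank_ti_le hK
  set U := LinearMap.ker N with hU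
  -- `n` maps the kernel of `N` into its range
  have hperp : (B6 F).orthogonal U = LinearMap.range N := by
    refine (Submodule.eq_of_le_of_finrank_le ?_ ?_).symm
    · rintro _ ⟨x, rfl⟩
      intro u hu
      show B6 F u (N x) = 0
      rw [← sa_nop g 2, LinearMap.mem_ker.1 hu, map_zero, LinearMap.zero_apply]
    · have h := LinearMap.finrank_range_add_finrank_ker N
      rw [finrank_V6, ← hU] at h
      rw [finrank_orth]
      omega
  have hsub : ∀ v ∈ U, n v ∈ LinearMap.range N := by
    intro v hv
    rw [← hperp]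
    intro u hu
    show B6 F u (n v) = 0
    have hnv : n (n v) = 0 := by
      rw [← Module.End.mul_apply, hnn, Module.End.mul_apply, ← Module.End.mul_apply N, ← hcN.eq, Module.End.mul_apply,
        LinearMap.mem_ker.1 hv, map_zero]
    have hinv : act g⁻¹ v = v - n v := by
      have h1 : act g (v - n v) = v := by
        have e : act g (v - n v) = (v - n v) + n (v - n v) := by simp [hn]
        rw [e, map_sub, hnv, sub_zero, sub_add_cancel]
      conv_lhs => rw [← h1]
      rw [act_inv_apply]
    have h := polar_kernel hall (LinearMap.mem_ker.1 hu) (LinearMap.mem_ker.1 hv)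
    have e : act g v - act g⁻¹ v = (2 : F) • n v := by
      rw [hinv, show act g v = v + n v by simp [hn]]
      module
    rw [e, map_smul, smul_eq_mul] at h
    exact (mul_eq_zero.1 h).resolve_left h2
  have hn0ne : n ≠ 0 := fun h => by
    have htop : LinearMap.ker n = ⊤ := by rw [h, LinearMap.ker_zero]
    rw [htop, finrank_top, finrank_V6] at hk3
    omega
  by_cases hn2 : n * n = 0
  · -- then `N = 0`
    have hN0 : N = 0 := by
      rw [hnn] at hn2
      have hG : act g * act g⁻¹ = 1 := by rw [← map_mul, mul_inv_cancel, map_one]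
      rw [← mul_one N, ← hG, ← mul_assoc, hn2, zero_mul]
    refine hn0ne (LinearMap.ext fun v => ?_)
    have h := hsub v (by rw [hU, hN0, LinearMap.ker_zero]; exact Submodule.mem_top)
    rw [hN0, LinearMap.range_zero, Submodule.mem_bot] at h
    rw [h, LinearMap.zero_apply]
  suffices h3 : n ^ 3 = 0 by exact hn2 (by rw [← pow_two]; exact hc h3)
  -- dimensions
  have hd4 : 4 ≤ finrank F U := by
    by_contra hlt
    obtain ⟨z, z', hz, hz', hzz⟩ := ker_not_ti h2 (sa_nop g 2) hN
    have h := LinearMap.finrank_range_add_finrank_ker N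
    rw [finrank_V6, ← hU] at h
    have hRU : LinearMap.range N ≤ U := by
      rintro _ ⟨x, rfl⟩
      rw [hU, LinearMap.mem_ker, ← Module.End.mul_apply, hN, LinearMap.zero_apply]
    have hUR : LinearMap.range N = U := Submodule.eq_of_le_of_finrank_le hRU (by omega)
    have hz'' : z' ∈ (B6 F).orthogonal U := by rw [hperp, hUR]; exact hz'
    exact hzz (hz'' z hz)
  have hk2 : finrank F (LinearMap.ker n) ≤ 2 := by
    by_contra hlt
    refine hn2 (LinearMap.ext fun x => ?_)
    have heq : LinearMap.ker n = (B6 F).orthogonal (LinearMap.ker n) := by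
      refine Submodule.eq_of_le_of_finrank_le (fun x hx y hy => hK y hy x hx) ?_
      rw [finrank_orth]
      omega
    rw [Module.End.mul_apply, LinearMap.zero_apply]
    have hmem : n x ∈ LinearMap.ker n := by
      rw [heq]
      intro k hk
      show B6 F k (n x) = 0
      have hk1 : act g k = k := by
        rw [LinearMap.mem_ker, hn, LinearMap.sub_apply, sub_eq_zero] at hk
        exact hk
      have e : B6 F k (act g x) = B6 F k x := by
        conv_lhs => rw [← hk1]
        rw [form_map]
      rw [hn, LinearMap.sub_apply, Module.End.one_apply, map_sub, e, sub_self]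
    exact LinearMap.mem_ker.1 hmem
  have himg : Submodule.map n U = LinearMap.range N := by
    refine Submodule.eq_of_le_of_finrank_le (fun y hy => ?_) ?_
    · obtain ⟨v, hv, rfl⟩ := Submodule.mem_map.1 hy
      exact hsub v hv
    · have h := LinearMap.finrank_range_add_finrank_ker (n.domRestrict U)
      rw [LinearMap.range_domRestrict] at h
      have hle : finrank F (LinearMap.ker (n.domRestrict U)) ≤ finrank F (LinearMap.ker n) := by
        refine LinearMap.finrank_le_finrank_of_injective (f := LinearMap.codRestrict (LinearMap.ker n)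
          (U.subtype.comp (LinearMap.ker (n.domRestrict U)).subtype) fun x => x.2) ?_
        intro a b hab
        refine Subtype.ext (Subtype.ext ?_)
        exact congrArg (fun z : LinearMap.ker n => (z : V6 F)) hab
      have hN' := LinearMap.finrank_range_add_finrank_ker N
      rw [finrank_V6, ← hU] at hN'
      omega
  have hnN : n * N = 0 := LinearMap.ext fun x => by
    have hmem : N x ∈ Submodule.map n U := himg ▸ LinearMap.mem_range_self N x
    obtain ⟨v, hv, hvx⟩ := Submodule.mem_map.1 hmem
    rw [Module.End.mul_apply, ← hvx, ← Module.End.mul_apply, hnn, Module.End.mul_apply,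
      ← Module.End.mul_apply N, ← hcN.eq, Module.End.mul_apply, LinearMap.mem_ker.1 hv, map_zero, LinearMap.zero_apply]
  rw [pow_succ', pow_two, hnn, ← mul_assoc, hnN, zero_mul]

/-- All elements with two Jordan blocks of size three are conjugate. -/
theorem conj_order_three (h2 : (2 : F) ≠ 0) {g g' : Matrix.symplecticGroup (Fin 3) F}
    (h3 : (act g - 1) ^ 3 = 0) (hn : (act g - 1) ^ 2 ≠ 0) (h3' : (act g' - 1) ^ 3 = 0) (hn' : (act g' - 1) ^ 2 ≠ 0) :
    ∃ S : Matrix.symplecticGroup (Fin 3) F, S * g * S⁻¹ = g' := by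
  set M : Matrix (Fin 3) (Fin 3) F := !![0, 0, 1; 1, -1, 0; 1, 0, 0] with hMdef
  have hM : M.det ≠ 0 := by simp [M, det_fin_three]
  have frame : ∀ {g : Matrix.symplecticGroup (Fin 3) F}, (act g - 1) ^ 3 = 0 → (act g - 1) ^ 2 ≠ 0 →
      ∃ u y : V6 F, (∀ i j : Fin 3, B6 F (((act g - 1) ^ (i : ℕ)) u) (((act g - 1) ^ (j : ℕ)) u) = 0) ∧
        (∀ i j : Fin 3, B6 F (((act g - 1) ^ (i : ℕ)) y) (((act g - 1) ^ (j : ℕ)) y) = 0) ∧
        ∀ i j : Fin 3, B6 F (((act g - 1) ^ (i : ℕ)) u) (((act g - 1) ^ (j : ℕ)) y) = M i j := by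
    intro g h3 hn
    set n := act g - 1 with hnd
    have hH : act g⁻¹ = 1 - n + n ^ 2 := by
      have h1 : act g * (1 - n + n ^ 2) = 1 := by
        have e : act g * (1 - n + n ^ 2) = 1 + n ^ 3 := by
          rw [show act g = 1 + n by rw [hnd]; abel]
          simp only [pow_succ, pow_zero, one_mul, mul_sub, mul_add, add_mul, sub_mul, mul_one, mul_assoc]
          abel
        rw [e, h3, add_zero]
      have h4 : act g⁻¹ * act g = 1 := by rw [← map_mul, inv_mul_cancel, map_one]
      exact left_inv_eq_right_inv h4 h1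
    have z3 : ∀ x, n (n (n x)) = 0 := fun x => by
      have := LinearMap.congr_fun h3 x
      simpa [pow_succ] using this
    have adj : ∀ x y, B6 F (n x) y = -B6 F x (n y) + B6 F x (n (n y)) := by
      intro x y
      have e : B6 F (act g x) y = B6 F x (act g⁻¹ y) := form_adj g x y
      rw [hH] at e
      rw [show act g x = x + n x by simp [hnd]] at e
      simp [pow_two] at e
      linear_combination e
    have adj2 : ∀ x y, B6 F (n (n x)) y = B6 F x (n (n y)) := by
      intro x y
      simp [adj, z3]
    have self2 : ∀ x, B6 F x (n (n x)) = 0 := fun x => by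
      have h : B6 F x (n (n x)) = -B6 F x (n (n x)) := by rw [← form_swap, adj2]
      exact (mul_eq_zero.1 (show (2 : F) * B6 F x (n (n x)) = 0 by linear_combination h)).resolve_left h2
    obtain ⟨u₀, hu₀⟩ : ∃ u, n (n u) ≠ 0 := by
      by_contra hc; push Not at hc
      exact hn (LinearMap.ext fun x => by simpa [pow_two] using hc x)
    obtain ⟨y₀, hy₀⟩ := exists_dual hu₀
    rw [adj2] at hy₀
    set u := u₀ + (-B6 F u₀ (n u₀) / 2) • n y₀ with hu
    have swap : B6 F y₀ (n (n u₀)) = -1 := by rw [← adj2, form_swap, hy₀]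
    have huy : B6 F u (n (n y₀)) = 1 := by
      simp [hu, hy₀, adj, z3]
    have huu : B6 F u (n u) = 0 := by
      simp [hu, adj, z3, self2, hy₀, swap, mul_add, add_mul]
      field_simp
      ring
    have swap' : B6 F y₀ (n (n u)) = -1 := by rw [← adj2, form_swap, huy]
    set y₁ := y₀ + (B6 F y₀ (n y₀) / 2) • n u with hy1
    have huy1 : B6 F u (n (n y₁)) = 1 := by simp [hy1, huy, z3]
    have hyy1 : B6 F y₁ (n y₁) = 0 := by
      simp [hy1, adj, z3, self2, huy, huu, swap', mul_add, add_mul]
      field_simp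
      ring
    set a1 := -B6 F u (n y₁) with ha1
    set a2 := -B6 F u y₁ - B6 F u (n y₁) * a1 with ha2
    set y := y₁ + a1 • n y₁ + a2 • n (n y₁) with hy
    have e0 : B6 F u y = 0 := by simp [hy, huy1, ha2, ha1]; ring
    have e1 : B6 F u (n y) = 0 := by simp [hy, huy1, ha1, z3]
    have e2 : B6 F u (n (n y)) = 1 := by simp [hy, huy1, z3]
    have eyy : B6 F y (n y) = 0 := by
      simp [hy, hyy1, adj, z3, self2]
    have key : ∀ {x z : V6 F}, B6 F x z = 0 → B6 F x (n z) = 0 → B6 F x (n (n z)) = 0 →
        ∀ i j : Fin 3, B6 F ((n ^ (i : ℕ)) x) ((n ^ (j : ℕ)) z) = 0 := by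
      intro x z c0 c1 c2 i j
      fin_cases i <;> fin_cases j <;> simp [pow_two, adj, z3, c0, c1, c2]
    refine ⟨u, y, key (form_self u) huu (self2 u), key (form_self y) eyy (self2 y), fun i j => ?_⟩
    fin_cases i <;> fin_cases j <;> simp [M, pow_two, adj, z3, e0, e1, e2]
  obtain ⟨u, y, huu, hyy, huy⟩ := frame h3 hn
  obtain ⟨u', y', huu', hyy', huy'⟩ := frame h3' hn'
  obtain ⟨S, hSa, hSb, hS⟩ := exists_sp_of_frames huu hyy huu' hyy' M hM huy huy'
  refine ⟨S, act_ext fun x => ?_⟩
  have hint : ∀ x, act S (act g x) = act g' (act S x) := by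
    have step : ∀ (u u' : V6 F), (∀ i : Fin 3, act S (((act g - 1) ^ (i : ℕ)) u) = ((act g' - 1) ^ (i : ℕ)) u') →
        ∀ i : Fin 3, act S (act g (((act g - 1) ^ (i : ℕ)) u)) = act g' (((act g' - 1) ^ (i : ℕ)) u') := by
      intro u u' hu i
      have key : ∀ (g : Matrix.symplecticGroup (Fin 3) F) (u : V6 F),
          act g (((act g - 1) ^ (i : ℕ)) u) = ((act g - 1) ^ (i : ℕ)) u + ((act g - 1) ^ ((i : ℕ) + 1)) u := by
        intro g u
        rw [pow_succ', Module.End.mul_apply, LinearMap.sub_apply, Module.End.one_apply]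
        abel
      rw [key g u, key g' u', map_add, hu]
      congr 1
      rcases (show (i : ℕ) + 1 < 3 ∨ (i : ℕ) + 1 = 3 by omega) with hlt | heq
      · exact hu ⟨(i : ℕ) + 1, hlt⟩
      · rw [heq, h3, h3', LinearMap.zero_apply, LinearMap.zero_apply, map_zero]
    exact hS (act g) (act g') (step u u' hSa) (step y y' hSb)
  rw [map_mul, map_mul, Module.End.mul_apply, Module.End.mul_apply, hint, act_apply_inv]

end CfsgLib.NormalCover
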