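import Cfsg.Agent.ClassCountU.Unitary
import Cfsg.Agent.Forms.UnitaryOrder
import Cfsg.Agent.UnitOrders.Witness

set_option autoImplicit false
set_option linter.style.haveILetI false

/-!
Irreducible self-dual polynomials have odd degree; orthogonality of kernels for an isometry of a Hermitian space.
-/

namespace CfsgLib.NormalCover

open Polynomial Matrix
open CfsgLib.ClassCount (Item IsItem)
open CfsgLib.Forms (hermSesq)

variable {F : Type*} [Field F] [Fintype F] {q : ℕ} {σ : F →+* F}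

/-- The conjugate reciprocal of a root of a fixed polynomial is a root. -/
theorem aeval_inv_root_pow (hF : Fintype.card F = q ^ 2) (hσ : ∀ x, σ x = x ^ q) (hσσ : ∀ x, σ (σ x) = x) {P : F[X]}
    (hP : IsItem ((P, 1) : Item F)) (hstar : SemisimpleSU.star σ P = P) {E : Type*} [Field E] [Algebra F E] {x : E}
    (hxP : aeval x P = 0) : aeval (x⁻¹ ^ q) P = 0 := by
  classical
  obtain ⟨p, hp⟩ := CharP.exists F
  obtain ⟨k, hpp, hk⟩ := FiniteField.card F p
  obtain ⟨l, -, hl⟩ := (Nat.dvd_prime_pow hpp).1 (show q ∣ p ^ (k : ℕ) by rw [← hk, hF, sq]; exact dvd_mul_right q q)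
  haveI := Fact.mk hpp
  haveI : CharP E p := charP_of_injective_algebraMap (algebraMap F E).injective p
  let φ : E →+* E := iterateFrobenius E p l
  have hφ : ∀ z : E, φ z = z ^ q := fun z => by rw [show φ z = z ^ p ^ l from iterateFrobenius_def p l z, hl]
  have hx0 : x ≠ 0 := by
    intro h0
    rw [h0, ← coeff_zero_eq_aeval_zero'] at hxP
    exact hP.coeff_ne ((map_eq_zero_iff _ (algebraMap F E).injective).1 hxP)
  have h1 : aeval x (P.map σ).reverse = 0 := by
    have h := congrArg (aeval x) hstar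
    rw [hxP, SemisimpleSU.star, map_mul, aeval_C] at h
    exact (mul_eq_zero.1 h).resolve_left
      (fun h' => inv_ne_zero ((map_ne_zero σ).2 hP.coeff_ne) ((map_eq_zero_iff _ (algebraMap F E).injective).1 h'))
  have h2 : eval₂ (algebraMap F E) x⁻¹ (P.map σ) = 0 := by
    letI : Invertible x⁻¹ := ⟨x, mul_inv_cancel₀ hx0, inv_mul_cancel₀ hx0⟩
    have h := eval₂_reverse_mul_pow (algebraMap F E) x⁻¹ (P.map σ)
    rw [show (⅟x⁻¹ : E) = x from rfl, ← aeval_def, h1, zero_mul] at h
    exact h.symm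
  rw [eval₂_map] at h2
  have h3 := congrArg φ h2
  rw [hom_eval₂, map_zero, hφ] at h3
  have e : φ.comp ((algebraMap F E).comp σ) = algebraMap F E := RingHom.ext fun a => by
    show φ (algebraMap F E (σ a)) = algebraMap F E a
    rw [hφ, ← map_pow, ← hσ, hσσ]
  rw [e] at h3
  rw [aeval_def]
  exact h3

/-- An irreducible polynomial fixed by the conjugate-reciprocal map has odd degree. -/
theorem odd_of_selfDual (hF : Fintype.card F = q ^ 2) (hσ : ∀ x, σ x = x ^ q) (hσσ : ∀ x, σ (σ x) = x) {P : F[X]}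
    (hP : IsItem ((P, 1) : Item F)) (hstar : SemisimpleSU.star σ P = P) : Odd P.natDegree := by
  classical
  haveI : Fact (Irreducible P) := ⟨hP.irr⟩
  haveI := ClassCount.finite_adjoinRoot hP.monic.ne_zero
  haveI : Finite (AdjoinRoot P) := Module.finite_of_finite F
  obtain ⟨p, hp⟩ := CharP.exists F
  obtain ⟨k, hpp, hk⟩ := FiniteField.card F p
  obtain ⟨l, -, hl⟩ := (Nat.dvd_prime_pow hpp).1 (show q ∣ p ^ (k : ℕ) by rw [← hk, hF, sq]; exact dvd_mul_right q q)
  haveI := Fact.mk hpp
  set E := AdjoinRoot P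
  haveI : CharP E p := charP_of_injective_algebraMap (algebraMap F E).injective p
  let φ : E →+* E := iterateFrobenius E p l
  have hφ : ∀ z : E, φ z = z ^ q := fun z => by rw [show φ z = z ^ p ^ l from iterateFrobenius_def p l z, hl]
  set x : E := AdjoinRoot.root P with hx
  have hxP : aeval x P = 0 := by rw [hx, AdjoinRoot.aeval_eq, AdjoinRoot.mk_self]
  have hx0 : x ≠ 0 := by
    intro h0
    rw [h0, ← coeff_zero_eq_aeval_zero'] at hxP
    exact hP.coeff_ne ((map_eq_zero_iff _ (algebraMap F E).injective).1 hxP)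
  set Q := Fintype.card F with hQ
  let fr : E ≃ₐ[F] E := FiniteField.frobeniusAlgEquivOfAlgebraic F E
  have hfr : ∀ (j : ℕ) (z : E), (fr ^ j) z = z ^ Q ^ j := fun j z => by
    rw [AlgEquiv.coe_pow, FiniteField.coe_frobeniusAlgEquivOfAlgebraic_iterate]
  set y : E := x⁻¹ ^ q with hy
  have hyP : aeval y P = 0 := aeval_inv_root_pow hF hσ hσσ hP hstar hxP
  obtain ⟨j, hj⟩ : ∃ j : ℕ, y = (fr ^ j) x := by
    let f : E →ₐ[F] E := AdjoinRoot.liftAlgHom P (Algebra.ofId F E) y hyP
    obtain ⟨j, hj⟩ := (FiniteField.bijective_frobeniusAlgHom_pow F E).2 f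
    refine ⟨j.1, ?_⟩
    have h := DFunLike.congr_fun hj x
    simp only at h
    rw [show f x = y from AdjoinRoot.liftAlgHom_root .., AlgHom.coe_pow, FiniteField.coe_frobeniusAlgHom, pow_iterate] at h
    rw [hfr]
    exact h.symm
  have hxx : (fr ^ (2 * j)) x = fr x := by
    have e1 : (fr ^ j) y = y⁻¹ ^ q := by
      rw [hy, map_pow, map_inv₀, ← hj, hy]
    rw [two_mul, pow_add, AlgEquiv.mul_apply, ← hj, e1, hy, ← inv_pow, inv_inv, ← pow_mul,
      show fr x = (fr ^ 1) x by rw [pow_one], hfr, pow_one]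
    show x ^ (q * q) = x ^ Q
    rw [show Q = q * q by rw [← sq]; exact hF]
  have hpow : fr ^ (2 * j) = fr ^ 1 := by
    rw [pow_one]
    exact AlgEquiv.coe_algHom_injective (AdjoinRoot.algHom_ext hxx)
  have hmod := pow_eq_pow_iff_modEq.1 hpow
  rw [FiniteField.orderOf_frobeniusAlgEquivOfAlgebraic, ClassCount.finrank_adjoinRoot hP.monic.ne_zero] at hmod
  rcases Nat.even_or_odd P.natDegree with he | ho
  · exfalso
    obtain ⟨r, hr⟩ := he
    have := hmod.of_dvd (show 2 ∣ P.natDegree from ⟨r, by omega⟩)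
    simp [Nat.ModEq] at this
  · exact ho

variable {n : ℕ} {T : (Fin n → F) →ₗ[F] (Fin n → F)}

omit [Fintype F] in
theorem herm_pow (hT : ∀ u v, hermSesq σ n (T u) (T v) = hermSesq σ n u v) (i : ℕ) (u v : Fin n → F) :
    hermSesq σ n ((T ^ i) u) ((T ^ i) v) = hermSesq σ n u v := by
  induction i with
  | zero => rfl
  | succ i ih => rw [pow_succ', Module.End.mul_apply, Module.End.mul_apply, hT, ih]

omit [Fintype F] in
/-- The kernel of `f(T)` is orthogonal to the image of `f*(T)`. -/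
theorem herm_ker_star (hT : ∀ u v, hermSesq σ n (T u) (T v) = hermSesq σ n u v) {f : F[X]} {x : Fin n → F}
    (hx : aeval T f x = 0) (y : Fin n → F) : hermSesq σ n x (aeval T (SemisimpleSU.star σ f) y) = 0 := by
  have hrev : (f.map σ).reverse = ∑ i ∈ Finset.range (f.natDegree + 1), C (σ (f.coeff i)) * X ^ (f.natDegree - i) := by
    rw [reverse, natDegree_map]
    conv_lhs => rw [(f.map σ).as_sum_range_C_mul_X_pow, natDegree_map]
    rw [show ∀ (N : ℕ) (t : Finset ℕ) (g : ℕ → F[X]), reflect N (∑ i ∈ t, g i) = ∑ i ∈ t, reflect N (g i) from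
      fun N t g => map_sum (AddMonoidHom.mk' (reflect N) (fun a b => reflect_add a b N)) g t]
    refine Finset.sum_congr rfl fun i hi => ?_
    rw [reflect_C_mul_X_pow, coeff_map, revAt_le (Nat.lt_succ_iff.1 (Finset.mem_range.1 hi))]
  have h0 : hermSesq σ n x (aeval T (f.map σ).reverse y) = 0 := by
    have h1 : hermSesq σ n (aeval T f x) ((T ^ f.natDegree) y) = 0 := by rw [hx]; simp
    rw [hrev, map_sum, LinearMap.sum_apply, map_sum]
    conv_lhs at h1 => arg 1; arg 2; arg 1; arg 2; rw [f.as_sum_range_C_mul_X_pow]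
    rw [map_sum, LinearMap.sum_apply, map_sum, LinearMap.sum_apply] at h1
    rw [← h1]
    refine Finset.sum_congr rfl fun i hi => ?_
    have hle := Nat.lt_succ_iff.1 (Finset.mem_range.1 hi)
    simp only [map_mul, aeval_C, aeval_X_pow, Algebra.algebraMap_eq_smul_one, smul_mul_assoc, one_mul,
      LinearMap.smul_apply, map_smul, LinearMap.map_smulₛₗ, smul_eq_mul]
    congr 1
    conv_rhs => rw [← Nat.add_sub_cancel' hle, pow_add, Module.End.mul_apply, herm_pow hT]
  rw [SemisimpleSU.star, map_mul, aeval_C, Algebra.algebraMap_eq_smul_one, smul_mul_assoc, one_mul,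
    LinearMap.smul_apply, map_smul, h0, smul_zero]

omit [Fintype F] in
theorem herm_ker_coprime (hT : ∀ u v, hermSesq σ n (T u) (T v) = hermSesq σ n u v) {f g : F[X]}
    (hfg : IsCoprime (SemisimpleSU.star σ f) g) {x y : Fin n → F} (hx : aeval T f x = 0) (hy : aeval T g y = 0) :
    hermSesq σ n x y = 0 := by
  obtain ⟨a, b, hab⟩ := hfg
  have h := congrArg (fun z : F[X] => aeval T z y) hab
  simp only [map_add, map_mul, map_one, LinearMap.add_apply, Module.End.mul_apply, hy, map_zero, add_zero,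
    Module.End.one_apply] at h
  have hc : aeval T a (aeval T (SemisimpleSU.star σ f) y) = aeval T (SemisimpleSU.star σ f) (aeval T a y) := by
    rw [← Module.End.mul_apply, ← map_mul, mul_comm, map_mul, Module.End.mul_apply]
  rw [← h, hc]
  exact herm_ker_star hT hx _

/-- A conjugate-orthogonal pair of norms. -/
theorem exists_norm_eq (hF : Fintype.card F = q ^ 2) (hσ : ∀ x, σ x = x ^ q) {r : F} (hr : r ≠ 0) (hfix : σ r = r) :
    ∃ t : F, σ t * t = r ∧ t ≠ 0 := by
  have h := CfsgLib.Forms.card_norm_fiber hF r hr (by rw [← hσ]; exact hfix)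
  obtain ⟨⟨t, ht⟩⟩ : Nonempty {x : F // x ^ (q + 1) = r} := (Nat.card_pos_iff.1 (by omega)).1
  exact ⟨t, by rw [hσ, ← pow_succ]; exact ht, fun h0 => hr (by rw [← ht, h0, zero_pow (by omega)])⟩

/-- A determinant-one isometry as an element of `SU`. -/
theorem exists_su_of_iso (hσ : ∀ x, σ x = x ^ q) (g : CfsgLib.Forms.isoGroup (hermSesq σ n))
    (hdet : LinearMap.det g.1.toLinearMap = 1) :
    ∃ A : Cfsg.SU n F q, ∀ x, Cfsg.slToMat n F A.1 *ᵥ x = g.1 x := by
  refine ⟨⟨⟨((((CfsgLib.Forms.guEquivIso hσ n).symm g).1 : GL (Fin n) F) : Matrix (Fin n) (Fin n) F), ?_⟩,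
    ((CfsgLib.Forms.guEquivIso hσ n).symm g).2⟩, fun x => ?_⟩
  · show (LinearMap.toMatrix' g.1.toLinearMap).det = 1
    rw [LinearMap.det_toMatrix', hdet]
  · exact LinearMap.toMatrix'_mulVec g.1.toLinearMap x

end CfsgLib.NormalCover
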