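import Cfsg.Agent.NormalCover.Basic
import Cfsg.Agent.NormalCover.UnitaryCommon
import Cfsg.Agent.Forms.Witt

set_option autoImplicit false
set_option linter.style.haveILetI false

/-!
Moving nondegenerate lines and totally isotropic subspaces by determinant-one isometries of a Hermitian space.
-/

namespace CfsgLib.NormalCover

open Matrix Module
open CfsgLib.Forms (hermSesq isoGroup)

variable {F : Type*} [Field F] {q : ℕ}

/-- The matrix of an element of `SU`. -/
def suHom (n : ℕ) (F : Type*) [Field F] (q : ℕ) : Cfsg.SU n F q →* Matrix (Fin n) (Fin n) F :=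
  (Cfsg.slToMat n F).comp (Cfsg.SU n F q).subtype

variable {n : ℕ}

theorem suHom_det (g : Cfsg.SU n F q) : (suHom n F q g).det = 1 := g.1.2

theorem suHom_inv_mul (x : Cfsg.SU n F q) (v : Fin n → F) : suHom n F q x⁻¹ *ᵥ (suHom n F q x *ᵥ v) = v := by
  rw [mulVec_mulVec, ← map_mul, inv_mul_cancel, map_one, one_mulVec]

theorem suHom_mul_inv (x : Cfsg.SU n F q) (v : Fin n → F) : suHom n F q x *ᵥ (suHom n F q x⁻¹ *ᵥ v) = v := by
  rw [mulVec_mulVec, ← map_mul, mul_inv_cancel, map_one, one_mulVec]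

theorem suHom_injective : Function.Injective (suHom n F q) := fun g h e => Subtype.ext (Subtype.ext e)

/-- The stabiliser of a subspace. -/
def subStab (W : Submodule F (Fin n → F)) : Subgroup (Cfsg.SU n F q) where
  carrier := {g | ∀ v, suHom n F q g *ᵥ v ∈ W ↔ v ∈ W}
  mul_mem' {g h} (hg : ∀ v, suHom n F q g *ᵥ v ∈ W ↔ v ∈ W) (hh : ∀ v, suHom n F q h *ᵥ v ∈ W ↔ v ∈ W) := fun v => by
    rw [map_mul, ← mulVec_mulVec, hg, hh]
  one_mem' := fun v => by rw [map_one, one_mulVec]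
  inv_mem' {g} (hg : ∀ v, suHom n F q g *ᵥ v ∈ W ↔ v ∈ W) := fun v => by
    rw [← hg (suHom n F q g⁻¹ *ᵥ v), suHom_mul_inv]

theorem mem_subStab_of_le {W : Submodule F (Fin n → F)} {g : Cfsg.SU n F q}
    (h : ∀ v ∈ W, suHom n F q g *ᵥ v ∈ W) : g ∈ subStab W := by
  intro v
  refine ⟨fun hv => ?_, h v⟩
  let L : W →ₗ[F] W := (Matrix.mulVecLin (suHom n F q g)).restrict h
  have hinj : Function.Injective L := fun a b hab => Subtype.ext (by
    have := congrArg (fun z : W => suHom n F q g⁻¹ *ᵥ (z : Fin n → F)) hab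
    change suHom n F q g⁻¹ *ᵥ (suHom n F q g *ᵥ (a : Fin n → F)) = suHom n F q g⁻¹ *ᵥ (suHom n F q g *ᵥ (b : Fin n → F)) at this
    rwa [suHom_inv_mul, suHom_inv_mul] at this)
  obtain ⟨u, hu⟩ := (LinearMap.injective_iff_surjective.1 hinj) ⟨_, hv⟩
  have h1 : suHom n F q g *ᵥ (u : Fin n → F) = suHom n F q g *ᵥ v := congrArg Subtype.val hu
  have h2 := congrArg (suHom n F q g⁻¹ *ᵥ ·) h1
  simp only [suHom_inv_mul] at h2
  rw [← h2]
  exact u.2

variable {σ : F →+* F}

theorem herm_suHom (hσ : ∀ x, σ x = x ^ q) (g : Cfsg.SU n F q) (u v : Fin n → F) :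
    hermSesq σ n (suHom n F q g *ᵥ u) (suHom n F q g *ᵥ v) = hermSesq σ n u v := by
  rw [← CfsgLib.Forms.hermForm_eq_hermSesq hσ, ← CfsgLib.Forms.hermForm_eq_hermSesq hσ]
  exact g.2 v u

variable [Fintype F]

theorem conj_ne_id (hF : Fintype.card F = q ^ 2) (hσ : ∀ x, σ x = x ^ q) : σ ≠ RingHom.id F := by
  obtain ⟨τ, hτ, -⟩ := CfsgLib.FieldEmb.exists_conj hF
  intro h
  have hq : 2 ≤ q := by
    have h1 : 1 < q ^ 2 := hF ▸ Fintype.one_lt_card
    by_contra hlt
    have : q ^ 2 ≤ 1 ^ 2 := Nat.pow_le_pow_left (by omega) 2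
    omega
  have hall : ∀ x : F, x ^ q = x := fun x => by rw [← hσ, h]; rfl
  have hsub : (Finset.univ : Finset F).val ≤ (Polynomial.X ^ q - Polynomial.X : Polynomial F).roots := by
    refine Multiset.le_iff_subset Finset.univ.nodup |>.2 fun x _ => ?_
    rw [Polynomial.mem_roots (FiniteField.X_pow_card_sub_X_ne_zero F (by omega)), Polynomial.IsRoot.def]
    simp [hall]
  have hle := (Multiset.card_le_card hsub).trans (Polynomial.card_roots' _)
  rw [FiniteField.X_pow_card_sub_X_natDegree_eq F (by omega)] at hle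
  simp only [Finset.card_val, Finset.card_univ, hF] at hle
  nlinarith

omit [Fintype F] in
/-- A diagonal isometry with prescribed determinant. -/
theorem exists_diag_iso (i₀ : Fin n) {c : F} (hc : σ c * c = 1) :
    ∃ h : isoGroup (hermSesq σ n), LinearMap.det h.1.toLinearMap = c ∧
      ∀ x j, h.1 x j = (if j = i₀ then c else 1) * x j := by
  classical
  let d : Fin n → F := fun j => if j = i₀ then c else 1
  have hd : ∀ j, σ (d j) * d j = 1 := fun j => by simp only [d]; split <;> simp [hc]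
  have hdet : (Matrix.diagonal d).det = c := by rw [det_diagonal]; simp [d]
  let L : (Fin n → F) →ₗ[F] (Fin n → F) := Matrix.toLin' (Matrix.diagonal d)
  have hL : ∀ x j, L x j = d j * x j := fun x j => by simp [L, mulVec_diagonal]
  have hinj : Function.Injective L := fun a b hab => funext fun j => by
    have := congrFun hab j
    rw [hL, hL] at this
    exact mul_left_cancel₀ (fun h0 => by simpa [h0] using hd j) this
  refine ⟨⟨LinearEquiv.ofInjectiveEndo L hinj, fun u v => ?_⟩, ?_, hL⟩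
  · show hermSesq σ n (L u) (L v) = _
    rw [CfsgLib.Forms.hermSesq_apply, CfsgLib.Forms.hermSesq_apply]
    refine Finset.sum_congr rfl fun j _ => ?_
    rw [hL, hL, map_mul]
    linear_combination (σ (u j) * v j) * hd j
  · exact (LinearMap.det_toLin' _).trans hdet

/-- An isometric map between subspaces extends to an element of `SU`, if the target can absorb determinants. -/
theorem exists_su_map (hF : Fintype.card F = q ^ 2) (hσ : ∀ x, σ x = x ^ q) (hσσ : ∀ x, σ (σ x) = x)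
    (X Y : Submodule F (Fin n → F)) (φ : X ≃ₗ[F] Y)
    (hφ : ∀ x x' : X, hermSesq σ n (φ x : Fin n → F) (φ x' : Fin n → F) = hermSesq σ n (x : Fin n → F) (x' : Fin n → F))
    (hfix : ∀ c : F, σ c * c = 1 → ∃ h : isoGroup (hermSesq σ n),
      LinearMap.det h.1.toLinearMap = c ∧ ∀ y ∈ Y, h.1 y ∈ Y) :
    ∃ A : Cfsg.SU n F q, ∀ x ∈ X, suHom n F q A *ᵥ x ∈ Y := by
  have hS := CfsgLib.Forms.hermSesq_isSymm hσσ n
  have hB : (hermSesq σ n).Nondegenerate := ⟨CfsgLib.Forms.hermSesq_sep n, fun y hy => by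
    refine CfsgLib.Forms.hermSesq_sep (σ := σ) n y fun x => ?_
    rw [← hS.eq, hy, map_zero]⟩
  obtain ⟨g, hg, hgX⟩ := CfsgLib.Forms.witt_hermitian (conj_ne_id hF hσ) hσσ _ hS hB X Y φ hφ
  let g' : isoGroup (hermSesq σ n) := ⟨g, hg⟩
  have hn := CfsgLib.Forms.isoDet_norm σ n g'
  rw [CfsgLib.Forms.isoDet_val] at hn
  set c := LinearMap.det g'.1.toLinearMap with hc
  obtain ⟨h, hdet, hh⟩ := hfix (σ c) (by rw [hσσ]; exact hn)
  obtain ⟨A, hA⟩ := exists_su_of_iso hσ (h * g') (by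
    show LinearMap.det ((h.1.toLinearMap).comp g'.1.toLinearMap) = 1
    rw [LinearMap.det_comp, hdet, ← hc, mul_comm, hn])
  refine ⟨A, fun x hx => ?_⟩
  show Cfsg.slToMat n F A.1 *ᵥ x ∈ Y
  rw [hA]
  show h.1 (g x) ∈ Y
  exact hh _ (by rw [show g x = (φ ⟨x, hx⟩ : Fin n → F) from hgX ⟨x, hx⟩]; exact (φ _).2)

/-- An element with a nondegenerate eigenvector is conjugate into a line stabiliser. -/
theorem conj_mem_lineStab (hF : Fintype.card F = q ^ 2) (hσ : ∀ x, σ x = x ^ q) (hσσ : ∀ x, σ (σ x) = x)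
    (g : Cfsg.SU n F q) (i₀ : Fin n) {v : Fin n → F} {a : F} (hv : hermSesq σ n v v ≠ 0)
    (hg : suHom n F q g *ᵥ v = a • v) :
    ∃ x : Cfsg.SU n F q, x * g * x⁻¹ ∈ lineStab (suHom n F q) (Pi.single i₀ 1) := by
  classical
  have hS := CfsgLib.Forms.hermSesq_isSymm hσσ n
  obtain ⟨t, ht, ht0⟩ := exists_norm_eq hF hσ (inv_ne_zero hv) (by rw [map_inv₀, hS.eq])
  set w := t • v with hw
  set e : Fin n → F := Pi.single i₀ 1 with he
  have hww : hermSesq σ n w w = 1 := by
    simp only [hw, LinearMap.map_smulₛₗ, map_smul, LinearMap.smul_apply, smul_eq_mul, RingHom.id_apply]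
    linear_combination (hermSesq σ n v v) * ht + mul_inv_cancel₀ hv
  have hee : hermSesq σ n e e = 1 := by
    rw [CfsgLib.Forms.hermSesq_apply]; simp [e, Pi.single_apply]
  have hw0 : w ≠ 0 := fun h => by rw [h] at hww; simp at hww
  have he0 : e ≠ 0 := fun h => by rw [h] at hee; simp at hee
  obtain ⟨A, hA⟩ := exists_su_map hF hσ hσσ (F ∙ w) (F ∙ e)
    ((LinearEquiv.toSpanNonzeroSingleton F _ w hw0).symm.trans (LinearEquiv.toSpanNonzeroSingleton F _ e he0))
    (fun x x' => by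
      obtain ⟨r, rfl⟩ := (LinearEquiv.toSpanNonzeroSingleton F _ w hw0).surjective x
      obtain ⟨r', rfl⟩ := (LinearEquiv.toSpanNonzeroSingleton F _ w hw0).surjective x'
      rw [LinearEquiv.trans_apply, LinearEquiv.symm_apply_apply, LinearEquiv.trans_apply, LinearEquiv.symm_apply_apply]
      simp [LinearEquiv.toSpanNonzeroSingleton_apply, hww, hee])
    (fun c hc => by
      obtain ⟨h, h1, h2⟩ := exists_diag_iso i₀ hc
      refine ⟨h, h1, fun y hy => ?_⟩
      obtain ⟨r, rfl⟩ := Submodule.mem_span_singleton.1 hy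
      refine Submodule.mem_span_singleton.2 ⟨c * r, funext fun j => ?_⟩
      rw [h2]
      by_cases hj : j = i₀
      · subst hj; simp [e]
      · simp [e, hj])
  obtain ⟨r, hr⟩ := Submodule.mem_span_singleton.1 (hA w (Submodule.mem_span_singleton_self w))
  have hr0 : r ≠ 0 := by
    rintro rfl
    have := congrArg (suHom n F q A⁻¹ *ᵥ ·) hr
    simp only [suHom_inv_mul, zero_smul, mulVec_zero] at this
    exact hw0 this.symm
  have ha0 : a ≠ 0 := by
    rintro rfl
    have := congrArg (suHom n F q g⁻¹ *ᵥ ·) hg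
    simp only [suHom_inv_mul, zero_smul, mulVec_zero] at this
    exact hv (by simp [this])
  refine ⟨A, a, ha0, ?_⟩
  rw [map_mul, map_mul, ← mulVec_mulVec, ← mulVec_mulVec]
  have h1 : suHom n F q A⁻¹ *ᵥ e = r⁻¹ • w := by
    rw [show e = r⁻¹ • (suHom n F q A *ᵥ w) by rw [← hr, smul_smul, inv_mul_cancel₀ hr0, one_smul],
      mulVec_smul, suHom_inv_mul]
  have h2 : suHom n F q g *ᵥ w = a • w := by rw [hw, mulVec_smul, hg, smul_comm]
  rw [h1, mulVec_smul, mulVec_smul, h2, mulVec_smul, ← hr, smul_comm r⁻¹ a, smul_smul r⁻¹, inv_mul_cancel₀ hr0,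
    one_smul]

/-- A permutation isometry of determinant one. -/
theorem exists_perm_su (hσ : ∀ x, σ x = x ^ q) (π : Equiv.Perm (Fin n)) (hπ : Equiv.Perm.sign π = 1) :
    ∃ A : Cfsg.SU n F q, ∀ x, suHom n F q A *ᵥ x = x ∘ π := by
  have hmat : ∀ x : Fin n → F, (π.permMatrix F) *ᵥ x = x ∘ π := fun x => Matrix.permMatrix_mulVec ..
  have hdet : (π.permMatrix F).det = 1 := by rw [Matrix.det_permutation, hπ]; simp
  refine ⟨⟨⟨π.permMatrix F, hdet⟩, fun u v => ?_⟩, hmat⟩
  show Cfsg.hermForm n F q (π.permMatrix F *ᵥ u) (π.permMatrix F *ᵥ v) = _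
  rw [hmat, hmat, Cfsg.hermForm, Cfsg.hermForm]
  exact Equiv.sum_comp π (fun i => u i * v i ^ q)

theorem lineStab_ne_top (hσ : ∀ x, σ x = x ^ q) {π : Equiv.Perm (Fin n)} (hπ : Equiv.Perm.sign π = 1) {i₀ j : Fin n}
    (hj : j ≠ i₀) (hji : π j = i₀) :
    lineStab (suHom n F q) (Pi.single i₀ (1 : F)) ≠ ⊤ := by
  intro h
  obtain ⟨A, hA⟩ := exists_perm_su (F := F) (q := q) hσ π hπ
  obtain ⟨a, -, ha⟩ := (h ▸ Subgroup.mem_top A : A ∈ lineStab (suHom n F q) (Pi.single i₀ (1 : F)))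
  rw [hA] at ha
  have := congrFun ha j
  simp [hji, hj] at this

theorem center_scalar (hn : 3 ≤ n) (hF : Fintype.card F = q ^ 2) (hσ : ∀ x, σ x = x ^ q) {z : Cfsg.SU n F q}
    (hz : z ∈ Subgroup.center (Cfsg.SU n F q)) :
    ∃ c : F, c ≠ 0 ∧ ∀ v, suHom n F q z *ᵥ v = c • v := by
  obtain ⟨c, hc⟩ := CfsgLib.UnitOrders.scalar_of_mem_center hσ hF hn hz
  have hmat : suHom n F q z = c • 1 := hc
  refine ⟨c, fun h0 => ?_, fun v => by rw [hmat, smul_mulVec, one_mulVec]⟩
  have := suHom_det z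
  haveI hne : Nonempty (Fin n) := ⟨⟨0, by omega⟩⟩
  rw [hmat, h0, zero_smul, det_zero] at this
  exact zero_ne_one this

theorem center_le_lineStab (hn : 3 ≤ n) (hF : Fintype.card F = q ^ 2) (hσ : ∀ x, σ x = x ^ q) (v : Fin n → F) :
    Subgroup.center (Cfsg.SU n F q) ≤ lineStab (suHom n F q) v := fun z hz => by
  obtain ⟨c, hc0, hc⟩ := center_scalar hn hF hσ hz
  exact ⟨c, hc0, hc v⟩

end CfsgLib.NormalCover
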