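import Cfsg.Agent.NormalCover.Linear
import Cfsg.Agent.NormalCover.UnitaryMoves

set_option autoImplicit false
set_option linter.style.haveILetI false

/-!
The cubic extension as an algebra of matrices inside a three-dimensional Hermitian space, and its normaliser.
-/

namespace CfsgLib.NormalCover

open Polynomial Matrix Module
open CfsgLib.ClassCount (Item IsItem dataOf Decomp size)
open CfsgLib.Forms (hermSesq)
open CfsgLib.InvNorm (tau)

variable {F : Type*} [Field F] {q : ℕ} {σ : F →+* F}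

theorem commute_aeval_left {Y Z : Matrix (Fin 3) (Fin 3) F} (hY : Commute Y Z) (p : F[X]) :
    Commute (aeval Y p) Z := by
  induction p using Polynomial.induction_on' with
  | add p r hp hr => rw [map_add]; exact hp.add_left hr
  | monomial k c =>
    rw [aeval_monomial]
    exact (Algebra.commute_algebraMap_left c Z).mul_left (hY.pow_left k)

theorem semiconj_aeval {U Y Z : Matrix (Fin 3) (Fin 3) F} (hU : U * Y = Z * U) (p : F[X]) :
    U * aeval Y p = aeval Z p * U := by
  induction p using Polynomial.induction_on' with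
  | add p r hp hr => rw [map_add, map_add, mul_add, add_mul, hp, hr]
  | monomial k c =>
    rw [aeval_monomial, aeval_monomial, ← Algebra.smul_def, ← Algebra.smul_def, mul_smul_comm, smul_mul_assoc]
    exact congrArg (c • ·) (SemiconjBy.pow_right (show SemiconjBy U Y Z from hU) k).eq

section Emb

variable {h : F[X]} [Fact (Irreducible h)]

/-- Polynomials in a matrix annihilated by `h`. -/
noncomputable def emb (X₀ : Matrix (Fin 3) (Fin 3) F) (hX : aeval X₀ h = 0) :
    AdjoinRoot h →ₐ[F] Matrix (Fin 3) (Fin 3) F :=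
  Ideal.Quotient.liftₐ (Ideal.span {h}) (aeval X₀) fun a ha => by
    obtain ⟨b, rfl⟩ := Ideal.mem_span_singleton.1 ha
    rw [map_mul, hX, zero_mul]

variable {X₀ : Matrix (Fin 3) (Fin 3) F} {hX : aeval X₀ h = 0}

theorem emb_mk (p : F[X]) : emb X₀ hX (AdjoinRoot.mk h p) = aeval X₀ p := rfl

theorem emb_root : emb X₀ hX (AdjoinRoot.root h) = X₀ := by
  rw [← AdjoinRoot.mk_X, emb_mk, aeval_X]

theorem emb_injective : Function.Injective (emb X₀ hX) := (emb X₀ hX).toRingHom.injective

theorem aeval_emb (z : AdjoinRoot h) (p : F[X]) : aeval (emb X₀ hX z) p = emb X₀ hX (aeval z p) :=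
  aeval_algHom_apply _ _ _

theorem emb_commute (z : AdjoinRoot h) : Commute (emb X₀ hX z) X₀ := by
  have := (Commute.all z (AdjoinRoot.root h)).map (emb X₀ hX)
  rwa [emb_root] at this

theorem commute_emb {M : Matrix (Fin 3) (Fin 3) F} (hM : Commute M X₀) (z : AdjoinRoot h) :
    Commute M (emb X₀ hX z) := by
  induction z using AdjoinRoot.induction_on with
  | _ p => rw [emb_mk]; exact (commute_aeval_left hM.symm p).symm

/-- Every vector is the image of a nonzero one under the field of a matrix with irreducible cubic polynomial. -/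
theorem emb_orbit (hd : h.natDegree = 3) {v : Fin 3 → F} (hv : v ≠ 0) :
    Function.Bijective fun z : AdjoinRoot h => emb X₀ hX z *ᵥ v := by
  haveI := (AdjoinRoot.powerBasis (Fact.out : Irreducible h).ne_zero).finite
  let L : AdjoinRoot h →ₗ[F] (Fin 3 → F) :=
    { toFun := fun z => emb X₀ hX z *ᵥ v
      map_add' := fun a b => by rw [map_add, add_mulVec]
      map_smul' := fun c a => by rw [map_smul, smul_mulVec, RingHom.id_apply] }
  have hinj : Function.Injective L := (injective_iff_map_eq_zero L).2 fun z hz => by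
    by_contra hz0
    refine hv ?_
    have := congrArg (emb X₀ hX z⁻¹ *ᵥ ·) (show emb X₀ hX z *ᵥ v = 0 from hz)
    simp only [mulVec_mulVec, ← map_mul, inv_mul_cancel₀ hz0, map_one, one_mulVec, mulVec_zero] at this
    exact this
  refine ⟨hinj, (LinearMap.injective_iff_surjective_of_finrank_eq_finrank ?_).1 hinj⟩
  rw [ClassCount.finrank_adjoinRoot (Fact.out : Irreducible h).ne_zero, hd, Module.finrank_fin_fun]

theorem exists_emb_of_commute (hd : h.natDegree = 3) {M : Matrix (Fin 3) (Fin 3) F} (hM : Commute M X₀) :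
    ∃ z, emb X₀ hX z = M := by
  have he : (Pi.single 0 1 : Fin 3 → F) ≠ 0 := fun h0 => by simpa using congrFun h0 0
  obtain ⟨z, hz⟩ := (emb_orbit (X₀ := X₀) (hX := hX) hd he).2 (M *ᵥ Pi.single 0 1)
  refine ⟨z, Matrix.ext_iff_mulVec.2 fun w => ?_⟩
  obtain ⟨z', rfl⟩ := (emb_orbit (X₀ := X₀) (hX := hX) hd he).2 w
  simp only at hz ⊢
  rw [mulVec_mulVec, mulVec_mulVec, ← map_mul, mul_comm, map_mul, ← mulVec_mulVec, hz, mulVec_mulVec,
    (commute_emb hM z').eq]

/-- The elements of `SU` normalising the field generated by `X₀`. -/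
def torusNorm (X₀ : Matrix (Fin 3) (Fin 3) F) : Subgroup (Cfsg.SU 3 F q) where
  carrier := {g | ∀ M, Commute (suHom 3 F q g * M * suHom 3 F q g⁻¹) X₀ ↔ Commute M X₀}
  mul_mem' {a b} (ha : ∀ M, Commute (suHom 3 F q a * M * suHom 3 F q a⁻¹) X₀ ↔ Commute M X₀)
      (hb : ∀ M, Commute (suHom 3 F q b * M * suHom 3 F q b⁻¹) X₀ ↔ Commute M X₀) := fun M => by
    rw [_root_.mul_inv_rev, map_mul, map_mul, ← hb M, ← ha (suHom 3 F q b * M * suHom 3 F q b⁻¹)]
    simp only [mul_assoc]
  one_mem' := fun M => by simp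
  inv_mem' {a} (ha : ∀ M, Commute (suHom 3 F q a * M * suHom 3 F q a⁻¹) X₀ ↔ Commute M X₀) := fun M => by
    rw [inv_inv, ← ha (suHom 3 F q a⁻¹ * M * suHom 3 F q a)]
    simp [mul_assoc, ← map_mul]
    simp [← mul_assoc, ← map_mul]

theorem mem_torusNorm [Finite F] (hd : h.natDegree = 3) (hX : aeval X₀ h = 0) {g : Cfsg.SU 3 F q}
    (hg : Commute (suHom 3 F q g * X₀ * suHom 3 F q g⁻¹) X₀) : g ∈ torusNorm X₀ := by
  set G := suHom 3 F q g with hG
  set G' := suHom 3 F q g⁻¹ with hG'
  have hGG : G' * G = 1 := by rw [hG, hG', ← map_mul, inv_mul_cancel, map_one]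
  have hG'G : G * G' = 1 := by rw [hG, hG', ← map_mul, mul_inv_cancel, map_one]
  have hfwd : ∀ M, Commute M X₀ → Commute (G * M * G') X₀ := by
    intro M hM
    obtain ⟨z, rfl⟩ := exists_emb_of_commute (hX := hX) hd hM
    induction z using AdjoinRoot.induction_on with
    | _ p =>
      rw [emb_mk, semiconj_aeval (show G * X₀ = G * X₀ * G' * G by rw [mul_assoc _ G' G, hGG, mul_one]) p, mul_assoc,
        hG'G, mul_one]
      exact commute_aeval_left hg p
  intro M
  refine ⟨fun hM => ?_, hfwd M⟩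
  let f : {M : Matrix (Fin 3) (Fin 3) F // Commute M X₀} → {M : Matrix (Fin 3) (Fin 3) F // Commute M X₀} :=
    fun M => ⟨G * M.1 * G', hfwd M.1 M.2⟩
  have hcancel : ∀ {a b : Matrix (Fin 3) (Fin 3) F}, G * a * G' = G * b * G' → a = b := fun {a b} hab => by
    have := congrArg (fun z => G' * z * G) hab
    simpa only [mul_assoc, hGG, mul_one, ← mul_assoc G' G, one_mul] using this
  have hinj : Function.Injective f := fun a b hab => Subtype.ext (hcancel (congrArg Subtype.val hab))
  obtain ⟨N, hN⟩ := Finite.injective_iff_surjective.1 hinj ⟨_, hM⟩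
  rw [← hcancel (congrArg Subtype.val hN)]
  exact N.2

variable [Fintype F]

theorem finite_root : Finite (AdjoinRoot h) :=
  haveI := (AdjoinRoot.powerBasis (Fact.out : Irreducible h).ne_zero).finite
  Module.finite_of_finite F

theorem pow_card_cube (hd : h.natDegree = 3) (z : AdjoinRoot h) : z ^ Fintype.card F ^ 3 = z := by
  haveI := finite_root (h := h)
  haveI : Fintype (AdjoinRoot h) := Fintype.ofFinite _
  have := FiniteField.pow_card z
  rwa [← Nat.card_eq_fintype_card, CfsgLib.LinearOrders.card_adjoinRoot (Fact.out : Irreducible h).ne_zero, hd] at this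

theorem pow_card_mul (hd : h.natDegree = 3) (z : AdjoinRoot h) (j : ℕ) : z ^ Fintype.card F ^ (3 * j) = z := by
  induction j with
  | zero => simp
  | succ j ih => rw [Nat.mul_succ, pow_add, pow_mul, ih, pow_card_cube hd]

theorem scalar_of_fixed (hd : h.natDegree = 3) {z : AdjoinRoot h} {j : ℕ} (hj : ¬ 3 ∣ j)
    (hz : z ^ Fintype.card F ^ j = z) : ∃ c : F, algebraMap F (AdjoinRoot h) c = z := by
  refine CfsgLib.LinearOrders.exists_algebraMap_eq z ?_
  rw [← Nat.div_add_mod j 3, pow_add, pow_mul, pow_card_mul hd] at hz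
  rcases (show j % 3 = 1 ∨ j % 3 = 2 by omega) with h1 | h2
  · rwa [h1, pow_one] at hz
  · rw [h2] at hz
    conv_lhs => rw [← hz, ← pow_mul, ← pow_succ, pow_card_cube hd]

theorem root_not_scalar (hd : h.natDegree = 3) (c : F) : algebraMap F (AdjoinRoot h) c ≠ AdjoinRoot.root h := by
  intro hc
  have h1 : AdjoinRoot.mk h (X - C c) = 0 := by
    rw [map_sub, AdjoinRoot.mk_X, AdjoinRoot.mk_C, ← hc, AdjoinRoot.algebraMap_eq, sub_self]
  have h2 := natDegree_le_of_dvd (AdjoinRoot.mk_eq_zero.1 h1) (X_sub_C_ne_zero c)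
  rw [natDegree_X_sub_C, hd] at h2
  omega

/-- A root of `h` in its root field is a Frobenius image of the root. -/
theorem exists_pow_of_root (hd : h.natDegree = 3) {y : AdjoinRoot h} (hy : aeval y h = 0) :
    ∃ j < 3, AdjoinRoot.root h ^ Fintype.card F ^ j = y := by
  haveI := finite_root (h := h)
  haveI := (AdjoinRoot.powerBasis (Fact.out : Irreducible h).ne_zero).finite
  let f : AdjoinRoot h →ₐ[F] AdjoinRoot h := AdjoinRoot.liftAlgHom h (Algebra.ofId F _) y hy
  obtain ⟨j, hj⟩ := (FiniteField.bijective_frobeniusAlgHom_pow F (AdjoinRoot h)).2 f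
  refine ⟨j.1, j.2.trans_eq ((ClassCount.finrank_adjoinRoot (Fact.out : Irreducible h).ne_zero).trans hd), ?_⟩
  have h1 := DFunLike.congr_fun hj (AdjoinRoot.root h)
  simp only at h1
  rw [show f (AdjoinRoot.root h) = y from AdjoinRoot.liftAlgHom_root .., AlgHom.coe_pow,
    FiniteField.coe_frobeniusAlgHom, pow_iterate] at h1
  exact h1

theorem aeval_pow_card (j : ℕ) (p : F[X]) :
    AdjoinRoot.mk h p ^ Fintype.card F ^ j = aeval (AdjoinRoot.root h ^ Fintype.card F ^ j) p := by
  haveI := finite_root (h := h)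
  have hfr : ∀ w : AdjoinRoot h, (FiniteField.frobeniusAlgHom F (AdjoinRoot h) ^ j) w =
      w ^ Fintype.card F ^ j := fun w => by
    rw [AlgHom.coe_pow, FiniteField.coe_frobeniusAlgHom, pow_iterate]
  rw [← hfr, ← AdjoinRoot.aeval_eq, ← aeval_algHom_apply, hfr]

/-- The root of a fixed cubic has norm one over the field with `q ^ 3` elements. -/
theorem root_norm (hF : Fintype.card F = q ^ 2) (hσ : ∀ x, σ x = x ^ q) (hσσ : ∀ x, σ (σ x) = x)
    (hP : IsItem ((h, 1) : Item F)) (hd : h.natDegree = 3) (hstar : SemisimpleSU.star σ h = h) :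
    AdjoinRoot.root h ^ (q ^ 3 + 1) = 1 := by
  classical
  haveI := finite_root (h := h)
  set x := AdjoinRoot.root h with hx
  have hxP : aeval x h = 0 := by rw [hx, AdjoinRoot.aeval_eq, AdjoinRoot.mk_self]
  have hx0 : x ≠ 0 := fun h0 => by
    rw [h0, ← coeff_zero_eq_aeval_zero'] at hxP
    exact hP.coeff_ne ((map_eq_zero_iff _ (algebraMap F (AdjoinRoot h)).injective).1 hxP)
  obtain ⟨j, hjlt, hxj⟩ := exists_pow_of_root hd (aeval_inv_root_pow hF hσ hσσ hP hstar hxP)
  obtain ⟨p, hp⟩ := CharP.exists F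
  obtain ⟨k, hpp, hk⟩ := FiniteField.card F p
  obtain ⟨l, -, hl⟩ := (Nat.dvd_prime_pow hpp).1 (show q ∣ p ^ (k : ℕ) by rw [← hk, hF, sq]; exact dvd_mul_right q q)
  haveI := Fact.mk hpp
  haveI : CharP (AdjoinRoot h) p := charP_of_injective_algebraMap (algebraMap F (AdjoinRoot h)).injective p
  have hinj : ∀ {z : AdjoinRoot h}, z ^ q = 1 → z = 1 := by
    intro z hz
    have h1 : iterateFrobenius (AdjoinRoot h) p l z = iterateFrobenius (AdjoinRoot h) p l 1 := by
      rw [iterateFrobenius_def, map_one, ← hl, hz]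
    exact RingHom.injective _ h1
  have hno : ¬ x ^ (q + 1) = 1 := by
    intro h1
    obtain ⟨c, hc⟩ := CfsgLib.LinearOrders.exists_algebraMap_eq (F := F) x (by
      obtain ⟨t, ht⟩ : q + 1 ∣ q ^ 2 - 1 := ⟨q - 1, by rw [← Nat.sq_sub_sq, one_pow]⟩
      rw [hF, ← Nat.sub_add_cancel (hF ▸ Fintype.card_pos : 1 ≤ q ^ 2), pow_succ, ht, pow_mul, h1, one_pow, one_mul])
    exact root_not_scalar hd c hc
  rw [hF, inv_pow, ← hx] at hxj
  interval_cases j
  · exfalso
    rw [pow_zero, pow_one] at hxj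
    refine hno ?_
    rw [pow_succ']
    conv_lhs => arg 1; rw [hxj]
    exact inv_mul_cancel₀ (pow_ne_zero _ hx0)
  · exfalso
    refine hno (hinj ?_)
    rw [← pow_mul, show (q + 1) * q = (q ^ 2) ^ 1 + q by ring, pow_add, hxj, inv_mul_cancel₀ (pow_ne_zero _ hx0)]
  · refine hinj ?_
    rw [← pow_mul, show (q ^ 3 + 1) * q = (q ^ 2) ^ 2 + q by ring, pow_add, hxj, inv_mul_cancel₀ (pow_ne_zero _ hx0)]

/-- The adjoint acts as the field automorphism of order two. -/
theorem tau_emb (hF : Fintype.card F = q ^ 2) (hσ : ∀ x, σ x = x ^ q) (hroot : AdjoinRoot.root h ^ (q ^ 3 + 1) = 1)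
    (hU : tau σ X₀ * X₀ = 1) (z : AdjoinRoot h) : tau σ (emb X₀ hX z) = emb X₀ hX (z ^ q ^ 3) := by
  obtain ⟨p, hp⟩ := CharP.exists F
  obtain ⟨k, hpp, hk⟩ := FiniteField.card F p
  obtain ⟨l, -, hl⟩ := (Nat.dvd_prime_pow hpp).1 (show q ^ 3 ∣ p ^ ((k : ℕ) * 3) by
    rw [pow_mul, ← hk, hF]; exact pow_dvd_pow_of_dvd (by rw [sq]; exact dvd_mul_right q q) 3)
  haveI := Fact.mk hpp
  haveI : CharP (AdjoinRoot h) p := charP_of_injective_algebraMap (algebraMap F (AdjoinRoot h)).injective p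
  let ψ : AdjoinRoot h →+* AdjoinRoot h := iterateFrobenius (AdjoinRoot h) p l
  have hψ : ∀ w, ψ w = w ^ q ^ 3 := fun w => by rw [show ψ w = w ^ p ^ l from iterateFrobenius_def p l w, hl]
  induction z using AdjoinRoot.induction_on with
  | _ f =>
    have ht : tau σ X₀ = emb X₀ hX (AdjoinRoot.root h ^ q ^ 3) := by
      have h1 : emb X₀ hX (AdjoinRoot.root h ^ q ^ 3) * X₀ = 1 := by
        conv_lhs => arg 2; rw [← emb_root (X₀ := X₀) (hX := hX)]
        rw [← map_mul, ← pow_succ, hroot, map_one]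
      exact left_inv_eq_right_inv hU (mul_eq_one_comm.1 h1)
    have hev : AdjoinRoot.mk h f ^ q ^ 3 = aeval (AdjoinRoot.root h ^ q ^ 3) (f.map σ) := by
      rw [← hψ, ← AdjoinRoot.aeval_eq, aeval_def, hom_eval₂, hψ, aeval_def, eval₂_map]
      congr 1
      ext c
      show ψ (algebraMap F (AdjoinRoot h) c) = algebraMap F (AdjoinRoot h) (σ c)
      rw [hψ, hσ, ← map_pow]
      congr 1
      rw [show q ^ 3 = Fintype.card F * q by rw [hF]; ring, pow_mul, FiniteField.pow_card]
    rw [emb_mk, ClassCountU.tau_aeval, ht, aeval_emb, hev]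

end Emb

variable [Fintype F]

/-- A fixed irreducible cubic. -/
theorem exists_self_dual_cubic (hF : Fintype.card F = q ^ 2) (hσ : ∀ x, σ x = x ^ q) (hσσ : ∀ x, σ (σ x) = x) :
    ∃ h : F[X], IsItem ((h, 1) : Item F) ∧ h.natDegree = 3 ∧ SemisimpleSU.star σ h = h := by
  classical
  obtain ⟨P, hP, hPd⟩ := exists_irreducible (F := F) 3 (by norm_num)
  haveI : Fact (Irreducible P) := ⟨hP.irr⟩
  haveI := finite_root (h := P)
  haveI := (AdjoinRoot.powerBasis hP.irr.ne_zero).finite
  set E := AdjoinRoot P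
  haveI : Fintype E := Fintype.ofFinite _
  have hq : 2 ≤ q := by
    have h1 : 1 < q ^ 2 := hF ▸ Fintype.one_lt_card
    by_contra hlt
    have : q ^ 2 ≤ 1 ^ 2 := Nat.pow_le_pow_left (by omega) 2
    omega
  have hcardE : Nat.card E = (q ^ 2) ^ 3 := by rw [CfsgLib.LinearOrders.card_adjoinRoot hP.irr.ne_zero, hPd, hF]
  obtain ⟨g, hg⟩ := IsCyclic.exists_generator (α := Eˣ)
  have hog : orderOf g = (q ^ 3 + 1) * (q ^ 3 - 1) := by
    rw [orderOf_eq_card_of_forall_mem_zpowers hg, Nat.card_units, hcardE, ← pow_mul,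
      show 2 * 3 = 3 * 2 by rfl, pow_mul, ← Nat.sq_sub_sq, one_pow]
  set y : E := ((g ^ (q ^ 3 - 1) : Eˣ) : E) with hy
  have hoy : orderOf y = q ^ 3 + 1 := by
    have h3 : 0 < q ^ 3 - 1 := by
      have : 2 ^ 3 ≤ q ^ 3 := Nat.pow_le_pow_left hq 3
      omega
    rw [hy, orderOf_units, orderOf_pow_of_dvd h3.ne' (by rw [hog]; exact dvd_mul_left _ _), hog,
      Nat.mul_div_cancel _ h3]
  have hint : IsIntegral F y := Algebra.IsIntegral.isIntegral y
  set h := minpoly F y with hh
  have hyh : aeval y h = 0 := minpoly.aeval F y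
  have hy1 : y ^ (q ^ 3 + 1) = 1 := hoy ▸ pow_orderOf_eq_one y
  have hy0 : y ≠ 0 := fun h0 => by simp [h0] at hy1
  have hd : h.natDegree = 3 := by
    have h1 := IntermediateField.adjoin.finrank hint
    have h2 := Module.finrank_mul_finrank F (IntermediateField.adjoin F {y}) E
    rw [h1, ClassCount.finrank_adjoinRoot hP.irr.ne_zero, hPd] at h2
    rcases (Nat.dvd_prime Nat.prime_three).1 ⟨_, h2.symm⟩ with h3 | h3
    · exfalso
      obtain ⟨c, hc⟩ := minpoly.natDegree_eq_one_iff.1 h3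
      have hQ : y ^ Fintype.card F = y := by rw [← hc, ← map_pow, FiniteField.pow_card]
      have h4 : y ^ (q ^ 2 - 1) = 1 := by
        refine mul_right_cancel₀ hy0 ?_
        rw [← pow_succ, Nat.sub_add_cancel (hF ▸ Fintype.card_pos : 1 ≤ q ^ 2), one_mul, ← hF]
        exact hQ
      have h5 := Nat.le_of_dvd (by have : 2 ^ 2 ≤ q ^ 2 := Nat.pow_le_pow_left hq 2; omega)
        (hoy ▸ orderOf_dvd_of_pow_eq_one h4)
      have : q ^ 2 ≤ q ^ 3 := Nat.pow_le_pow_right (by omega) (by omega)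
      omega
    · exact h3
  have hitem : IsItem ((h, 1) : Item F) := by
    refine ⟨minpoly.monic hint, minpoly.irreducible hint, fun h0 => hy0 ?_, le_rfl⟩
    exact (minpoly.coeff_zero_eq_zero hint).1 h0
  refine ⟨h, hitem, hd, ?_⟩
  obtain ⟨p, hp⟩ := CharP.exists F
  obtain ⟨k, hpp, hk⟩ := FiniteField.card F p
  obtain ⟨l, -, hl⟩ := (Nat.dvd_prime_pow hpp).1 (show q ∣ p ^ (k : ℕ) by rw [← hk, hF, sq]; exact dvd_mul_right q q)
  haveI := Fact.mk hpp
  haveI : CharP E p := charP_of_injective_algebraMap (algebraMap F E).injective p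
  have h1 : aeval (y ^ q) (h.map σ) = 0 := by
    have h2 := congrArg (iterateFrobenius E p l) hyh
    rw [map_zero, aeval_def, hom_eval₂, iterateFrobenius_def, ← hl] at h2
    rw [aeval_def, eval₂_map, ← h2]
    congr 1
    ext c
    show algebraMap F E (σ c) = iterateFrobenius E p l (algebraMap F E c)
    rw [iterateFrobenius_def, ← hl, hσ, map_pow]
  have h3 : aeval y⁻¹ (h.map σ) = 0 := by
    have h4 := congrArg (FiniteField.frobeniusAlgHom F E) h1
    rw [map_zero, ← aeval_algHom_apply, FiniteField.coe_frobeniusAlgHom] at h4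
    simp only at h4
    rw [← pow_mul, hF, show q * q ^ 2 = q ^ 3 by ring] at h4
    have hyy : y⁻¹ = y ^ q ^ 3 := (eq_inv_of_mul_eq_one_left (by rw [← pow_succ, hy1])).symm
    rwa [hyy]
  have h5 : aeval y (SemisimpleSU.star σ h) = 0 := by
    letI : Invertible y⁻¹ := ⟨y, mul_inv_cancel₀ hy0, inv_mul_cancel₀ hy0⟩
    have h := eval₂_reverse_mul_pow (algebraMap F E) y⁻¹ ((minpoly F y).map σ)
    rw [show (⅟y⁻¹ : E) = y from rfl, ← aeval_def, ← aeval_def, ← hh, h3] at h
    rw [SemisimpleSU.star, map_mul, (mul_eq_zero.1 h).resolve_right (pow_ne_zero _ (inv_ne_zero hy0)), mul_zero]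
  exact (eq_of_monic_of_associated hitem.monic (SemisimpleSU.monic_star hitem.coeff_ne)
    (hitem.irr.associated_of_dvd (SemisimpleSU.irreducible_star hσσ hitem.monic hitem.coeff_ne hitem.irr)
      (minpoly.dvd F y h5))).symm

/-- A matrix with `(g - 1) ^ 3 = 0 ≠ (g - 1) ^ 2` in dimension three is a single unipotent block. -/
theorem data_regular (g : GL (Fin 3) F) (h3 : ((g : Matrix (Fin 3) (Fin 3) F) - 1) ^ 3 = 0)
    (h2 : ((g : Matrix (Fin 3) (Fin 3) F) - 1) ^ 2 ≠ 0) : dataOf g = {((X - C 1, 3) : Item F)} := by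
  classical
  obtain ⟨d⟩ := ClassCount.exists_decomp _ (Matrix.GeneralLinearGroup.det_ne_zero g)
  rw [ClassCount.dataOf_eq d]
  have hev : ∀ k : ℕ, aeval (g : Matrix (Fin 3) (Fin 3) F) ((X - C 1 : F[X]) ^ k) =
      ((g : Matrix (Fin 3) (Fin 3) F) - 1) ^ k := fun k => by simp
  have hall : ∀ i, d.P i = X - C 1 ∧ d.e i ≤ 3 := by
    intro i
    have h0 := ClassCount.map_aeval d ((X - C 1) ^ 3) (d.φ.symm (Pi.single i 1)) i
    rw [hev, h3, zero_mulVec, map_zero, Pi.zero_apply, LinearEquiv.apply_symm_apply, Pi.single_eq_same, mul_one,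
      eq_comm, AdjoinRoot.mk_eq_zero] at h0
    have hdvd : d.P i ∣ (X - C 1 : F[X]) :=
      (d.item i).irr.prime.dvd_of_dvd_pow ((dvd_pow_self _ (Nat.one_le_iff_ne_zero.1 (d.item i).pos)).trans h0)
    have hP : d.P i = X - C 1 := eq_of_monic_of_associated (d.item i).monic (monic_X_sub_C 1)
      ((d.item i).irr.associated_of_dvd (irreducible_X_sub_C 1) hdvd)
    refine ⟨hP, ?_⟩
    rw [hP] at h0
    have h1 := natDegree_le_of_dvd h0 (pow_ne_zero _ (X_sub_C_ne_zero 1))
    rw [natDegree_pow, natDegree_pow, natDegree_X_sub_C, mul_one, mul_one] at h1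
    exact h1
  obtain ⟨i, hi⟩ : ∃ i, d.e i = 3 := by
    by_contra hne
    push Not at hne
    refine h2 (Matrix.ext_iff_mulVec.2 fun v => d.φ.injective (funext fun i => ?_))
    rw [← hev, ClassCount.map_aeval, zero_mulVec, map_zero, Pi.zero_apply,
      AdjoinRoot.mk_eq_zero.2 (show d.P i ^ d.e i ∣ (X - C 1) ^ 2 from by
        rw [(hall i).1]; exact pow_dvd_pow _ (by have := (hall i).2; have := hne i; omega)), zero_mul]
  have hs : ∑ x, d.e x = 3 := by
    have hs := d.size_eq
    rw [size, Decomp.data, Multiset.map_map, ← Finset.sum_eq_multiset_sum] at hs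
    conv_rhs => rw [← hs]
    refine Finset.sum_congr rfl fun x _ => ?_
    simp only [Function.comp_apply, (hall x).1, natDegree_X_sub_C, one_mul]
  have huniv : (Finset.univ : Finset (Fin d.k)) = {i} := by
    refine Finset.eq_singleton_iff_unique_mem.2 ⟨Finset.mem_univ i, fun j _ => ?_⟩
    by_contra hj
    have h5 := Finset.add_le_sum (f := d.e) (fun x _ => Nat.zero_le _) (Finset.mem_univ i) (Finset.mem_univ j) (Ne.symm hj)
    have : 1 ≤ d.e j := (d.item j).pos
    omega
  rw [Decomp.data, huniv, Finset.singleton_val, Multiset.map_singleton, (hall i).1, hi]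

end CfsgLib.NormalCover
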