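import Cfsg.Agent.NormalCover.SpSixLow
import Cfsg.Agent.NormalCover.TorusThree

set_option autoImplicit false
set_option linter.style.haveILetI false

/-!
The six-dimensional symplectic space as a plane over the cubic extension, and the normaliser of that structure.
-/

namespace CfsgLib.NormalCover

open Matrix Module Polynomial

variable {F : Type*} [Field F] [Fintype F] {h : F[X]} [Fact (Irreducible h)]

/-- The root field. -/
abbrev Ext (h : F[X]) := AdjoinRoot h

/-- Coordinates in a basis on one side and in the trace-dual basis on the other. -/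
noncomputable def frameMap (b : Basis (Fin 3) F (Ext h)) : (Ext h × Ext h) →ₗ[F] V6 F where
  toFun p := Sum.elim (fun i => b.repr p.2 i) (fun i => Algebra.trace F (Ext h) (p.1 * b i))
  map_add' p p' := by
    funext i
    rcases i with i | i <;> simp [add_mul]
  map_smul' c p := by
    funext i
    rcases i with i | i <;> simp

omit [Fintype F] in
theorem frameMap_form (b : Basis (Fin 3) F (Ext h)) (p p' : Ext h × Ext h) :
    B6 F (frameMap b p) (frameMap b p') = Algebra.trace F (Ext h) (p.1 * p'.2 - p.2 * p'.1) := by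
  rw [CfsgLib.Forms.sympBilin_apply, CfsgLib.Forms.sympForm_eq_sum, map_sub, mul_comm p.2]
  conv_rhs => rw [← b.sum_repr p'.2, ← b.sum_repr p.2]
  simp only [frameMap, LinearMap.coe_mk, AddHom.coe_mk, Sum.elim_inl, Sum.elim_inr, Finset.mul_sum, mul_smul_comm,
    map_sum, map_smul, smul_eq_mul, Finset.sum_sub_distrib]
  congr 1 <;> exact Finset.sum_congr rfl fun i _ => mul_comm _ _

theorem frameMap_bijective (hd : h.natDegree = 3) (b : Basis (Fin 3) F (Ext h)) : Function.Bijective (frameMap b) := by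
  haveI := finite_root (h := h)
  haveI := (AdjoinRoot.powerBasis (Fact.out : Irreducible h).ne_zero).finite
  have hinj : Function.Injective (frameMap b) := (injective_iff_map_eq_zero _).2 fun p hp => by
    have h2 : p.2 = 0 := b.repr.injective (Finsupp.ext fun i => by
      simpa [frameMap] using congrFun hp (Sum.inl i))
    have h1 : p.1 = 0 := (traceForm_nondegenerate F (Ext h)).1 p.1 fun z => by
      rw [← b.sum_repr z, map_sum]
      refine Finset.sum_eq_zero fun i _ => ?_
      rw [map_smul, Algebra.traceForm_apply,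
        show Algebra.trace F (Ext h) (p.1 * b i) = 0 from congrFun hp (Sum.inr i), smul_zero]
    exact Prod.ext h1 h2
  refine ⟨hinj, (LinearMap.injective_iff_surjective_of_finrank_eq_finrank ?_).1 hinj⟩
  rw [Module.finrank_prod, ClassCount.finrank_adjoinRoot (Fact.out : Irreducible h).ne_zero, hd, finrank_V6]

/-- An identification of the two spaces carrying one form to the other. -/
structure Model (h : F[X]) [Fact (Irreducible h)] where
  deg : h.natDegree = 3
  ψ : (Ext h × Ext h) ≃ₗ[F] V6 F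
  form : ∀ p p', B6 F (ψ p) (ψ p') = Algebra.trace F (Ext h) (p.1 * p'.2 - p.2 * p'.1)

theorem exists_model (hd : h.natDegree = 3) : Nonempty (Model h) := by
  haveI := (AdjoinRoot.powerBasis (Fact.out : Irreducible h).ne_zero).finite
  let b : Basis (Fin 3) F (Ext h) := Module.finBasisOfFinrankEq F (Ext h)
    (by rw [ClassCount.finrank_adjoinRoot (Fact.out : Irreducible h).ne_zero, hd])
  exact ⟨⟨hd, LinearEquiv.ofBijective _ (frameMap_bijective hd b), frameMap_form b⟩⟩

namespace Model

variable (m : Model h)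

/-- Multiplication by scalars of the extension. -/
noncomputable def μ : Ext h →ₐ[F] Module.End F (V6 F) :=
  (m.ψ.conjAlgEquiv F).toAlgHom.comp (Algebra.lsmul F F (Ext h × Ext h))

omit [Fintype F] in
theorem μ_apply (z : Ext h) (p : Ext h × Ext h) : m.μ z (m.ψ p) = m.ψ (z • p) := by
  simp [μ, LinearEquiv.conjAlgEquiv]

omit [Fintype F] in
theorem sa_μ (z : Ext h) : SA (m.μ z) := by
  intro u v
  obtain ⟨p, rfl⟩ := m.ψ.surjective u
  obtain ⟨p', rfl⟩ := m.ψ.surjective v
  rw [μ_apply, μ_apply, m.form, m.form]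
  congr 1
  simp only [Prod.smul_fst, Prod.smul_snd, smul_eq_mul]
  ring

/-- The distinguished self-adjoint map. -/
noncomputable def J : Module.End F (V6 F) := m.μ (AdjoinRoot.root h)

omit [Fintype F] in
theorem μ_mk (p : F[X]) : m.μ (AdjoinRoot.mk h p) = aeval m.J p := by
  rw [J, aeval_algHom_apply, AdjoinRoot.aeval_eq]

omit [Fintype F] in
theorem aeval_J : aeval m.J h = 0 := by rw [← μ_mk, AdjoinRoot.mk_self, map_zero]

omit [Fintype F] in
theorem conj_μ {a : Matrix.symplecticGroup (Fin 3) F} {z : Ext h} (ha : act a * m.J = m.μ z * act a) (w : Ext h) :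
    ∃ w', act a * m.μ w = m.μ w' * act a := by
  induction w using AdjoinRoot.induction_on with
  | _ p =>
    refine ⟨aeval z p, ?_⟩
    rw [μ_mk, ← aeval_algHom_apply]
    induction p using Polynomial.induction_on' with
    | add p r hp hr => rw [map_add, map_add, mul_add, add_mul, hp, hr]
    | monomial k c =>
      rw [aeval_monomial, aeval_monomial, ← Algebra.smul_def, ← Algebra.smul_def, mul_smul_comm, smul_mul_assoc]
      exact congrArg (c • ·) (SemiconjBy.pow_right (show SemiconjBy (act a) m.J (m.μ z) from ha) k).eq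

/-- The normaliser of the extension-field structure. -/
def K : Subgroup (Matrix.symplecticGroup (Fin 3) F) where
  carrier := {g | (∃ z, act g * m.J = m.μ z * act g) ∧ ∃ z, act g⁻¹ * m.J = m.μ z * act g⁻¹}
  mul_mem' {a b} := by
    rintro ⟨⟨za, ha⟩, ⟨za', ha'⟩⟩ ⟨⟨zb, hb⟩, ⟨zb', hb'⟩⟩
    obtain ⟨w, hw⟩ := m.conj_μ ha zb
    obtain ⟨w', hw'⟩ := m.conj_μ hb' za'
    exact ⟨⟨w, by rw [map_mul, mul_assoc, hb, ← mul_assoc, hw, mul_assoc]⟩,
      ⟨w', by rw [_root_.mul_inv_rev, map_mul, mul_assoc, ha', ← mul_assoc, hw', mul_assoc]⟩⟩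
  one_mem' := ⟨⟨AdjoinRoot.root h, by rw [map_one, one_mul, mul_one, J]⟩,
    ⟨AdjoinRoot.root h, by rw [inv_one, map_one, one_mul, mul_one, J]⟩⟩
  inv_mem' {a} := fun ⟨x, y⟩ => ⟨y, by rwa [inv_inv]⟩

omit [Fintype F] in
theorem mem_K_of {g : Matrix.symplecticGroup (Fin 3) F} {z z' : Ext h} (hz : act g * m.J = m.μ z * act g)
    (hz' : act g * m.μ z' = m.J * act g) : g ∈ m.K := by
  refine ⟨⟨z, hz⟩, ⟨z', ?_⟩⟩
  have h1 : act g⁻¹ * act g = 1 := by rw [← map_mul, inv_mul_cancel, map_one]
  have h2 : act g * act g⁻¹ = 1 := by rw [← map_mul, mul_inv_cancel, map_one]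
  calc act g⁻¹ * m.J = act g⁻¹ * (act g * m.μ z') * act g⁻¹ := by
        rw [hz', mul_assoc, mul_assoc m.J, h2, mul_one]
    _ = m.μ z' * act g⁻¹ := by rw [← mul_assoc, h1, one_mul]

omit [Fintype F] in
theorem mem_K_of_commute {g : Matrix.symplecticGroup (Fin 3) F} (hg : act g * m.J = m.J * act g) : g ∈ m.K :=
  m.mem_K_of (z := AdjoinRoot.root h) (z' := AdjoinRoot.root h) hg hg

omit [Fintype F] in
theorem mem_K_of_scalar {g : Matrix.symplecticGroup (Fin 3) F} {c : F} (hg : ∀ v, act g v = c • v) : g ∈ m.K :=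
  m.mem_K_of_commute (LinearMap.ext fun v => by
    rw [Module.End.mul_apply, Module.End.mul_apply, hg, hg, map_smul])

/-- The semilinear element with the given matrix. -/
theorem exists_semi (e : Ext h ≃ₐ[F] Ext h) (α β γ δ : Ext h) (hdet : α * δ - β * γ = 1) :
    ∃ g ∈ m.K, ∀ p : Ext h × Ext h, act g (m.ψ p) = m.ψ (α * e p.1 + β * e p.2, γ * e p.1 + δ * e p.2) := by
  let L : V6 F →ₗ[F] V6 F :=
    { toFun := fun v => m.ψ (α * e (m.ψ.symm v).1 + β * e (m.ψ.symm v).2, γ * e (m.ψ.symm v).1 + δ * e (m.ψ.symm v).2)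
      map_add' := fun u v => by
        rw [← map_add m.ψ]
        congr 1
        simp only [map_add, Prod.fst_add, Prod.snd_add, Prod.mk_add_mk]
        exact Prod.ext (by ring) (by ring)
      map_smul' := fun c v => by
        rw [RingHom.id_apply, ← map_smul m.ψ]
        congr 1
        simp only [map_smul, Prod.smul_fst, Prod.smul_snd, Prod.smul_mk, mul_smul_comm, smul_add] }
  have hL : ∀ p, L (m.ψ p) = m.ψ (α * e p.1 + β * e p.2, γ * e p.1 + δ * e p.2) := fun p => by simp [L]
  obtain ⟨g, hg⟩ := CfsgLib.Forms.exists_sp_of_linearMap L (fun u v => by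
    obtain ⟨p, rfl⟩ := m.ψ.surjective u
    obtain ⟨p', rfl⟩ := m.ψ.surjective v
    rw [← CfsgLib.Forms.sympBilin_apply, ← CfsgLib.Forms.sympBilin_apply, hL, hL, m.form, m.form,
      ← Algebra.trace_eq_of_algEquiv e (p.1 * p'.2 - p.2 * p'.1)]
    congr 1
    rw [map_sub, map_mul, map_mul]
    linear_combination (e p.1 * e p'.2 - e p.2 * e p'.1) * hdet)
  have hga : ∀ p, act g (m.ψ p) = m.ψ (α * e p.1 + β * e p.2, γ * e p.1 + δ * e p.2) := fun p => by
    rw [act_apply, hg, hL]
  have key : ∀ z, act g * m.μ z = m.μ (e z) * act g := fun z => LinearMap.ext fun v => by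
    obtain ⟨p, rfl⟩ := m.ψ.surjective v
    rw [Module.End.mul_apply, Module.End.mul_apply, μ_apply, hga, hga, μ_apply]
    congr 1
    simp only [Prod.smul_fst, Prod.smul_snd, Prod.smul_mk, smul_eq_mul, map_mul]
    exact Prod.ext (by ring) (by ring)
  refine ⟨g, m.mem_K_of (key _) (z' := e.symm (AdjoinRoot.root h)) ?_, hga⟩
  rw [key, AlgEquiv.apply_symm_apply, J]

/-- Minus the identity, in `K`. -/
theorem exists_neg : ∃ z ∈ m.K, act z = -1 := by
  obtain ⟨g, hgK, hg⟩ := m.exists_semi AlgEquiv.refl (-1) 0 0 (-1) (by ring)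
  refine ⟨g, hgK, LinearMap.ext fun v => ?_⟩
  obtain ⟨p, rfl⟩ := m.ψ.surjective v
  rw [hg, LinearMap.neg_apply, Module.End.one_apply, ← map_neg]
  congr 1
  exact Prod.ext (by simp) (by simp)

/-- The Frobenius automorphism of the extension. -/
noncomputable def frob : Ext h ≃ₐ[F] Ext h :=
  haveI := (AdjoinRoot.powerBasis (Fact.out : Irreducible h).ne_zero).finite
  FiniteField.frobeniusAlgEquivOfAlgebraic F (Ext h)

theorem frob_apply (x : Ext h) : frob x = x ^ Fintype.card F := by
  haveI := (AdjoinRoot.powerBasis (Fact.out : Irreducible h).ne_zero).finite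
  simp [frob, FiniteField.coe_frobeniusAlgEquivOfAlgebraic]

include m in
theorem frob_three (x : Ext h) : frob (frob (frob x)) = x := by
  simp only [frob_apply, ← pow_mul]
  rw [← sq, ← pow_succ]
  exact pow_card_cube m.deg x

include m in
theorem trace_eq (x : Ext h) :
    algebraMap F (Ext h) (Algebra.trace F (Ext h) x) = x + frob x + frob (frob x) := by
  haveI := finite_root (h := h)
  rw [FiniteField.algebraMap_trace_eq_sum_pow, ClassCount.finrank_adjoinRoot (Fact.out : Irreducible h).ne_zero, m.deg,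
    Nat.card_eq_fintype_card]
  simp only [frob_apply, Finset.sum_range_succ, Finset.sum_range_zero, pow_zero, pow_one, zero_add, ← pow_mul, sq]

include m in
theorem exists_trace_one : ∃ η : Ext h, Algebra.trace F (Ext h) η = 1 := by
  haveI := finite_root (h := h)
  haveI := (AdjoinRoot.powerBasis (Fact.out : Irreducible h).ne_zero).finite
  exact Algebra.trace_surjective F (Ext h) 1

section CharThree

variable [CharP F 3]

theorem three_ext : (3 : Ext h) = 0 := by
  haveI := charP_of_injective_algebraMap (algebraMap F (Ext h)).injective 3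
  exact_mod_cast CharP.cast_eq_zero (Ext h) 3

/-- `K` contains an element with two blocks of size three. -/
theorem witness_three : ∃ g ∈ m.K, (act g - 1) ^ 3 = 0 ∧ (act g - 1) ^ 2 ≠ 0 := by
  haveI := finite_root (h := h)
  set φ : Ext h ≃ₐ[F] Ext h := frob with hφ
  obtain ⟨g, hgK, hg⟩ := m.exists_semi φ 1 0 0 1 (by ring)
  have hn : ∀ p : Ext h × Ext h, (act g - 1) (m.ψ p) = m.ψ (φ p.1 - p.1, φ p.2 - p.2) := fun p => by
    rw [LinearMap.sub_apply, Module.End.one_apply, hg, ← map_sub]
    congr 1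
    exact Prod.ext (by simp) (by simp)
  refine ⟨g, hgK, LinearMap.ext fun v => ?_, fun h0 => ?_⟩
  · obtain ⟨p, rfl⟩ := m.ψ.surjective v
    rw [_root_.pow_three, Module.End.mul_apply, Module.End.mul_apply, hn, hn, hn, LinearMap.zero_apply, ← map_zero m.ψ]
    congr 1
    refine Prod.ext ?_ ?_ <;> simp only [map_sub, Prod.fst_zero, Prod.snd_zero, hφ, m.frob_three]
    · linear_combination (φ p.1 - φ (φ p.1)) * three_ext (h := h)
    · linear_combination (φ p.2 - φ (φ p.2)) * three_ext (h := h)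
  · obtain ⟨η, hη⟩ := m.exists_trace_one
    have h1 : (act g - 1) ((act g - 1) (m.ψ (0, η))) = 0 := by
      rw [← Module.End.mul_apply, ← pow_two, h0, LinearMap.zero_apply]
    rw [hn, hn, LinearEquiv.map_eq_zero_iff] at h1
    have h2 := congrArg Prod.snd h1
    simp only [map_sub, Prod.snd_zero] at h2
    have htr := m.trace_eq η
    rw [hη, map_one] at htr
    exact one_ne_zero (α := Ext h) (by linear_combination htr + h2 + φ η * three_ext (h := h))

/-- For `t² ≠ 4`, `K` contains an element with `(g + g⁻¹ - t)² ≠ 0 = (g + g⁻¹ - t)³`. -/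
theorem witness_ne {t : F} (ht : t * t ≠ 4) : ∃ g ∈ m.K, nop g t ^ 3 = 0 ∧ nop g t ^ 2 ≠ 0 := by
  haveI := finite_root (h := h)
  set φ : Ext h ≃ₐ[F] Ext h := frob with hφ
  set T := algebraMap F (Ext h) t with hT
  obtain ⟨g, hgK, hg⟩ := m.exists_semi φ 0 (-1) 1 T (by ring)
  have hinv : ∀ p : Ext h × Ext h, act g⁻¹ (m.ψ p) = m.ψ (T * φ (φ p.1) + φ (φ p.2), - φ (φ p.1)) := fun p => by
    have h1 : act g (m.ψ (T * φ (φ p.1) + φ (φ p.2), - φ (φ p.1))) = m.ψ p := by
      rw [hg]
      congr 1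
      refine Prod.ext ?_ ?_ <;> simp only [map_add, map_neg, map_mul, hφ, m.frob_three, hT, AlgEquiv.commutes] <;> ring
    conv_lhs => rw [← h1]
    rw [act_inv_apply]
  have hN : ∀ p : Ext h × Ext h, nop g t (m.ψ p) =
      m.ψ (T * φ (φ p.1) - T * p.1 + (φ (φ p.2) - φ p.2), φ p.1 - φ (φ p.1) + (T * φ p.2 - T * p.2)) := fun p => by
    rw [nop_apply, trc_apply, hg, hinv, ← map_smul, ← map_add, ← map_sub]
    congr 1
    refine Prod.ext ?_ ?_ <;>
      simp only [Prod.fst_sub, Prod.snd_sub, Prod.fst_add, Prod.snd_add, Prod.smul_fst, Prod.smul_snd] <;>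
      simp only [Algebra.smul_def, ← hT] <;> ring
  refine ⟨g, hgK, LinearMap.ext fun v => ?_, fun h0 => ?_⟩
  · obtain ⟨⟨x, y⟩, rfl⟩ := m.ψ.surjective v
    rw [_root_.pow_three, Module.End.mul_apply, Module.End.mul_apply, hN, hN, hN, LinearMap.zero_apply, ← map_zero m.ψ]
    congr 1
    refine Prod.ext ?_ ?_ <;>
      simp only [map_add, map_sub, map_mul, map_neg, hφ, m.frob_three, hT, AlgEquiv.commutes, Prod.fst_zero,
        Prod.snd_zero] <;> simp only [← hφ, ← hT]
    · linear_combination ((-1) * T * T * T * φ x + T * T * T * φ (φ x) + (-2) * T * T * φ y + 2 * T * T * φ (φ y) +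
        (-3) * T * x + T * φ x + 2 * T * φ (φ x) + (-1) * φ y + φ (φ y)) * three_ext (h := h)
    · linear_combination (T * T * T * φ y + (-1) * T * T * T * φ (φ y) + 2 * T * T * φ x + (-2) * T * T * φ (φ x) +
        (-3) * T * y + 2 * T * φ y + T * φ (φ y) + φ x + (-1) * φ (φ x)) * three_ext (h := h)
  · obtain ⟨η, hη⟩ := m.exists_trace_one
    have h1 : nop g t (nop g t (m.ψ (0, η))) = 0 := by
      rw [← Module.End.mul_apply, ← pow_two, h0, LinearMap.zero_apply]
    rw [hN, hN, LinearEquiv.map_eq_zero_iff] at h1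
    have h2 := congrArg Prod.snd h1
    simp only [map_add, map_sub, map_mul, map_zero, hφ, m.frob_three, hT, AlgEquiv.commutes, Prod.snd_zero] at h2
    simp only [← hφ, ← hT] at h2
    have htr := m.trace_eq η
    rw [hη, map_one] at htr
    have h3 : algebraMap F (Ext h) (t * t - 4) = 0 := by
      rw [map_sub, map_mul, ← hT, map_ofNat]
      linear_combination h2 + (T * T - 1) * htr - (η - φ η * T * T + 1) * three_ext (h := h)
    exact ht (sub_eq_zero.1 ((map_eq_zero_iff _ (algebraMap F (Ext h)).injective).1 h3))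

/-- For trace two, `K` contains elements with every value of the invariant. -/
theorem witness_two (s : F) : ∃ g ∈ m.K, nop g 2 ^ 3 = 0 ∧ ∃ w, mom g 2 2 w = s := by
  haveI := finite_root (h := h)
  set φ : Ext h ≃ₐ[F] Ext h := frob with hφ
  obtain ⟨η, hη⟩ := m.exists_trace_one
  set b := algebraMap F (Ext h) (-s) * η with hb
  obtain ⟨g, hgK, hg⟩ := m.exists_semi φ 1 b 0 1 (by ring)
  have hinv : ∀ p : Ext h × Ext h, act g⁻¹ (m.ψ p) = m.ψ (φ (φ p.1) - φ (φ b) * φ (φ p.2), φ (φ p.2)) := fun p => by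
    have h1 : act g (m.ψ (φ (φ p.1) - φ (φ b) * φ (φ p.2), φ (φ p.2))) = m.ψ p := by
      rw [hg]
      congr 1
      refine Prod.ext ?_ ?_ <;> simp only [map_sub, map_mul, hφ, m.frob_three] <;> ring
    conv_lhs => rw [← h1]
    rw [act_inv_apply]
  have hN : ∀ p : Ext h × Ext h, nop g 2 (m.ψ p) =
      m.ψ (φ p.1 + φ (φ p.1) - 2 * p.1 + (b * φ p.2 - φ (φ b) * φ (φ p.2)), φ p.2 + φ (φ p.2) - 2 * p.2) := fun p => by
    rw [nop_apply, trc_apply, hg, hinv, ← map_smul, ← map_add, ← map_sub]
    congr 1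
    refine Prod.ext ?_ ?_ <;>
      simp only [Prod.fst_sub, Prod.snd_sub, Prod.fst_add, Prod.snd_add, Prod.smul_fst, Prod.smul_snd] <;>
      simp only [Algebra.smul_def, map_ofNat] <;> ring
  refine ⟨g, hgK, LinearMap.ext fun v => ?_, m.ψ (0, η), ?_⟩
  · obtain ⟨⟨x, y⟩, rfl⟩ := m.ψ.surjective v
    rw [_root_.pow_three, Module.End.mul_apply, Module.End.mul_apply, hN, hN, hN, LinearMap.zero_apply, ← map_zero m.ψ]
    congr 1
    refine Prod.ext ?_ ?_ <;>
      simp only [map_add, map_sub, map_mul, map_ofNat, hφ, m.frob_three, Prod.fst_zero, Prod.snd_zero] <;>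
      simp only [← hφ]
    · linear_combination (5 * b * φ y + (-2) * b * φ (φ y) + 2 * φ b * φ y + (-2) * φ b * φ (φ y) +
        2 * φ (φ b) * φ y + (-5) * φ (φ b) * φ (φ y) + (-6) * x + 3 * φ x + 3 * φ (φ x)) * three_ext (h := h)
    · linear_combination ((-6) * y + 3 * φ y + 3 * φ (φ y)) * three_ext (h := h)
  · rw [mom, hg, pow_two, Module.End.mul_apply, hN, hN, m.form]
    apply (algebraMap F (Ext h)).injective
    rw [m.trace_eq]
    simp only [map_add, map_sub, map_mul, map_ofNat, map_zero, map_one, mul_zero, zero_mul, one_mul, zero_add,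
      zero_sub, add_zero, map_neg, hφ, m.frob_three]
    simp only [← hφ]
    have htr := m.trace_eq η
    rw [hη, map_one] at htr
    simp only [← hφ] at htr
    set e0 := η with he0
    set e1 := φ e0
    set e2 := φ e1
    have hb1 : φ b = -algebraMap F (Ext h) s * e1 := by rw [hb, map_mul, AlgEquiv.commutes, map_neg]
    have hb2 : φ (φ b) = -algebraMap F (Ext h) s * e2 := by rw [hb1, map_mul, map_neg, AlgEquiv.commutes]
    have hb0 : b = -algebraMap F (Ext h) s * e0 := by rw [hb, map_neg]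
    have hβ : b + φ b + φ (φ b) = -algebraMap F (Ext h) s := by
      rw [hb2, hb1]; nth_rewrite 1 [hb0]; linear_combination (algebraMap F (Ext h) s) * htr
    linear_combination ((-1) * b * e0 * e1 + 2 * b * e0 * e2 + 2 * b * e1 * e2 + 2 * φ b * e0 * e1 +
      2 * φ b * e0 * e2 + (-1) * φ b * e1 * e2 + 2 * φ (φ b) * e0 * e1 + (-1) * φ (φ b) * e0 * e2 +
      2 * φ (φ b) * e1 * e2) * three_ext (h := h) + (b + φ b + φ (φ b)) * (1 + e0 + e1 + e2) * htr - hβ

end CharThree

end Model

end CfsgLib.NormalCover
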