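import Cfsg.Agent.NormalCover.SpSixShape

set_option autoImplicit false
set_option linter.style.haveILetI false

/-!
Elements `g` with `(g + g⁻¹ - t) ^ 3 = 0 ≠ (g + g⁻¹ - t) ^ 2`: one class, or two, for each trace `t`.
-/

namespace CfsgLib.NormalCover

open Matrix Module Polynomial

variable {F : Type*} [Field F]

/-- The nilpotent part of `g + g⁻¹`. -/
noncomputable def nop (g : Matrix.symplecticGroup (Fin 3) F) (t : F) : Module.End F (V6 F) := trc g - t • 1

theorem nop_apply (g : Matrix.symplecticGroup (Fin 3) F) (t : F) (x : V6 F) : nop g t x = trc g x - t • x := rfl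

theorem sa_nop (g : Matrix.symplecticGroup (Fin 3) F) (t : F) : SA (nop g t) := fun u v => by
  rw [nop_apply, nop_apply, map_sub, LinearMap.sub_apply, map_sub, map_smul, LinearMap.smul_apply, map_smul,
    sa_trc g u v]

theorem commute_nop (g : Matrix.symplecticGroup (Fin 3) F) (t : F) : Commute (act g) (nop g t) :=
  (commute_trc g).sub_right ((Commute.one_right _).smul_right t)

theorem nop_pow_act (g : Matrix.symplecticGroup (Fin 3) F) (t : F) (k : ℕ) (x : V6 F) :
    (nop g t ^ k) (act g x) = act g ((nop g t ^ k) x) := by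
  rw [← Module.End.mul_apply, ← Module.End.mul_apply, ((commute_nop g t).pow_right k).eq]

theorem pair_pow {N : Module.End F (V6 F)} (hN : SA N) (i j : ℕ) (u v : V6 F) :
    B6 F ((N ^ i) u) ((N ^ j) v) = B6 F u ((N ^ (i + j)) v) := by
  rw [hN.pow, ← Module.End.mul_apply, ← pow_add]

theorem pow_eq_zero_of_three {N : Module.End F (V6 F)} (h3 : N ^ 3 = 0) {k : ℕ} (hk : 3 ≤ k) : N ^ k = 0 := by
  rw [← Nat.sub_add_cancel hk, pow_add, h3, mul_zero]

/-- The invariants of a vector. -/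
noncomputable def mom (g : Matrix.symplecticGroup (Fin 3) F) (t : F) (k : ℕ) (w : V6 F) : F :=
  B6 F w ((nop g t ^ k) (act g w))

theorem pair_mom (g : Matrix.symplecticGroup (Fin 3) F) (t : F) (i j : ℕ) (w : V6 F) :
    B6 F ((nop g t ^ i) w) (act g ((nop g t ^ j) w)) = mom g t (i + j) w := by
  rw [← nop_pow_act, pair_pow (sa_nop g t), mom]

theorem mom_eq_zero {g : Matrix.symplecticGroup (Fin 3) F} {t : F} (h3 : nop g t ^ 3 = 0) {k : ℕ} (hk : 3 ≤ k)
    (w : V6 F) : mom g t k w = 0 := by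
  rw [mom, pow_eq_zero_of_three h3 hk, LinearMap.zero_apply, map_zero]

/-- The invariants of `x w + y N w + z N² w`. -/
theorem mom_comb {g : Matrix.symplecticGroup (Fin 3) F} {t : F} (h3 : nop g t ^ 3 = 0) (x y z : F) (w : V6 F)
    (k : ℕ) :
    mom g t k (x • w + y • (nop g t ^ 1) w + z • (nop g t ^ 2) w) =
      x ^ 2 * mom g t k w + 2 * x * y * mom g t (k + 1) w + (2 * x * z + y ^ 2) * mom g t (k + 2) w := by
  set N := nop g t with hN
  have e : ∀ i j, B6 F ((N ^ i) w) ((N ^ k) (act g ((N ^ j) w))) = mom g t (i + k + j) w := by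
    intro i j
    rw [nop_pow_act, ← Module.End.mul_apply (N ^ k), ← pow_add, pair_mom, add_assoc]
  have e0 : ∀ j, B6 F w ((N ^ k) (act g ((N ^ j) w))) = mom g t (k + j) w := fun j => by
    have := e 0 j; rwa [pow_zero, Module.End.one_apply, zero_add] at this
  have e0' : ∀ i, B6 F ((N ^ i) w) ((N ^ k) (act g w)) = mom g t (i + k) w := fun i => by
    have := e i 0; rwa [pow_zero, Module.End.one_apply, add_zero] at this
  conv_lhs => rw [mom]
  simp only [map_add, map_smul, LinearMap.add_apply, LinearMap.smul_apply, smul_eq_mul, e, e0, e0', ← hN]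
  rw [show B6 F w ((N ^ k) (act g w)) = mom g t k w from rfl, show 1 + k = k + 1 from add_comm _ _,
    show 2 + k = k + 2 from add_comm _ _, show k + 1 + 1 = k + 2 from rfl]
  simp only [mom_eq_zero h3 (show 3 ≤ k + 2 + 1 by omega), mom_eq_zero h3 (show 3 ≤ k + 2 + 2 by omega),
    mom_eq_zero h3 (show 3 ≤ k + 1 + 2 by omega)]
  ring

/-- Normalisation: the lower invariants can be killed and the top one multiplied by a square. -/
theorem exists_normal (h2 : (2 : F) ≠ 0) {g : Matrix.symplecticGroup (Fin 3) F} {t : F} (h3 : nop g t ^ 3 = 0)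
    {w : V6 F} {r : F} (hr : r ≠ 0) (hw : mom g t 2 w ≠ 0) :
    ∃ v, mom g t 0 v = 0 ∧ mom g t 1 v = 0 ∧ mom g t 2 v = r ^ 2 * mom g t 2 w := by
  set q := mom g t 2 w with hq
  set y := -(r * mom g t 1 w) / (2 * q) with hy
  set z := -(r ^ 2 * mom g t 0 w + 2 * r * y * mom g t 1 w + y ^ 2 * q) / (2 * r * q) with hz
  refine ⟨r • w + y • (nop g t ^ 1) w + z • (nop g t ^ 2) w, ?_, ?_, ?_⟩
  · rw [mom_comb h3, ← hq, hz]
    field_simp
    ring
  · rw [mom_comb h3, mom_eq_zero h3 (show 3 ≤ 1 + 2 by omega), ← hq, hy]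
    field_simp
    ring
  · rw [mom_comb h3, mom_eq_zero h3 (show 3 ≤ 2 + 1 by omega), mom_eq_zero h3 (show 3 ≤ 2 + 2 by omega), ← hq]
    ring

/-- Elements with the same trace and the same normal invariant are conjugate. -/
theorem conj_normal (h2 : (2 : F) ≠ 0) {g g' : Matrix.symplecticGroup (Fin 3) F} {t s : F} (hs : s ≠ 0)
    (h3 : nop g t ^ 3 = 0) (h3' : nop g' t ^ 3 = 0) {w w' : V6 F}
    (a0 : mom g t 0 w = 0) (a1 : mom g t 1 w = 0) (a2 : mom g t 2 w = s)
    (b0 : mom g' t 0 w' = 0) (b1 : mom g' t 1 w' = 0) (b2 : mom g' t 2 w' = s) :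
    ∃ S : Matrix.symplecticGroup (Fin 3) F, S * g * S⁻¹ = g' := by
  set M : Matrix (Fin 3) (Fin 3) F := !![0, 0, s; 0, s, 0; s, 0, 0] with hMdef
  have hM : M.det ≠ 0 := by simp [M, det_fin_three, hs]
  have lag : ∀ (g : Matrix.symplecticGroup (Fin 3) F) (w : V6 F) (i j : Fin 3),
      B6 F ((nop g t ^ (i : ℕ)) w) ((nop g t ^ (j : ℕ)) w) = 0 := fun g w i j => by
    have := (sa_nop g t).orbit_zero h2 (X ^ (i : ℕ)) (X ^ (j : ℕ)) w
    simpa using this
  have lag' : ∀ (g : Matrix.symplecticGroup (Fin 3) F) (w : V6 F) (i j : Fin 3),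
      B6 F (act g ((nop g t ^ (i : ℕ)) w)) (act g ((nop g t ^ (j : ℕ)) w)) = 0 := fun g w i j => by
    rw [form_map, lag]
  have hgram : ∀ {g : Matrix.symplecticGroup (Fin 3) F} {w : V6 F}, nop g t ^ 3 = 0 → mom g t 0 w = 0 →
      mom g t 1 w = 0 → mom g t 2 w = s →
      ∀ i j : Fin 3, B6 F ((nop g t ^ (i : ℕ)) w) (act g ((nop g t ^ (j : ℕ)) w)) = M i j := by
    intro g w h3 a0 a1 a2 i j
    rw [pair_mom]
    fin_cases i <;> fin_cases j <;> simp [M, a0, a1, a2, mom_eq_zero h3 (show 3 ≤ 3 by omega),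
      mom_eq_zero h3 (show 3 ≤ 4 by omega)]
  obtain ⟨S, hSa, hSb, hS⟩ := exists_sp_of_frames (lag g w) (lag' g w) (lag g' w') (lag' g' w') M hM
    (hgram h3 a0 a1 a2) (hgram h3' b0 b1 b2)
  refine ⟨S, act_ext fun x => ?_⟩
  have hint : ∀ x, act S (act g x) = act g' (act S x) := by
    refine hS (act g) (act g') hSb fun i => ?_
    have key : ∀ (g : Matrix.symplecticGroup (Fin 3) F) (w : V6 F),
        act g (act g ((nop g t ^ (i : ℕ)) w)) =
          t • act g ((nop g t ^ (i : ℕ)) w) + act g ((nop g t ^ ((i : ℕ) + 1)) w) - (nop g t ^ (i : ℕ)) w := by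
      intro g w
      rw [act_sq, pow_succ', Module.End.mul_apply,
        ← Module.End.mul_apply (act g) (nop g t), (commute_nop g t).eq, Module.End.mul_apply, nop_apply]
      abel
    rw [key g w, key g' w', map_sub, map_add, map_smul, hSa, hSb]
    congr 2
    rcases (show (i : ℕ) + 1 < 3 ∨ (i : ℕ) + 1 = 3 by omega) with hlt | heq
    · exact hSb ⟨(i : ℕ) + 1, hlt⟩
    · rw [heq, h3, h3', LinearMap.zero_apply, LinearMap.zero_apply, map_zero, map_zero, map_zero]
  rw [map_mul, map_mul, Module.End.mul_apply, Module.End.mul_apply, hint, act_apply_inv]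

theorem trc_sq (g : Matrix.symplecticGroup (Fin 3) F) :
    (act g - act g⁻¹) * (act g - act g⁻¹) = trc g * trc g - (4 : F) • 1 := by
  have h1 : act g * act g⁻¹ = 1 := by rw [← map_mul, mul_inv_cancel, map_one]
  have h2 : act g⁻¹ * act g = 1 := by rw [← map_mul, inv_mul_cancel, map_one]
  simp only [trc, sub_mul, mul_sub, add_mul, mul_add, h1, h2]
  module

/-- In trace two, `N² (g - 1) = 0` is impossible. -/
theorem sq_mul_sub_ne (h2 : (2 : F) ≠ 0) {g : Matrix.symplecticGroup (Fin 3) F} (h3 : nop g 2 ^ 3 = 0)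
    (hN : nop g 2 ^ 2 ≠ 0) : nop g 2 ^ 2 * (act g - 1) ≠ 0 := by
  intro hNn
  set N := nop g 2 with hNd
  set n := act g - 1 with hn
  have hG : act g * act g⁻¹ = 1 := by rw [← map_mul, mul_inv_cancel, map_one]
  have hG' : act g⁻¹ * act g = 1 := by rw [← map_mul, inv_mul_cancel, map_one]
  have hnn : n * n = N * act g := by
    simp only [hn, hNd, nop, trc, sub_mul, mul_sub, add_mul, smul_mul_assoc, one_mul, mul_one, hG']
    module
  obtain ⟨u, hu⟩ : ∃ u, (N ^ 2) u ≠ 0 := by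
    by_contra hc; push Not at hc; exact hN (LinearMap.ext hc)
  obtain ⟨y, hy⟩ := exists_dual hu
  have hy' : B6 F u ((N ^ 2) y) = 1 := by rw [← (sa_nop g 2).pow]; exact hy
  have hself : ∀ v, B6 F v ((N ^ 2) v) = 0 := fun v => by
    have h := ((sa_nop g 2).aeval (X ^ 2)).self_zero h2 v
    rwa [aeval_X_pow] at h
  set M : Matrix (Fin 3) (Fin 3) F := !![B6 F u y, B6 F u (N y), 1; B6 F u (N y), 1, 0; 1, 0, 0] with hMdef
  have hM : M.det ≠ 0 := by simp [M, det_fin_three]
  have lag : ∀ (w : V6 F) (i j : Fin 3), B6 F ((N ^ (i : ℕ)) w) ((N ^ (j : ℕ)) w) = 0 := fun w i j => by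
    have h := (sa_nop g 2).orbit_zero h2 (X ^ (i : ℕ)) (X ^ (j : ℕ)) w
    rwa [aeval_X_pow, aeval_X_pow] at h
  have z3 : N ^ 3 = 0 := h3
  have z4 : N ^ 4 = 0 := pow_eq_zero_of_three h3 (by omega)
  have hgram : ∀ i j : Fin 3, B6 F ((N ^ (i : ℕ)) u) ((N ^ (j : ℕ)) y) = M i j := by
    intro i j
    rw [pair_pow (sa_nop g 2), ← hNd]
    fin_cases i <;> fin_cases j <;> simp [M, hy', z3, z4]
  have h12 : LinearMap.range n ≤ LinearMap.range (n * n) := by
    rintro _ ⟨x, rfl⟩
    obtain ⟨c, d, hcd⟩ := frames_span (lag u) (lag y) M hM hgram (n x)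
    have hsum : n x = (c 0 • u + c 1 • N u + c 2 • (N ^ 2) u) + (d 0 • y + d 1 • N y + d 2 • (N ^ 2) y) := by
      rw [hcd]; simp [Fin.sum_univ_three]
    have h0 : (N ^ 2) (n x) = 0 := LinearMap.congr_fun hNn x
    have hN2 : ∀ z, (N ^ 2) (N z) = 0 := fun z => by
      rw [← Module.End.mul_apply, ← pow_succ, z3, LinearMap.zero_apply]
    have hN22 : ∀ z, (N ^ 2) ((N ^ 2) z) = 0 := fun z => by
      rw [← Module.End.mul_apply, ← pow_add, z4, LinearMap.zero_apply]
    rw [hsum] at h0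
    simp only [map_add, map_smul, hN2, hN22, smul_zero, add_zero] at h0
    have hd : d 0 = 0 := by
      have h5 := congrArg (fun z => B6 F u z) h0
      simp only [map_add, map_smul, hself, hy', map_zero, smul_eq_mul, mul_zero, zero_add, mul_one] at h5
      exact h5
    rw [hd, zero_smul, add_zero, smul_eq_zero] at h0
    have hc : c 0 = 0 := h0.resolve_right hu
    refine ⟨act g⁻¹ (c 1 • u + c 2 • N u + (d 1 • y + d 2 • N y)), ?_⟩
    rw [hnn, Module.End.mul_apply, act_apply_inv, hsum, hc, hd, pow_two, Module.End.mul_apply, Module.End.mul_apply]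
    simp only [map_add, map_smul, zero_smul, zero_add]
  have hpow : ∀ k, LinearMap.range n ≤ LinearMap.range (n ^ (k + 1)) := by
    intro k
    induction k with
    | zero => rw [pow_one]
    | succ k ih =>
      refine h12.trans ?_
      rintro _ ⟨x, rfl⟩
      obtain ⟨z, hz⟩ := ih (LinearMap.mem_range_self n x)
      exact ⟨z, by rw [pow_succ', Module.End.mul_apply, Module.End.mul_apply, hz]⟩
  have hn0 : n = 0 := LinearMap.range_eq_bot.1 (eq_bot_iff.2 ((hpow 5).trans (le_of_eq (by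
    have hc : Commute N (act g) := (commute_nop g 2).symm
    rw [show n ^ (5 + 1) = (n * n) ^ 3 by rw [← pow_two, ← pow_mul], hnn, hc.mul_pow, z3, zero_mul,
      LinearMap.range_zero]))))
  refine hN ?_
  have h5 : N * act g = 0 := by rw [← hnn, hn0, mul_zero]
  have h6 : N = 0 := by rw [← mul_one N, ← hG, ← mul_assoc, h5, zero_mul]
  rw [h6, zero_pow (by norm_num)]

/-- Some vector has nonzero top invariant. -/
theorem exists_good (h2 : (2 : F) ≠ 0) {g : Matrix.symplecticGroup (Fin 3) F} {t : F} (h3 : nop g t ^ 3 = 0)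
    (hN : nop g t ^ 2 ≠ 0) (ht : t * t ≠ 4 ∨ t = 2) : ∃ w, mom g t 2 w ≠ 0 := by
  by_contra hall
  push Not at hall
  set N := nop g t with hNd
  have hall' : ∀ z, B6 F z ((N ^ 2) (act g z)) = 0 := hall
  have hflip : ∀ x y, B6 F x ((N ^ 2) (act g y)) = B6 F x ((N ^ 2) (act g⁻¹ y)) := by
    intro x y
    have h := hall' (x + y)
    simp only [map_add, LinearMap.add_apply, hall', zero_add, add_zero] at h
    have hk : B6 F y ((N ^ 2) (act g x)) = - B6 F x ((N ^ 2) (act g⁻¹ y)) := by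
      rw [form_swap, hNd, nop_pow_act, form_adj, (sa_nop g t).pow]
    rw [hk] at h
    linear_combination h
  have hzero : ∀ y, (N ^ 2) (act g y) = (N ^ 2) (act g⁻¹ y) := fun y => by
    refine sub_eq_zero.1 (form_sep' fun x => ?_)
    rw [map_sub, hflip, sub_self]
  have hmul : N ^ 2 * (act g - act g⁻¹) = 0 := LinearMap.ext fun y => by
    rw [Module.End.mul_apply, LinearMap.sub_apply, map_sub, hzero, sub_self, LinearMap.zero_apply]
  rcases ht with ht | rfl
  · refine hN ?_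
    have h := congrArg (· * (act g - act g⁻¹)) hmul
    simp only [zero_mul, mul_assoc, trc_sq] at h
    have hT : trc g = N + t • 1 := by rw [hNd, nop, sub_add_cancel]
    rw [hT] at h
    have e : N ^ 2 * ((N + t • 1) * (N + t • 1) - (4 : F) • 1) =
        N ^ 3 * (N + (2 * t) • 1) + (t * t - 4) • N ^ 2 := by
      simp only [mul_sub, mul_add, add_mul, smul_mul_assoc, mul_smul_comm, one_mul, mul_one, pow_succ, pow_zero,
        smul_add, mul_assoc, smul_smul]
      module
    rw [e, h3, zero_mul, zero_add, smul_eq_zero] at h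
    exact h.resolve_left (sub_ne_zero.2 ht)
  · refine sq_mul_sub_ne h2 h3 hN ?_
    set n := act g - 1 with hn
    have hG' : act g⁻¹ * act g = 1 := by rw [← map_mul, inv_mul_cancel, map_one]
    have hnn : n * n = N * act g := by
      simp only [hn, hNd, nop, trc, sub_mul, mul_sub, add_mul, smul_mul_assoc, one_mul, mul_one, hG']
      module
    have h := congrArg (· * act g) hmul
    simp only [zero_mul, mul_assoc, sub_mul, hG'] at h
    have e : act g * act g - 1 = n * n + (2 : F) • n := by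
      simp only [hn, sub_mul, mul_sub, one_mul, mul_one]
      module
    rw [e, hnn, mul_add, ← mul_assoc, ← pow_succ, h3, zero_mul, zero_add, mul_smul_comm, smul_eq_zero] at h
    exact h.resolve_left h2

/-- `x² + t x y + y²` takes every value when `t² ≠ 4`. -/
theorem exists_quad_value [Fintype F] (h2 : (2 : F) ≠ 0) {t : F} (ht : t * t ≠ 4) (c : F) :
    ∃ x y : F, x ^ 2 + t * x * y + y ^ 2 = c := by
  have hodd : Fintype.card F % 2 = 1 := FiniteField.odd_card_of_char_ne_two (fun h => h2 (by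
    haveI : CharP F 2 := h ▸ ringChar.charP F
    exact CharTwo.two_eq_zero))
  have h4 : (4 : F) ≠ 0 := by rw [show (4 : F) = 2 * 2 by norm_num]; exact mul_ne_zero h2 h2
  have hd : (1 : F) - t * t / 4 ≠ 0 := by
    intro h
    have e : t * t / 4 = 1 := (sub_eq_zero.1 h).symm
    exact ht ((div_eq_one_iff_eq h4).1 e)
  obtain ⟨X0, Y, hXY⟩ := FiniteField.exists_root_sum_quadratic (f := (X ^ 2 : F[X]))
    (g := C (1 - t * t / 4) * X ^ 2 + C (-c)) (degree_X_pow 2)
    (by rw [degree_add_C (by rw [degree_C_mul_X_pow 2 hd]; norm_num), degree_C_mul_X_pow 2 hd]; rfl) hodd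
  simp only [eval_add, eval_mul, eval_pow, eval_X, eval_C] at hXY
  obtain ⟨u, rfl⟩ : ∃ u, t = 2 * u := ⟨t / 2, (mul_div_cancel₀ _ h2).symm⟩
  refine ⟨X0 - u * Y, Y, ?_⟩
  have e : 2 * u * (2 * u) / 4 = u * u := by
    rw [div_eq_iff h4]; ring
  rw [e] at hXY
  linear_combination hXY

/-- The top invariant on the span of `w` and `g w`. -/
theorem mom_plane (h2 : (2 : F) ≠ 0) {g : Matrix.symplecticGroup (Fin 3) F} {t : F} (h3 : nop g t ^ 3 = 0)
    (w : V6 F) (x y : F) :
    mom g t 2 (x • w + y • act g w) = (x ^ 2 + t * x * y + y ^ 2) * mom g t 2 w := by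
  set N := nop g t with hN
  have hself : ∀ v, B6 F v ((N ^ 2) v) = 0 := fun v => by
    have h := ((sa_nop g t).aeval (X ^ 2)).self_zero h2 v
    rwa [aeval_X_pow] at h
  have e1 : B6 F (act g w) ((N ^ 2) (act g w)) = 0 := hself _
  have e2 : (N ^ 2) (act g (act g w)) = t • (N ^ 2) (act g w) - (N ^ 2) w := by
    rw [act_sq, show trc g (act g w) = N (act g w) + t • act g w by rw [hN, nop_apply, sub_add_cancel],
      map_sub, map_add, ← Module.End.mul_apply (N ^ 2) N, ← pow_succ, h3, LinearMap.zero_apply, zero_add, map_smul]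
  have e3 : B6 F (act g w) ((N ^ 2) w) = -(B6 F w ((N ^ 2) (act g w))) := by
    rw [form_swap, (sa_nop g t).pow]
  show B6 F (x • w + y • act g w) ((N ^ 2) (act g (x • w + y • act g w))) = _
  simp only [map_add, map_smul, LinearMap.add_apply, LinearMap.smul_apply, e2, map_sub, smul_eq_mul, e1, e3, hself]
  show _ = _ * B6 F w ((N ^ 2) (act g w))
  ring

/-- Outside `t = ±2` there is a single class. -/
theorem conj_regular_ne [Fintype F] (h2 : (2 : F) ≠ 0) {g g' : Matrix.symplecticGroup (Fin 3) F} {t : F}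
    (ht : t * t ≠ 4) (h3 : nop g t ^ 3 = 0) (hN : nop g t ^ 2 ≠ 0) (h3' : nop g' t ^ 3 = 0) (hN' : nop g' t ^ 2 ≠ 0) :
    ∃ S : Matrix.symplecticGroup (Fin 3) F, S * g * S⁻¹ = g' := by
  have one : ∀ {g : Matrix.symplecticGroup (Fin 3) F}, nop g t ^ 3 = 0 → nop g t ^ 2 ≠ 0 →
      ∃ v, mom g t 0 v = 0 ∧ mom g t 1 v = 0 ∧ mom g t 2 v = 1 := by
    intro g h3 hN
    obtain ⟨w, hw⟩ := exists_good h2 h3 hN (Or.inl ht)
    obtain ⟨x, y, hxy⟩ := exists_quad_value h2 ht (mom g t 2 w)⁻¹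
    have hv : mom g t 2 (x • w + y • act g w) = 1 := by
      rw [mom_plane h2 h3, hxy, inv_mul_cancel₀ hw]
    obtain ⟨v', a0, a1, a2⟩ := exists_normal h2 h3 one_ne_zero (hv ▸ one_ne_zero : mom g t 2 (x • w + y • act g w) ≠ 0)
    exact ⟨v', a0, a1, by rw [a2, hv, one_pow, mul_one]⟩
  obtain ⟨w, a0, a1, a2⟩ := one h3 hN
  obtain ⟨w', b0, b1, b2⟩ := one h3' hN'
  exact conj_normal h2 one_ne_zero h3 h3' a0 a1 a2 b0 b1 b2

/-- With a prescribed value of the invariant. -/
theorem conj_regular_two (h2 : (2 : F) ≠ 0) {g : Matrix.symplecticGroup (Fin 3) F}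
    (h3 : nop g 2 ^ 3 = 0) (hN : nop g 2 ^ 2 ≠ 0) :
    ∃ s : F, s ≠ 0 ∧ ∀ (g' : Matrix.symplecticGroup (Fin 3) F) (w' : V6 F), nop g' 2 ^ 3 = 0 →
      mom g' 2 2 w' = s → ∃ S : Matrix.symplecticGroup (Fin 3) F, S * g * S⁻¹ = g' := by
  obtain ⟨w, hw⟩ := exists_good h2 h3 hN (Or.inr rfl)
  refine ⟨mom g 2 2 w, hw, fun g' w' h3' hw' => ?_⟩
  obtain ⟨v, a0, a1, a2⟩ := exists_normal h2 h3 one_ne_zero hw
  obtain ⟨v', b0, b1, b2⟩ := exists_normal h2 h3' one_ne_zero (hw' ▸ hw)
  rw [hw'] at b2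
  exact conj_normal h2 (by rw [one_pow, one_mul]; exact hw) h3 h3' a0 a1 a2 b0 b1 b2

end CfsgLib.NormalCover
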