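import Cfsg.Agent.NormalCover.SpSixBasic

set_option autoImplicit false
set_option linter.style.haveILetI false

/-!
The shape of `g + g⁻¹` for an element of the six-dimensional symplectic group in odd characteristic.
-/

namespace CfsgLib.NormalCover

open Matrix Module Polynomial

variable {F : Type*} [Field F]

theorem commute_aeval_right {A : Type*} [Ring A] [Algebra F A] {a b : A} (hab : Commute a b) (f : F[X]) :
    Commute a (aeval b f) := by
  induction f using Polynomial.induction_on' with
  | add p r hp hr => rw [map_add]; exact hp.add_right hr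
  | monomial j c =>
    rw [aeval_monomial]
    exact (Algebra.commute_algebraMap_right c a).mul_right (hab.pow_right j)

theorem hyp_of_subspace {g : Matrix.symplecticGroup (Fin 3) F} {W : Submodule F (V6 F)} (hW : finrank F W = 2)
    (hnd : ∀ x ∈ W, (∀ y ∈ W, B6 F x y = 0) → x = 0) (hg : ∀ x ∈ W, act g x ∈ W) : HasHyp g := by
  obtain ⟨u, huW, hu⟩ := W.exists_mem_ne_zero_of_ne_bot (fun h => by rw [h, finrank_bot] at hW; omega)
  obtain ⟨y, hyW, hy⟩ : ∃ y ∈ W, B6 F u y ≠ 0 := by
    by_contra h
    push Not at h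
    exact hu (hnd u huW h)
  set v := (B6 F u y)⁻¹ • y with hv
  have hvW : v ∈ W := W.smul_mem _ hyW
  have huv : B6 F u v = 1 := by rw [hv, map_smul, smul_eq_mul, inv_mul_cancel₀ hy]
  have hle : Submodule.span F {u, v} ≤ W :=
    Submodule.span_le.2 (Set.insert_subset huW (Set.singleton_subset_iff.2 hvW))
  have hind : LinearIndependent F ![u, v] := by
    rw [LinearIndependent.pair_iff]
    intro s t h
    have h1 := congrArg (fun x => B6 F u x) h
    have h2 := congrArg (fun x => B6 F x v) h
    simp only [map_add, map_smul, form_self, huv, map_zero, LinearMap.add_apply, LinearMap.smul_apply,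
      LinearMap.zero_apply, smul_eq_mul, mul_zero, zero_add, add_zero, mul_one] at h1 h2
    exact ⟨h2, h1⟩
  have heq : Submodule.span F {u, v} = W := by
    refine Submodule.eq_of_le_of_finrank_le hle ?_
    rw [hW, ← Matrix.range_cons_cons_empty u v, finrank_span_eq_card hind]
    simp
  exact ⟨u, v, huv, heq ▸ hg u huW, heq ▸ hg v hvW⟩

theorem hyp_of_orth {g : Matrix.symplecticGroup (Fin 3) F} (h2 : (2 : F) ≠ 0) {W W' : Submodule F (V6 F)}
    (hc : IsCompl W W') (horth : ∀ x ∈ W, ∀ y ∈ W', B6 F x y = 0) (hWb : W ≠ ⊥) (hWb' : W' ≠ ⊥)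
    (hg : ∀ x ∈ W, act g x ∈ W) (hg' : ∀ x ∈ W', act g x ∈ W') : HasHyp g := by
  have nd : ∀ {W W' : Submodule F (V6 F)}, IsCompl W W' → (∀ x ∈ W, ∀ y ∈ W', B6 F x y = 0) →
      ∀ x ∈ W, (∀ y ∈ W, B6 F x y = 0) → x = 0 := by
    intro W W' hc horth x hx h
    refine form_sep fun z => ?_
    obtain ⟨a, ha, b, hb, rfl⟩ := Submodule.mem_sup.1 (hc.sup_eq_top.ge (Submodule.mem_top (x := z)))
    rw [map_add, h a ha, horth x hx b hb, add_zero]
  have horth' : ∀ x ∈ W', ∀ y ∈ W, B6 F x y = 0 := fun x hx y hy => by rw [form_swap, horth y hy x hx, neg_zero]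
  have n1 := finrank_nondeg_ne h2 (nd hc horth)
  have n2 := finrank_nondeg_ne h2 (nd hc.symm horth')
  have p1 : finrank F W ≠ 0 := fun h => hWb (Submodule.finrank_eq_zero.1 h)
  have p2 : finrank F W' ≠ 0 := fun h => hWb' (Submodule.finrank_eq_zero.1 h)
  have hs := Submodule.finrank_add_eq_of_isCompl hc
  rw [finrank_V6] at hs
  rcases (show finrank F W = 2 ∨ finrank F W' = 2 by omega) with h | h
  · exact hyp_of_subspace h (nd hc horth) hg
  · exact hyp_of_subspace h (nd hc.symm horth') hg'

/-- A self-adjoint map has no irreducible quadratic minimal polynomial. -/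
theorem not_quadratic (h2 : (2 : F) ≠ 0) {T : Module.End F (V6 F)} (hT : SA T) {P : F[X]} (hm : P.Monic)
    (hd : P.natDegree = 2) (hc0 : P.coeff 0 ≠ 0) (hP : aeval T P = 0) (hroot : ∀ c, ¬ P.IsRoot c) : False := by
  have hTT : ∀ x, T (T x) = -(P.coeff 0 • x + P.coeff 1 • T x) := by
    intro x
    have h := LinearMap.congr_fun hP x
    conv_lhs at h => rw [hm.as_sum, hd]
    simp [Finset.sum_range_succ, pow_two] at h
    linear_combination (norm := module) h
  have hind : ∀ {x : V6 F}, x ≠ 0 → ∀ s t : F, s • x + t • T x = 0 → s = 0 ∧ t = 0 := by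
    intro x hx s t h
    by_cases ht : t = 0
    · refine ⟨?_, ht⟩
      rw [ht, zero_smul, add_zero] at h
      exact (smul_eq_zero.1 h).resolve_right hx
    exfalso
    have hev : T.HasEigenvector (-(s / t)) x := by
      refine Module.End.hasEigenvector_iff.2 ⟨Module.End.mem_eigenspace_iff.2 ?_, hx⟩
      have h' := congrArg (t⁻¹ • ·) h
      simp only [smul_add, smul_smul, inv_mul_cancel₀ ht, one_smul, smul_zero] at h'
      linear_combination (norm := module) h'
    have h3 := Module.End.aeval_apply_of_hasEigenvector (p := P) hev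
    rw [hP, LinearMap.zero_apply, eq_comm, smul_eq_zero] at h3
    exact hroot _ (h3.resolve_right hx)
  obtain ⟨u, hu⟩ : ∃ u : V6 F, u ≠ 0 := exists_ne 0
  -- a functional one on `u`, zero on `T u`
  obtain ⟨v, hv1, hv2⟩ : ∃ v, B6 F u v = 1 ∧ B6 F (T u) v = 0 := by
    have hTu : T u ≠ 0 := fun h => one_ne_zero (hind hu 0 1 (by simp [h])).2
    obtain ⟨y, hy⟩ := exists_dual hTu
    obtain ⟨z, hz⟩ := exists_dual (u := u - B6 F u y • T u) (fun h => one_ne_zero (hind hu 1 (-B6 F u y) (by
      linear_combination (norm := module) h)).1)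
    refine ⟨z - B6 F (T u) z • y, ?_, ?_⟩
    · simp only [map_sub, LinearMap.sub_apply, map_smul, LinearMap.smul_apply, smul_eq_mul] at hz ⊢
      linear_combination hz
    · simp [hy]
  let φ : V6 F →ₗ[F] (Fin 4 → F) := LinearMap.pi ![B6 F u, B6 F (T u), B6 F v, B6 F (T v)]
  let L : (Fin 4 → F) →ₗ[F] V6 F := Fintype.linearCombination F ![u, T u, v, T v]
  have e1 : B6 F u (T u) = 0 := hT.self_zero h2 u
  have e2 : B6 F v (T v) = 0 := hT.self_zero h2 v
  have e3 : B6 F u (T v) = 0 := by rw [← hT, hv2]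
  have e4 : B6 F (T u) (T v) = -P.coeff 0 := by
    rw [← hT, hTT]; simp [hv1, hv2]
  have hinj : Function.Injective (φ ∘ₗ L) := (injective_iff_map_eq_zero _).2 fun c hc => by
    have h0 := congrFun hc 0
    have h1 := congrFun hc 1
    have h3 := congrFun hc 2
    have h4 := congrFun hc 3
    simp [φ, L, Fintype.linearCombination_apply, Fin.sum_univ_four, form_self, e1, e2, e3, e4, hv1, hv2,
      form_swap u (T u), form_swap v (T v), form_swap u v, form_swap (T u) v, form_swap u (T v),
      form_swap (T u) (T v)] at h0 h1 h3 h4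
    funext i
    fin_cases i
    · simpa using h3
    · simpa [hc0] using h4
    · simpa using h0
    · simpa [hc0] using h1
  have hsurj := (LinearMap.injective_iff_surjective.1 hinj)
  have hker : finrank F (LinearMap.ker φ) = 2 := by
    have h := LinearMap.finrank_range_add_finrank_ker φ
    have hr : LinearMap.range φ = ⊤ := LinearMap.range_eq_top.2 fun y => by
      obtain ⟨c, hc⟩ := hsurj y
      exact ⟨L c, hc⟩
    rw [hr, finrank_top, Module.finrank_fin_fun, finrank_V6] at h
    omega
  obtain ⟨x, hx, hx0⟩ := (LinearMap.ker φ).exists_mem_ne_zero_of_ne_bot (fun h => by rw [h, finrank_bot] at hker; omega)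
  have hTx : T x ∈ LinearMap.ker φ := by
    rw [LinearMap.mem_ker] at hx ⊢
    have h0 := congrFun hx 0
    have h1 := congrFun hx 1
    have h3 := congrFun hx 2
    have h4 := congrFun hx 3
    simp [φ] at h0 h1 h3 h4
    funext i
    fin_cases i <;> simp [φ]
    · rw [← hT]; exact h1
    · rw [hT, hTT]; simp [h0, ← hT u x, h1]
    · rw [← hT]; exact h4
    · rw [hT, hTT]; simp [h3, ← hT v x, h4]
  have hspan : Submodule.span F (Set.range ![x, T x]) = LinearMap.ker φ := by
    refine Submodule.eq_of_le_of_finrank_le (Submodule.span_le.2 (Set.range_subset_iff.2 fun i => by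
      fin_cases i
      · exact hx
      · exact hTx)) ?_
    rw [hker, finrank_span_eq_card (LinearIndependent.pair_iff.2 (hind hx0))]
    simp
  refine hx0 (form_sep' fun y => ?_)
  obtain ⟨c, hc⟩ := hsurj (φ y)
  have hmem : y - L c ∈ LinearMap.ker φ := by
    rw [LinearMap.mem_ker, map_sub, ← LinearMap.comp_apply, hc, sub_self]
  rw [← hspan, Matrix.range_cons_cons_empty] at hmem
  obtain ⟨s, t, hst⟩ := Submodule.mem_span_pair.1 hmem
  have hy : y = s • x + t • T x + L c := by rw [hst, sub_add_cancel]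
  have hx' := LinearMap.mem_ker.1 hx
  have k0 := congrFun hx' 0
  have k1 := congrFun hx' 1
  have k2 := congrFun hx' 2
  have k3 := congrFun hx' 3
  simp [φ] at k0 k1 k2 k3
  rw [hy]
  simp [L, Fintype.linearCombination_apply, Fin.sum_univ_four, form_self, hT x x, hT.self_zero h2 x, k0, k1, k2, k3]

/-- The three possibilities for `g + g⁻¹`. -/
theorem trichotomy (h2 : (2 : F) ≠ 0) (g : Matrix.symplecticGroup (Fin 3) F) :
    HasHyp g ∨ (∃ P : F[X], P.Monic ∧ Irreducible P ∧ P.natDegree = 3 ∧ aeval (trc g) P = 0) ∨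
      ∃ t : F, (trc g - t • 1) ^ 3 = 0 := by
  classical
  set T := trc g with hTd
  have hT := sa_trc g
  have hint : IsIntegral F T := Algebra.IsIntegral.isIntegral T
  set μ := minpoly F T with hμ
  have hμm : μ.Monic := minpoly.monic hint
  have hμ0 : μ ≠ 0 := hμm.ne_zero
  obtain ⟨P, hPm, hP, hPμ⟩ := exists_monic_irreducible_factor μ (minpoly.not_isUnit F T)
  obtain ⟨k, h, hnd, hμe⟩ := WfDvdMonoid.max_power_factor hμ0 hP
  by_cases hunit : IsUnit h
  swap
  · left
    have hk : k ≠ 0 := by
      rintro rfl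
      rw [pow_zero, one_mul] at hμe
      exact hnd (hμe ▸ hPμ)
    have hcop : IsCoprime (P ^ k) h := (hP.coprime_iff_not_dvd.2 hnd).pow_left
    have hkill : aeval T (P ^ k * h) = 0 := by rw [← hμe, hμ, minpoly.aeval]
    have hne : ∀ f r : F[X], f * r = μ → ¬ IsUnit r → LinearMap.ker (aeval T r) ≠ ⊥ := by
      intro f r hfr hr hbot
      have hf : aeval T f = 0 := LinearMap.ext fun x => LinearMap.ker_eq_bot.1 hbot (by
        rw [LinearMap.zero_apply, map_zero, ← Module.End.mul_apply, ← map_mul, mul_comm, hfr, hμ, minpoly.aeval,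
          LinearMap.zero_apply])
      have hfd : μ ∣ f := minpoly.dvd F T hf
      obtain ⟨c, hc⟩ := hfd
      have hf0 : f ≠ 0 := fun h0 => hμ0 (by rw [← hfr, h0, zero_mul])
      refine hr (isUnit_of_dvd_one ⟨c, mul_left_cancel₀ hf0 ?_⟩)
      rw [← mul_assoc, hfr, mul_one, ← hc]
    have hinv : ∀ f : F[X], ∀ x ∈ LinearMap.ker (aeval T f), act g x ∈ LinearMap.ker (aeval T f) := by
      intro f x hx
      rw [LinearMap.mem_ker] at hx ⊢
      have hc : Commute (act g) (aeval T f) := commute_aeval_right (commute_trc g) f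
      rw [← Module.End.mul_apply, ← hc.eq, Module.End.mul_apply, hx, map_zero]
    refine hyp_of_orth h2 (W := LinearMap.ker (aeval T (P ^ k))) (W' := LinearMap.ker (aeval T h))
      ⟨disjoint_ker_aeval_of_isCoprime T hcop, codisjoint_iff.2 ?_⟩ ?_ ?_ ?_ (hinv _) (hinv _)
    · rw [sup_ker_aeval_eq_ker_aeval_mul_of_coprime T hcop, hkill, LinearMap.ker_zero]
    · intro x hx y hy
      obtain ⟨a, b, hab⟩ := hcop
      have hy' : y = aeval T (P ^ k) (aeval T a y) := by
        have h1 := congrArg (fun z : F[X] => aeval T z y) hab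
        simp only [map_add, map_mul, map_one, LinearMap.add_apply, Module.End.mul_apply, LinearMap.mem_ker.1 hy,
          map_zero, add_zero, Module.End.one_apply] at h1
        rw [← Module.End.mul_apply, ← map_mul, mul_comm, map_mul, Module.End.mul_apply, h1]
      rw [hy', ← hT.aeval, LinearMap.mem_ker.1 hx, map_zero, LinearMap.zero_apply]
    · exact hne h (P ^ k) (by rw [mul_comm, hμe]) (fun hu => hP.not_isUnit ((isUnit_pow_iff hk).1 hu))
    · exact hne (P ^ k) h hμe.symm hunit
  right
  have hμP : μ = P ^ k := eq_of_monic_of_associated hμm (hPm.pow k)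
    (hμe ▸ associated_mul_unit_left _ _ hunit)
  have hk : 1 ≤ k := by
    by_contra hk
    exact minpoly.not_isUnit F T (by rw [← hμ, hμP, show k = 0 by omega, pow_zero]; exact isUnit_one)
  obtain ⟨u, hu⟩ : ∃ u, aeval T (P ^ (k - 1)) u ≠ 0 := by
    by_contra hc
    push Not at hc
    have h1 := natDegree_le_of_dvd (minpoly.dvd F T (LinearMap.ext hc)) (pow_ne_zero _ hP.ne_zero)
    rw [← hμ, hμP, natDegree_pow, natDegree_pow] at h1
    have := hP.natDegree_pos
    have h5 := Nat.le_of_mul_le_mul_right h1 this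
    omega
  have hdim : P.natDegree * k ≤ 3 := by
    let L : Polynomial.degreeLT F (P.natDegree * k) →ₗ[F] V6 F :=
      ((LinearMap.applyₗ u).comp (aeval T).toLinearMap).comp (Polynomial.degreeLT F (P.natDegree * k)).subtype
    have hL : ∀ p, L p = aeval T (p : F[X]) u := fun p => rfl
    have hinj : Function.Injective L := (injective_iff_map_eq_zero L).2 fun p hp => by
      by_contra hp0
      have hp0' : (p : F[X]) ≠ 0 := fun h => hp0 (Subtype.ext h)
      rw [hL] at hp
      obtain ⟨j, r, hr, hpe⟩ := WfDvdMonoid.max_power_factor hp0' hP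
      obtain ⟨a, b, hab⟩ : IsCoprime r (P ^ k) := ((hP.coprime_iff_not_dvd.2 hr).symm).pow_right
      have hjk : j < k := by
        have hdeg : (p : F[X]).natDegree < P.natDegree * k :=
          (natDegree_lt_iff_degree_lt hp0').2 (Polynomial.mem_degreeLT.1 p.2)
        have h1 := natDegree_le_of_dvd (⟨r, hpe⟩ : P ^ j ∣ (p : F[X])) hp0'
        rw [natDegree_pow] at h1
        by_contra hle
        have := Nat.mul_le_mul_right P.natDegree (Nat.le_of_not_lt hle)
        have hc := Nat.mul_comm P.natDegree k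
        omega
      refine hu ?_
      have h1 := congrArg (fun z : F[X] => aeval T z (aeval T (P ^ (k - 1)) u)) hab
      simp only [map_one, Module.End.one_apply] at h1
      rw [← h1, ← Module.End.mul_apply, ← map_mul,
        show (a * r + b * P ^ k) * P ^ (k - 1) = a * P ^ (k - 1 - j) * (p : F[X]) + b * P ^ (k - 1) * P ^ k by
          rw [hpe, show P ^ (k - 1) = P ^ (k - 1 - j) * P ^ j by rw [← pow_add]; congr 1; omega]; ring,
        ← hμP, map_add, map_mul _ _ (p : F[X]), map_mul _ _ μ, hμ, minpoly.aeval, mul_zero, add_zero,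
        Module.End.mul_apply, hp, map_zero]
    have h1 := finrank_ti_le (W := LinearMap.range L) (by
      rintro _ ⟨p, rfl⟩ _ ⟨r, rfl⟩
      rw [hL, hL]
      exact hT.orbit_zero h2 _ _ u)
    rw [LinearMap.finrank_range_of_inj hinj, (Polynomial.degreeLTEquiv F _).finrank_eq, Module.finrank_fin_fun] at h1
    exact h1
  have hd := hP.natDegree_pos
  have hk3 : k ≤ 3 := (Nat.le_mul_of_pos_left k hd).trans hdim
  have hkill : aeval T (P ^ k) = 0 := by rw [← hμP, hμ, minpoly.aeval]
  rcases (show P.natDegree = 1 ∨ P.natDegree = 2 ∨ P.natDegree = 3 by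
    have := (Nat.le_mul_of_pos_right P.natDegree hk).trans hdim; omega) with h1 | h1 | h1
  · right
    refine ⟨-P.coeff 0, ?_⟩
    have hPT : aeval T P = T - (-P.coeff 0) • 1 := by
      conv_lhs => rw [hPm.eq_X_add_C h1]
      rw [map_add, aeval_X, aeval_C]
      exact LinearMap.ext fun x => by simp [Module.algebraMap_end_apply]
    rw [← hPT, ← map_pow, show P ^ 3 = P ^ (3 - k) * P ^ k by rw [← pow_add]; congr 1; omega, map_mul, hkill, mul_zero]
  · exfalso
    have hk1 : k = 1 := by rw [h1] at hdim; omega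
    rw [hk1, pow_one] at hkill
    have hroot : ∀ c, ¬ P.IsRoot c := fun c hc => by
      have := degree_eq_one_of_irreducible_of_root hP hc
      rw [degree_eq_natDegree hP.ne_zero, h1] at this
      exact absurd this (by decide)
    exact not_quadratic h2 hT hPm h1 (fun h0 => hroot 0 (by rw [IsRoot.def, ← coeff_zero_eq_eval_zero, h0])) hkill hroot
  · left
    have hk1 : k = 1 := by rw [h1] at hdim; omega
    rw [hk1, pow_one] at hkill
    exact ⟨P, hPm, hP, h1, hkill⟩

/-- Self-adjoint maps with the same irreducible cubic polynomial are conjugate. -/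
theorem exists_sp_cubic (h2 : (2 : F) ≠ 0) {T T' : Module.End F (V6 F)} (hT : SA T) (hT' : SA T') {P : F[X]}
    (hm : P.Monic) (hi : Irreducible P) (hd : P.natDegree = 3) (hP : aeval T P = 0) (hP' : aeval T' P = 0) :
    ∃ S : Matrix.symplecticGroup (Fin 3) F, ∀ x, act S (T x) = T' (act S x) := by
  have hroot : ∀ c, ¬ P.IsRoot c := fun c hc => by
    have := degree_eq_one_of_irreducible_of_root hi hc
    rw [degree_eq_natDegree hi.ne_zero, hd] at this
    exact absurd this (by decide)
  have hc0 : P.coeff 0 ≠ 0 := fun h0 => hroot 0 (by rw [IsRoot.def, ← coeff_zero_eq_eval_zero, h0])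
  set M : Matrix (Fin 3) (Fin 3) F :=
    !![1, 0, 0; 0, 0, -P.coeff 0; 0, -P.coeff 0, P.coeff 2 * P.coeff 0] with hM
  have hMdet : M.det ≠ 0 := by simp [M, det_fin_three, hc0]
  have frame : ∀ {T : Module.End F (V6 F)}, SA T → aeval T P = 0 → ∃ u v : V6 F,
      (∀ i j : Fin 3, B6 F ((T ^ (i : ℕ)) u) ((T ^ (j : ℕ)) v) = M i j) ∧
      ∀ x, T (T (T x)) = -(P.coeff 0 • x + P.coeff 1 • T x + P.coeff 2 • T (T x)) := by
    intro T hT hP
    have h3 : ∀ x, T (T (T x)) = -(P.coeff 0 • x + P.coeff 1 • T x + P.coeff 2 • T (T x)) := by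
      intro x
      have h := LinearMap.congr_fun hP x
      conv_lhs at h => rw [hm.as_sum, hd]
      simp [Finset.sum_range_succ, pow_succ] at h
      linear_combination (norm := module) h
    obtain ⟨u, hu⟩ : ∃ u : V6 F, u ≠ 0 := exists_ne 0
    let φ : V6 F →ₗ[F] (Fin 3 → F) := LinearMap.pi ![B6 F u, B6 F (T u), B6 F (T (T u))]
    have hsurj : Function.Surjective φ := by
      rw [← LinearMap.range_eq_top]
      by_contra hne
      obtain ⟨f, hf0, hf⟩ := Submodule.exists_dual_map_eq_bot_of_lt_top (lt_top_iff_ne_top.2 hne) inferInstance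
      set p : F[X] := C (f (Pi.single 0 1)) + C (f (Pi.single 1 1)) * X + C (f (Pi.single 2 1)) * X ^ 2 with hp
      have hpu : aeval T p u = 0 := form_sep fun y => by
        have h1 : f (φ y) = 0 := (Submodule.eq_bot_iff _).1 hf _ (Submodule.mem_map_of_mem (LinearMap.mem_range_self φ y))
        have hsum : φ y = φ y 0 • Pi.single 0 1 + φ y 1 • Pi.single 1 1 + φ y 2 • Pi.single 2 1 := by
          funext i; fin_cases i <;> simp
        rw [hsum, map_add, map_add, map_smul, map_smul, map_smul] at h1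
        simp [φ] at h1
        simp [p, pow_two]
        linear_combination h1
      have hp0 : p ≠ 0 := by
        intro h0
        refine hf0 (LinearMap.pi_ext' fun i => LinearMap.ext_ring ?_)
        have hc := fun k => congrArg (fun z : F[X] => z.coeff k) h0
        have c0 := hc 0
        have c1 := hc 1
        have c2 := hc 2
        simp [p, coeff_X, coeff_C, coeff_X_pow] at c0 c1 c2
        fin_cases i <;> simpa
      have hcop : IsCoprime P p := hi.coprime_iff_not_dvd.2 fun hdvd => by
        have h1 := natDegree_le_of_dvd hdvd hp0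
        have h4 : p.natDegree ≤ 2 := by
          rw [hp]; compute_degree
        omega
      obtain ⟨a, b, hab⟩ := hcop
      have h1 := congrArg (fun z : F[X] => aeval T z u) hab
      simp [hP, hpu] at h1
      exact hu h1.symm
    obtain ⟨v, hv⟩ := hsurj ![1, 0, 0]
    have v0 := congrFun hv 0
    have v1 := congrFun hv 1
    have v2 := congrFun hv 2
    simp [φ] at v0 v1 v2
    refine ⟨u, v, fun i j => ?_, h3⟩
    rw [hT.pow, ← Module.End.mul_apply, ← pow_add]
    have hkey : ∀ k, B6 F u ((T ^ k) v) = B6 F ((T ^ k) u) v := fun k => (hT.pow k u v).symm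
    rw [hkey]
    fin_cases i <;> fin_cases j <;> simp [M, pow_succ, v0, v1, v2, h3]
  obtain ⟨u, v, huv, h3⟩ := frame hT hP
  obtain ⟨u', v', huv', h3'⟩ := frame hT' hP'
  have lag : ∀ {T : Module.End F (V6 F)}, SA T → ∀ (w : V6 F) (i j : Fin 3),
      B6 F ((T ^ (i : ℕ)) w) ((T ^ (j : ℕ)) w) = 0 := fun {T} hT w i j => by
    have := hT.orbit_zero h2 (X ^ (i : ℕ)) (X ^ (j : ℕ)) w
    simpa using this
  obtain ⟨S, hSa, hSb, hS⟩ := exists_sp_of_frames (lag hT u) (lag hT v) (lag hT' u') (lag hT' v') M hMdet huv huv'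
  have ha0 := hSa 0
  have ha1 := hSa 1
  have ha2 := hSa 2
  have hb0 := hSb 0
  have hb1 := hSb 1
  have hb2 := hSb 2
  simp [pow_two] at ha0 ha1 ha2 hb0 hb1 hb2
  refine ⟨S, hS T T' (fun i => ?_) (fun i => ?_)⟩
  · fin_cases i <;> simp [pow_two, ha0, ha1, ha2, h3, h3']
  · fin_cases i <;> simp [pow_two, hb0, hb1, hb2, h3, h3']

end CfsgLib.NormalCover
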