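import Cfsg.Agent.NormalCover.UnitaryMoves

set_option autoImplicit false
set_option linter.style.haveILetI false

/-!
`PSU(4,q)` is covered by the conjugates of the stabiliser of a nondegenerate line and of a totally isotropic plane.
-/

namespace CfsgLib.NormalCover

open Polynomial Matrix Module
open CfsgLib.ClassCount (Item IsItem)
open CfsgLib.Forms (hermSesq)

variable {F : Type*} [Field F] [Fintype F] {q : ℕ} {σ : F →+* F}

/-- An invariant totally isotropic plane. -/
def HasPlane (σ : F →+* F) (T : Module.End F (Fin 4 → F)) : Prop :=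
  ∃ W : Submodule F (Fin 4 → F), finrank F W = 2 ∧ (∀ a ∈ W, ∀ b ∈ W, hermSesq σ 4 a b = 0) ∧ ∀ w ∈ W, T w ∈ W

omit [Fintype F] in
theorem hasPlane_span {T : Module.End F (Fin 4 → F)} {v u : Fin 4 → F} (hvu : ∀ s t : F, s • v + t • u = 0 → s = 0 ∧ t = 0)
    (h1 : hermSesq σ 4 v v = 0) (h2 : hermSesq σ 4 v u = 0) (h3 : hermSesq σ 4 u v = 0) (h4 : hermSesq σ 4 u u = 0)
    (hTv : T v ∈ Submodule.span F (Set.range ![v, u])) (hTu : T u ∈ Submodule.span F (Set.range ![v, u])) :
    HasPlane σ T := by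
  refine ⟨Submodule.span F (Set.range ![v, u]), ?_, ?_, ?_⟩
  · rw [finrank_span_eq_card (LinearIndependent.pair_iff.2 hvu)]; simp
  · have hmem : ∀ {w}, w ∈ Submodule.span F (Set.range ![v, u]) → ∃ s t : F, w = s • v + t • u := by
      intro w hw
      rw [Matrix.range_cons_cons_empty, Submodule.mem_span_pair] at hw
      obtain ⟨s, t, rfl⟩ := hw
      exact ⟨s, t, rfl⟩
    intro a ha b hb
    obtain ⟨s, t, rfl⟩ := hmem ha
    obtain ⟨s', t', rfl⟩ := hmem hb
    simp only [map_add, LinearMap.map_smulₛₗ, map_smul, LinearMap.add_apply, LinearMap.smul_apply, h1, h2, h3, h4]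
    simp
  · intro w hw
    exact (Submodule.span_le.2 (Set.range_subset_iff.2 fun i => by
      fin_cases i
      · exact hTv
      · exact hTu) :
      Submodule.span F (Set.range ![v, u]) ≤ (Submodule.span F (Set.range ![v, u])).comap T) hw

/-- A vector killed by an irreducible quadratic in `T` spans an invariant totally isotropic plane. -/
theorem plane_of_quadratic (hF : Fintype.card F = q ^ 2) (hσ : ∀ x, σ x = x ^ q) (hσσ : ∀ x, σ (σ x) = x)
    {T : Module.End F (Fin 4 → F)} (hT : ∀ u v, hermSesq σ 4 (T u) (T v) = hermSesq σ 4 u v) {P : F[X]}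
    (hm : P.Monic) (hd : P.natDegree = 2) (hroot : ∀ c, ¬ P.IsRoot c) {u : Fin 4 → F} (hu : u ≠ 0)
    (hPu : aeval T P u = 0) : HasPlane σ T := by
  have hirr : Irreducible P := Polynomial.irreducible_of_degree_le_three_of_not_isRoot (by simp [hd]) hroot
  have hitem : IsItem ((P, 1) : Item F) :=
    ⟨hm, hirr, fun h0 => hroot 0 (by rw [IsRoot.def, ← coeff_zero_eq_eval_zero, h0]), le_rfl⟩
  have hne : SemisimpleSU.star σ P ≠ P := fun h => by
    have := odd_of_selfDual hF hσ hσσ hitem h
    rw [hd] at this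
    exact absurd this (by decide)
  have hcop : IsCoprime (SemisimpleSU.star σ P) P := by
    refine (hirr.coprime_iff_not_dvd.2 fun hdvd => hne ?_).symm
    exact (eq_of_monic_of_associated hm (SemisimpleSU.monic_star hitem.coeff_ne)
      (hirr.associated_of_dvd (SemisimpleSU.irreducible_star hσσ hm hitem.coeff_ne hirr) hdvd)).symm
  have hTu : aeval T P (T u) = 0 := by
    have e : Commute (aeval T P) T := by simpa using (Commute.all P X).map (aeval T)
    rw [← Module.End.mul_apply, e.eq, Module.End.mul_apply, hPu, map_zero]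
  have hperp : ∀ x y, aeval T P x = 0 → aeval T P y = 0 → hermSesq σ 4 x y = 0 :=
    fun x y hx hy => herm_ker_coprime hT hcop hx hy
  have hind : ∀ s t : F, s • u + t • T u = 0 → s = 0 ∧ t = 0 := by
    intro s t h
    by_cases ht : t = 0
    · refine ⟨?_, ht⟩
      rw [ht, zero_smul, add_zero] at h
      exact (smul_eq_zero.1 h).resolve_right hu
    · exfalso
      have hev : T.HasEigenvector (-(s / t)) u := by
        refine Module.End.hasEigenvector_iff.2 ⟨Module.End.mem_eigenspace_iff.2 ?_, hu⟩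
        have h' := congrArg (t⁻¹ • ·) h
        simp only [smul_add, smul_smul, inv_mul_cancel₀ ht, one_smul, smul_zero] at h'
        linear_combination (norm := module) h'
      have h2 := Module.End.aeval_apply_of_hasEigenvector (p := P) hev
      rw [hPu, eq_comm, smul_eq_zero] at h2
      exact hroot _ (h2.resolve_right hu)
  refine hasPlane_span hind (hperp _ _ hPu hPu) (hperp _ _ hPu hTu) (hperp _ _ hTu hPu) (hperp _ _ hTu hTu)
    (Submodule.subset_span ⟨1, rfl⟩) ?_
  rw [Matrix.range_cons_cons_empty, Submodule.mem_span_pair]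
  refine ⟨-P.coeff 0, -P.coeff 1, ?_⟩
  have hP : aeval T P u = P.coeff 0 • u + P.coeff 1 • T u + T (T u) := by
    conv_lhs => rw [hm.as_sum, hd]
    simp [Finset.sum_range_succ, Algebra.algebraMap_eq_smul_one, pow_two]
    module
  rw [hPu] at hP
  linear_combination (norm := module) hP

omit [Fintype F] in
theorem aeval_restrict_apply {V : Type*} [AddCommGroup V] [Module F V] {T : Module.End F V} {W : Submodule F V}
    {S : Module.End F W} (hS : ∀ x : W, (S x : V) = T (x : V)) (f : F[X]) (x : W) :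
    (aeval S f x : V) = aeval T f (x : V) := by
  induction f using Polynomial.induction_on' with
  | add p r hp hr => simp only [map_add, LinearMap.add_apply, Submodule.coe_add, hp, hr]
  | monomial k c =>
    simp only [aeval_monomial, Module.End.mul_apply, Module.algebraMap_end_apply, Submodule.coe_smul]
    congr 1
    induction k with
    | zero => rfl
    | succ k ih => rw [pow_succ', pow_succ', Module.End.mul_apply, Module.End.mul_apply, hS, ih]

/-- An element of `SU(4,q)` has a nondegenerate eigenvector or an invariant totally isotropic plane. -/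
theorem eigen_or_plane (hF : Fintype.card F = q ^ 2) (hσ : ∀ x, σ x = x ^ q) (hσσ : ∀ x, σ (σ x) = x)
    {T : Module.End F (Fin 4 → F)} (hT : ∀ u v, hermSesq σ 4 (T u) (T v) = hermSesq σ 4 u v) :
    (∃ (v : Fin 4 → F) (a : F), hermSesq σ 4 v v ≠ 0 ∧ T v = a • v) ∨ HasPlane σ T := by
  classical
  set B := hermSesq σ 4 with hBdef
  have hS : B.IsSymm := CfsgLib.Forms.hermSesq_isSymm hσσ 4
  have hsep := CfsgLib.Forms.hermSesq_sep (σ := σ) 4
  have hTinj : Function.Injective T := (injective_iff_map_eq_zero T).2 fun x hx =>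
    hsep x fun y => by rw [← hT, hx]; simp
  have hdim : finrank F (Fin 4 → F) = 4 := Module.finrank_fin_fun F
  by_cases hev : ∃ (v : Fin 4 → F) (a : F), v ≠ 0 ∧ T v = a • v
  · obtain ⟨v, a, hv0, hTv⟩ := hev
    by_cases hvv : B v v = 0
    swap
    · exact Or.inl ⟨v, a, hvv, hTv⟩
    have ha : a ≠ 0 := by
      rintro rfl
      rw [zero_smul, ← map_zero T] at hTv
      exact hv0 (hTinj hTv)
    set W := LinearMap.ker (B v) with hW
    have hWmem : ∀ {x}, x ∈ W ↔ B v x = 0 := fun {x} => LinearMap.mem_ker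
    have hWinv : ∀ x ∈ W, T x ∈ W := fun x hx => by
      have h := hT v x
      rw [hTv, LinearMap.map_smulₛₗ, LinearMap.smul_apply, hWmem.1 hx, smul_eq_mul] at h
      exact hWmem.2 ((mul_eq_zero.1 h).resolve_left ((map_ne_zero σ).2 ha))
    have hBv : B v ≠ 0 := fun h => hv0 (hsep v fun y => by rw [← hBdef, h]; simp)
    have hWdim : finrank F W + 1 = 4 := (Module.Dual.finrank_ker_add_one_of_ne_zero hBv).trans hdim
    have hvW : v ∈ W := hWmem.2 hvv
    let S : Module.End F W := T.restrict hWinv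
    have hS' : ∀ x : W, (S x : Fin 4 → F) = T x := fun x => rfl
    have haev : ∀ (f : F[X]) (x : W), (aeval S f x : Fin 4 → F) = aeval T f x := aeval_restrict_apply hS'
    have hroota : S.charpoly.IsRoot a := by
      refine (Module.End.hasEigenvalue_iff_isRoot_charpoly _ _).1 (Module.End.hasEigenvalue_of_hasEigenvector (x := ⟨v, hvW⟩) ?_)
      exact Module.End.hasEigenvector_iff.2 ⟨Module.End.mem_eigenspace_iff.2 (Subtype.ext hTv), fun h => hv0 (congrArg Subtype.val h)⟩
    obtain ⟨P, hP⟩ := dvd_iff_isRoot.2 hroota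
    have hcm : S.charpoly.Monic := LinearMap.charpoly_monic S
    have hPm : P.Monic := (monic_X_sub_C a).of_mul_monic_left (hP ▸ hcm)
    have hPd : P.natDegree = 2 := by
      have h := congrArg natDegree hP
      rw [LinearMap.charpoly_natDegree, (monic_X_sub_C a).natDegree_mul hPm, natDegree_X_sub_C] at h
      omega
    have hkill : ∀ x ∈ W, aeval T P (T x - a • x) = 0 := by
      intro x hx
      have h := congrArg (fun f => (aeval S f ⟨x, hx⟩ : Fin 4 → F)) hP
      rw [LinearMap.aeval_self_charpoly, LinearMap.zero_apply, Submodule.coe_zero, haev, mul_comm, map_mul,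
        Module.End.mul_apply, map_sub, aeval_X, aeval_C, LinearMap.sub_apply, Module.algebraMap_end_apply] at h
      exact h.symm
    by_cases hPr : ∀ c, ¬ P.IsRoot c
    · by_cases hex : ∃ x ∈ W, T x - a • x ≠ 0
      · obtain ⟨x, hx, hx0⟩ := hex
        exact Or.inr (plane_of_quadratic hF hσ hσσ hT hPm hPd hPr hx0 (hkill x hx))
      · exfalso
        push Not at hex
        have hSa : S = a • (1 : Module.End F W) := LinearMap.ext fun x => Subtype.ext (by
          rw [hS']; simpa [sub_eq_zero] using hex x.1 x.2)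
        have hc : S.charpoly = (X - C a) ^ (finrank F W) := by
          rw [hSa, LinearMap.charpoly_def, map_smul, LinearMap.toMatrix_one, ← Algebra.algebraMap_eq_smul_one]
          simp [Matrix.algebraMap_eq_diagonal, Matrix.charpoly_diagonal, Module.finrank_eq_card_chooseBasisIndex]
        rw [hP, show finrank F W = 2 + 1 by omega, pow_succ'] at hc
        exact hPr a (by rw [mul_left_cancel₀ (X_sub_C_ne_zero a) hc]; simp)
    push Not at hPr
    obtain ⟨c₁, hc₁⟩ := hPr
    obtain ⟨Q, hQ⟩ := dvd_iff_isRoot.2 hc₁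
    have hQm : Q.Monic := (monic_X_sub_C c₁).of_mul_monic_left (hQ ▸ hPm)
    have hQd : Q.natDegree = 1 := by
      have h := congrArg natDegree hQ
      rw [hPd, (monic_X_sub_C c₁).natDegree_mul hQm, natDegree_X_sub_C] at h
      omega
    obtain ⟨c₂, rfl⟩ : ∃ c₂, Q = X - C c₂ := ⟨-Q.coeff 0, by
      rw [hQm.eq_X_add_C hQd]; simp⟩
    obtain ⟨w, hwW, hwv, c, k, hTw⟩ : ∃ w ∈ W, w ∉ F ∙ v ∧ ∃ c k : F, T w = c • w + k • v := by
      obtain ⟨u, huW, huv⟩ : ∃ u ∈ W, u ∉ F ∙ v := by
        by_contra hc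
        push Not at hc
        have := Submodule.finrank_mono (show W ≤ F ∙ v from hc)
        rw [finrank_span_singleton hv0] at this
        omega
      by_cases h2 : T u - c₂ • u ∈ F ∙ v
      · obtain ⟨k, hk⟩ := Submodule.mem_span_singleton.1 h2
        exact ⟨u, huW, huv, c₂, k, by rw [hk]; abel⟩
      by_cases h1 : T (T u - c₂ • u) - c₁ • (T u - c₂ • u) ∈ F ∙ v
      · obtain ⟨k, hk⟩ := Submodule.mem_span_singleton.1 h1
        exact ⟨_, W.sub_mem (hWinv u huW) (W.smul_mem _ huW), h2, c₁, k, by rw [hk]; abel⟩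
      refine ⟨_, W.sub_mem (hWinv _ (W.sub_mem (hWinv u huW) (W.smul_mem _ huW))) (W.smul_mem _ (W.sub_mem (hWinv u huW) (W.smul_mem _ huW))), h1, a, 0, ?_⟩
      have h := hkill u huW
      rw [hQ] at h
      simp [Algebra.algebraMap_eq_smul_one] at h ⊢
      linear_combination (norm := module) h
    have hindep : ∀ {x : Fin 4 → F}, x ∉ F ∙ v → ∀ s t : F, s • v + t • x = 0 → s = 0 ∧ t = 0 := by
      intro x hx s t h
      have ht : t = 0 := by
        by_contra ht
        refine hx (Submodule.mem_span_singleton.2 ⟨-(s / t), ?_⟩)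
        have h' := congrArg (t⁻¹ • ·) h
        simp only [smul_add, smul_smul, inv_mul_cancel₀ ht, one_smul, smul_zero] at h'
        linear_combination (norm := module) -h'
      rw [ht, zero_smul, add_zero] at h
      exact ⟨(smul_eq_zero.1 h).resolve_right hv0, ht⟩
    have hvw : B v w = 0 := hWmem.1 hwW
    have hwv0 : B w v = 0 := by rw [← hS.eq, hvw, map_zero]
    have hspanv : ∀ {x : Fin 4 → F}, a • v ∈ Submodule.span F (Set.range ![v, x]) := fun {x} =>
      Submodule.smul_mem _ _ (Submodule.subset_span ⟨0, rfl⟩)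
    have hspan2 : ∀ {x : Fin 4 → F} (s t : F), s • x + t • v ∈ Submodule.span F (Set.range ![v, x]) := fun s t =>
      add_mem (Submodule.smul_mem _ _ (Submodule.subset_span ⟨1, rfl⟩)) (Submodule.smul_mem _ _ (Submodule.subset_span ⟨0, rfl⟩))
    by_cases hww : B w w = 0
    · exact Or.inr (hasPlane_span (hindep hwv) hvv hvw hwv0 hww (hTv ▸ hspanv) (hTw ▸ hspan2 c k))
    have hc0 : c ≠ 0 := by
      rintro rfl
      rw [zero_smul, zero_add] at hTw
      refine hwv (Submodule.mem_span_singleton.2 ⟨k / a, hTinj ?_⟩)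
      rw [map_smul, hTv, hTw, smul_smul, div_mul_cancel₀ _ ha]
    set U := W ⊓ LinearMap.ker (B w) with hU
    have hvU : v ∈ U := ⟨hvW, hwv0⟩
    have hwU : w ∉ U := fun h => hww h.2
    have hUinv : ∀ x ∈ U, T x ∈ U := fun x hx => by
      refine ⟨hWinv x hx.1, ?_⟩
      have h := hT w x
      rw [hTw, map_add, LinearMap.add_apply, LinearMap.map_smulₛₗ, LinearMap.map_smulₛₗ, LinearMap.smul_apply,
        LinearMap.smul_apply, hWmem.1 (hWinv x hx.1), smul_zero, add_zero, smul_eq_mul,
        show B w x = 0 from hx.2] at h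
      exact (mul_eq_zero.1 h).resolve_left ((map_ne_zero σ).2 hc0)
    have hUlt : finrank F U < finrank F W :=
      Submodule.finrank_lt_finrank_of_lt (lt_of_le_of_ne inf_le_left fun h => hwU (h ▸ hwW))
    have hUge : 2 ≤ finrank F U := by
      have h1 := Submodule.finrank_sup_add_finrank_inf_eq W (LinearMap.ker (B w))
      have h2 : finrank F (LinearMap.ker (B w)) + 1 = 4 :=
        (Module.Dual.finrank_ker_add_one_of_ne_zero (fun h => hww (by rw [h]; simp))).trans hdim
      have h3 := Submodule.finrank_le (W ⊔ LinearMap.ker (B w))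
      rw [← hU, hdim] at *
      omega
    obtain ⟨u, huU, huv⟩ : ∃ u ∈ U, u ∉ F ∙ v := by
      by_contra hc
      push Not at hc
      have := Submodule.finrank_mono (show U ≤ F ∙ v from hc)
      rw [finrank_span_singleton hv0] at this
      omega
    have hUspan : Submodule.span F (Set.range ![v, u]) = U := by
      refine Submodule.eq_of_le_of_finrank_le (Submodule.span_le.2 (Set.range_subset_iff.2 fun i => by
        fin_cases i
        · exact hvU
        · exact huU)) ?_
      rw [finrank_span_eq_card (LinearIndependent.pair_iff.2 (hindep huv))]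
      simp; omega
    have hTu' : T u ∈ Submodule.span F (Set.range ![v, u]) := hUspan.symm ▸ hUinv u huU
    obtain ⟨l, d, hTu⟩ : ∃ l d : F, l • v + d • u = T u := by
      rw [Matrix.range_cons_cons_empty] at hTu'
      exact Submodule.mem_span_pair.1 hTu'
    have hvu : B v u = 0 := hWmem.1 huU.1
    have huv0 : B u v = 0 := by rw [← hS.eq, hvu, map_zero]
    have hwu : B w u = 0 := huU.2
    have huw : B u w = 0 := by rw [← hS.eq, hwu, map_zero]
    by_cases huu : B u u = 0
    · exact Or.inr (hasPlane_span (hindep huv) hvv hvu huv0 huu (hTv ▸ hspanv) hTu')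
    by_cases hcd : c = d
    · subst hcd
      obtain ⟨t, ht, -⟩ := exists_norm_eq hF hσ (r := -(B w w / B u u)) (neg_ne_zero.2 (div_ne_zero hww huu))
        (by rw [map_neg, map_div₀, hS.eq, hS.eq])
      have hxx : B (w + t • u) (w + t • u) = 0 := by
        simp only [map_add, LinearMap.map_smulₛₗ, map_smul, LinearMap.add_apply, LinearMap.smul_apply, hwu, huw,
          smul_eq_mul, RingHom.id_apply, mul_zero, add_zero, zero_add]
        rw [← mul_assoc, mul_comm t (σ t), ht]
        field_simp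
        ring
      have hvx : B v (w + t • u) = 0 := by simp [hvw, hvu]
      have hxv : B (w + t • u) v = 0 := by rw [← hS.eq, hvx, map_zero]
      have hx : w + t • u ∉ F ∙ v := fun h => by
        obtain ⟨r, hr⟩ := Submodule.mem_span_singleton.1 h
        have := congrArg (B w) hr
        simp [hwv0, hwu] at this
        exact hww this.symm
      have hTx : T (w + t • u) = c • (w + t • u) + (k + t * l) • v := by
        rw [map_add, map_smul, hTw, ← hTu]; module
      exact Or.inr (hasPlane_span (hindep hx) hvv hvx hxv hxx (hTv ▸ hspanv) (hTx ▸ hspan2 _ _))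
    left
    have key : ∀ (x : Fin 4 → F) (e j : F), B v x = 0 → B x v = 0 → B x x ≠ 0 → T x = e • x + j • v → e ≠ a →
        ∃ (v : Fin 4 → F) (a : F), B v v ≠ 0 ∧ T v = a • v := by
      intro x e j h1 h2 h3 h4 h5
      have hne : e - a ≠ 0 := sub_ne_zero.2 h5
      refine ⟨x + (j / (e - a)) • v, e, ?_, ?_⟩
      · simpa [h1, h2, hvv] using h3
      · rw [map_add, map_smul, hTv, h4, smul_smul, smul_add, smul_smul, add_assoc, ← add_smul]
        congr 2
        field_simp
        ring
    by_cases hca : c = a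
    · exact key u d l hvu huv0 huu (by rw [← hTu, add_comm]) (fun h => hcd (hca.trans h.symm))
    · exact key w c k hvw hwv0 hww hTw hca
  right
  push Not at hev
  have hcm : T.charpoly.Monic := LinearMap.charpoly_monic T
  have hcd : T.charpoly.natDegree = 4 := (LinearMap.charpoly_natDegree T).trans hdim
  have hnoroot : ∀ c, ¬ T.charpoly.IsRoot c := fun c hc => by
    obtain ⟨x, hx⟩ := ((Module.End.hasEigenvalue_iff_isRoot_charpoly _ _).2 hc).exists_hasEigenvector
    exact hev x c hx.2 (Module.End.mem_eigenspace_iff.1 hx.1)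
  by_cases hirr : Irreducible T.charpoly
  · exfalso
    have hitem : IsItem ((T.charpoly, 1) : Item F) :=
      ⟨hcm, hirr, fun h0 => hnoroot 0 (by rw [IsRoot.def, ← coeff_zero_eq_eval_zero, h0]), le_rfl⟩
    have hne : SemisimpleSU.star σ T.charpoly ≠ T.charpoly := fun h => by
      have := odd_of_selfDual hF hσ hσσ hitem h
      rw [hcd] at this
      exact absurd this (by decide)
    have hcop : IsCoprime (SemisimpleSU.star σ T.charpoly) T.charpoly := by
      refine (hirr.coprime_iff_not_dvd.2 fun hdvd => hne ?_).symm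
      exact (eq_of_monic_of_associated hcm (SemisimpleSU.monic_star hitem.coeff_ne)
        (hirr.associated_of_dvd (SemisimpleSU.irreducible_star hσσ hcm hitem.coeff_ne hirr) hdvd)).symm
    have hz : ∀ x, aeval T T.charpoly x = 0 := fun x => by rw [LinearMap.aeval_self_charpoly]; rfl
    have := hsep (Pi.single 0 1) fun y => herm_ker_coprime hT hcop (hz _) (hz y)
    simpa using congrFun this 0
  obtain ⟨P, Q, hPm, hQm, hPQ, hdeg⟩ : ∃ P Q : F[X], P.Monic ∧ Q.Monic ∧ P * Q = T.charpoly ∧ 0 < P.natDegree ∧ 0 < Q.natDegree := by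
    rw [hcm.irreducible_iff_natDegree] at hirr
    push Not at hirr
    obtain ⟨P, Q, hP, hQ, hPQ, h1, h2⟩ := hirr (fun h => by simp [h] at hcd)
    exact ⟨P, Q, hP, hQ, hPQ, Nat.pos_of_ne_zero h1, Nat.pos_of_ne_zero h2⟩
  have hPr : ∀ c, ¬ P.IsRoot c := fun c h => hnoroot c (by rw [← hPQ, IsRoot.def, eval_mul, h.eq_zero, zero_mul])
  have hQr : ∀ c, ¬ Q.IsRoot c := fun c h => hnoroot c (by rw [← hPQ, IsRoot.def, eval_mul, h.eq_zero, mul_zero])
  have hne1 : ∀ {R : F[X]}, R.Monic → (∀ c, ¬ R.IsRoot c) → R.natDegree ≠ 1 := fun {R} hR hr h1 =>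
    hr (-R.coeff 0) (by rw [IsRoot.def, hR.eq_X_add_C h1]; simp)
  have hsum : P.natDegree + Q.natDegree = 4 := by rw [← hPm.natDegree_mul hQm, hPQ, hcd]
  have hP2 : P.natDegree = 2 := by have := hne1 hPm hPr; have := hne1 hQm hQr; omega
  have hQ2 : Q.natDegree = 2 := by omega
  have hu : (Pi.single 0 1 : Fin 4 → F) ≠ 0 := fun h => by simpa using congrFun h 0
  by_cases hQu : aeval T Q (Pi.single 0 1) = 0
  · exact plane_of_quadratic hF hσ hσσ hT hQm hQ2 hQr hu hQu
  · refine plane_of_quadratic hF hσ hσσ hT hPm hP2 hPr hQu ?_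
    rw [← Module.End.mul_apply, ← map_mul, hPQ, LinearMap.aeval_self_charpoly]
    rfl

/-- The unitary case in dimension four. -/
theorem cov_psu4 (hF : Fintype.card F = q ^ 2) : Cov (Cfsg.PSU 4 F q) := by
  classical
  obtain ⟨σ, hσ, hσσ⟩ := CfsgLib.FieldEmb.exists_conj hF
  obtain ⟨ζ, hζ, hζ0⟩ := exists_norm_eq hF hσ (r := (-1 : F)) (by simp) (by simp)
  let L : (Fin 2 → F) →ₗ[F] (Fin 4 → F) := Matrix.mulVecLin !![1, 0; ζ, 0; 0, 1; 0, ζ]
  have hLval : ∀ p, L p = ![p 0, ζ * p 0, p 1, ζ * p 1] := fun p => by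
    funext i
    fin_cases i <;> simp [L, mulVec, dotProduct, Fin.sum_univ_two]
  set W₀ := LinearMap.range L with hW₀
  have hWdim : finrank F W₀ = 2 := by
    rw [hW₀, LinearMap.finrank_range_of_inj, Module.finrank_fin_fun]
    intro p p' h
    rw [hLval, hLval] at h
    funext i
    fin_cases i
    · exact congrFun h 0
    · exact congrFun h 2
  have hWti : ∀ a ∈ W₀, ∀ b ∈ W₀, hermSesq σ 4 a b = 0 := by
    rintro _ ⟨p, rfl⟩ _ ⟨p', rfl⟩
    rw [CfsgLib.Forms.hermSesq_apply, hLval, hLval, Fin.sum_univ_four]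
    simp [map_mul]
    linear_combination (σ (p 0) * p' 0 + σ (p 1) * p' 1) * hζ
  let π : Equiv.Perm (Fin 4) := Equiv.swap 0 1 * Equiv.swap 1 2
  have hπ : Equiv.Perm.sign π = 1 := by
    rw [map_mul, Equiv.Perm.sign_swap (by decide), Equiv.Perm.sign_swap (by decide)]; rfl
  refine cov_quotient _ (H := lineStab (suHom 4 F q) (Pi.single 0 1)) (K := subStab W₀) ?_ ?_
    (center_le_lineStab (by norm_num) hF hσ _) ?_ ?_
  · exact lineStab_ne_top hσ hπ (j := π.symm 0) (by decide) (Equiv.apply_symm_apply _ _)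
  · intro h
    obtain ⟨A, hA⟩ := exists_perm_su (F := F) hσ π hπ
    have hmem : A ∈ subStab (q := q) W₀ := h ▸ Subgroup.mem_top A
    obtain ⟨p, hp⟩ := (hmem (L ![1, 0])).2 ⟨_, rfl⟩
    rw [hA, hLval, hLval] at hp
    have h0 := congrFun hp 0
    have h1 := congrFun hp 1
    have h2 := congrFun hp 2
    have h3 := congrFun hp 3
    simp [π, Equiv.swap_apply_def] at h0 h1 h2 h3
    grind
  · intro z hz
    obtain ⟨c, hc0, hc⟩ := center_scalar (by norm_num) hF hσ hz
    exact mem_subStab_of_le fun v hv => by rw [hc]; exact W₀.smul_mem c hv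
  intro g
  rcases eigen_or_plane hF hσ hσσ (T := Matrix.mulVecLin (suHom 4 F q g)) (fun u v => herm_suHom hσ g u v) with
    ⟨v, a, hv, hgv⟩ | ⟨W, hW2, hWW, hWT⟩
  · obtain ⟨x, hx⟩ := conj_mem_lineStab hF hσ hσσ g 0 hv hgv
    exact ⟨x, Or.inl hx⟩
  · obtain ⟨A, hA⟩ := exists_su_map hF hσ hσσ W W₀ (LinearEquiv.ofFinrankEq W W₀ (hW2.trans hWdim.symm))
      (fun x x' => by rw [hWti _ (Subtype.coe_prop _) _ (Subtype.coe_prop _), hWW _ x.2 _ x'.2])
      (fun c hc => by
        obtain ⟨h, h1, h2⟩ := CfsgLib.Forms.exists_det_stab (conj_ne_id hF hσ) hσσ (hermSesq σ 4)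
          (CfsgLib.Forms.hermSesq_isSymm hσσ 4) (CfsgLib.Forms.hermSesq_sep 4) (by simp) W₀ hWti
          (c := c) (by rw [mul_comm]; exact hc)
        exact ⟨h, h2, fun y hy => (h1 y).2 hy⟩)
    refine ⟨A, Or.inr (mem_subStab_of_le fun v hv => ?_)⟩
    have himg : W.map (Matrix.mulVecLin (suHom 4 F q A)) = W₀ := by
      refine Submodule.eq_of_le_of_finrank_le ?_ ?_
      · rintro _ ⟨w, hw, rfl⟩; exact hA w hw
      · rw [hWdim, ← hW2]
        exact le_of_eq (Submodule.equivMapOfInjective _ (fun a b hab => by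
          simpa only [Matrix.mulVecLin_apply, suHom_inv_mul] using congrArg (suHom 4 F q A⁻¹ *ᵥ ·) hab) W).finrank_eq
    obtain ⟨w, hw, rfl⟩ := himg.ge hv
    rw [Matrix.mulVecLin_apply, map_mul, map_mul, ← mulVec_mulVec, ← mulVec_mulVec, suHom_inv_mul]
    exact hA _ (hWT w hw)

end CfsgLib.NormalCover
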