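import Cfsg.Agent.NormalCover.TorusThree

set_option autoImplicit false
set_option linter.style.haveILetI false

/-!
`PSU(3,q)`, `q` a power of three, is covered by the conjugates of the stabiliser of a nondegenerate line and of the
normaliser of an irreducible torus.
-/

namespace CfsgLib.NormalCover

open Polynomial Matrix Module
open CfsgLib.ClassCount (Item IsItem dataOf Decomp size)
open CfsgLib.Forms (hermSesq)
open CfsgLib.InvNorm (tau)

variable {F : Type*} [Field F] [Fintype F] [CharP F 3] {q : ℕ} {σ : F →+* F}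

omit [Fintype F] in
theorem eq_one_of_pow {R : Type*} [Field R] [CharP R 3] {z : R} {k : ℕ} (hz : z ^ 3 ^ k = 1) : z = 1 := by
  haveI := Fact.mk Nat.prime_three
  have h1 : (z - 1) ^ 3 ^ k = 0 := by rw [sub_pow_char_pow, hz, one_pow, sub_self]
  exact sub_eq_zero.1 (pow_eq_zero_iff (pow_ne_zero _ (by norm_num)) |>.1 h1)

omit [Fintype F] in
theorem cube_matrix (c : F) (N : Matrix (Fin 3) (Fin 3) F) : (c • 1 + N) ^ 3 = c ^ 3 • 1 + N ^ 3 := by
  haveI := Fact.mk Nat.prime_three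
  rw [add_pow_char_of_commute 3 ((Commute.one_left N).smul_left c), _root_.smul_pow, one_pow]

/-- The star image of an irreducible polynomial annihilating an isometry is the polynomial itself. -/
theorem star_eq_self (hσσ : ∀ x, σ (σ x) = x) {n : ℕ} {T : Module.End F (Fin n → F)} (hn : 0 < n)
    (hT : ∀ u v, hermSesq σ n (T u) (T v) = hermSesq σ n u v) {P : F[X]} (hP : IsItem ((P, 1) : Item F))
    (hz : aeval T P = 0) : SemisimpleSU.star σ P = P := by
  by_contra hne
  have hcop : IsCoprime (SemisimpleSU.star σ P) P := by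
    refine (hP.irr.coprime_iff_not_dvd.2 fun hdvd => hne ?_).symm
    exact (eq_of_monic_of_associated hP.monic (SemisimpleSU.monic_star hP.coeff_ne)
      (hP.irr.associated_of_dvd (SemisimpleSU.irreducible_star hσσ hP.monic hP.coeff_ne hP.irr) hdvd)).symm
  have hz' : ∀ x, aeval T P x = 0 := fun x => by rw [hz]; rfl
  have := CfsgLib.Forms.hermSesq_sep (σ := σ) n (Pi.single ⟨0, hn⟩ 1) fun y => herm_ker_coprime hT hcop (hz' _) (hz' y)
  simpa using congrFun this ⟨0, hn⟩

/-- An element without a nondegenerate eigenvector is irreducible or regular unipotent. -/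
theorem classify3 (hσ : ∀ x, σ x = x ^ q) (hσσ : ∀ x, σ (σ x) = x) (g : Cfsg.SU 3 F q)
    (hno : ∀ (v : Fin 3 → F) (a : F), suHom 3 F q g *ᵥ v = a • v → hermSesq σ 3 v v = 0) :
    (∀ c, ¬ (suHom 3 F q g).charpoly.IsRoot c) ∨
      ((suHom 3 F q g - 1) ^ 3 = 0 ∧ (suHom 3 F q g - 1) ^ 2 ≠ 0) := by
  haveI := Fact.mk Nat.prime_three
  set G := suHom 3 F q g with hG
  set B := hermSesq σ 3 with hBdef
  have hT : ∀ u v, B (G *ᵥ u) (G *ᵥ v) = B u v := herm_suHom hσ g
  have hS : B.IsSymm := CfsgLib.Forms.hermSesq_isSymm hσσ 3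
  by_cases hr : ∀ c, ¬ G.charpoly.IsRoot c
  · exact Or.inl hr
  right
  push Not at hr
  obtain ⟨a, ha'⟩ := hr
  rw [IsRoot.def, Matrix.eval_charpoly] at ha'
  obtain ⟨v, hv0, hv⟩ := Matrix.exists_mulVec_eq_zero_iff.2 ha'
  have hGv : G *ᵥ v = a • v := by
    rw [sub_mulVec, sub_eq_zero] at hv
    rw [← hv]
    funext i
    simp [mulVec_diagonal]
  have ha : a ≠ 0 := by
    rintro rfl
    have := congrArg (suHom 3 F q g⁻¹ *ᵥ ·) hGv
    simp only [hG, suHom_inv_mul, zero_smul, mulVec_zero] at this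
    exact hv0 this
  have hvv := hno v a hGv
  set W := LinearMap.ker (B v) with hW
  have hBv : B v ≠ 0 := fun h0 => hv0 (CfsgLib.Forms.hermSesq_sep 3 v fun y => by rw [← hBdef, h0]; simp)
  have hWdim : finrank F W + 1 = 3 := (Module.Dual.finrank_ker_add_one_of_ne_zero hBv).trans (Module.finrank_fin_fun F)
  obtain ⟨w, hwW, hwv⟩ : ∃ w ∈ W, w ∉ F ∙ v := by
    by_contra hc
    push Not at hc
    have := Submodule.finrank_mono (show W ≤ F ∙ v from hc)
    rw [finrank_span_singleton hv0] at this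
    omega
  have hindep : ∀ s t : F, s • v + t • w = 0 → s = 0 ∧ t = 0 := by
    intro s t h
    have ht : t = 0 := by
      by_contra ht
      refine hwv (Submodule.mem_span_singleton.2 ⟨-(s / t), ?_⟩)
      have h' := congrArg (t⁻¹ • ·) h
      simp only [smul_add, smul_smul, inv_mul_cancel₀ ht, one_smul, smul_zero] at h'
      linear_combination (norm := module) -h'
    rw [ht, zero_smul, add_zero] at h
    exact ⟨(smul_eq_zero.1 h).resolve_right hv0, ht⟩
  have hcoord : ∀ x ∈ W, ∃ s t : F, s • v + t • w = x := by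
    have hspan : Submodule.span F (Set.range ![v, w]) = W := by
      refine Submodule.eq_of_le_of_finrank_le (Submodule.span_le.2 (Set.range_subset_iff.2 fun i => by
        fin_cases i
        · exact hvv
        · exact hwW)) ?_
      rw [finrank_span_eq_card (LinearIndependent.pair_iff.2 hindep)]
      simp; omega
    intro x hx
    rw [← hspan, Matrix.range_cons_cons_empty] at hx
    exact Submodule.mem_span_pair.1 hx
  obtain ⟨u, hu⟩ : ∃ u, B v u ≠ 0 := by
    by_contra hc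
    push Not at hc
    exact hBv (LinearMap.ext hc)
  have hvw : B v w = 0 := hwW
  have hwv0 : B w v = 0 := by rw [← hS.eq, hvw, map_zero]
  have hww : B w w ≠ 0 := by
    intro h0
    refine hwv (Submodule.mem_span_singleton.2 ⟨σ (B w u / B v u), ?_⟩)
    symm
    refine sub_eq_zero.1 (CfsgLib.Forms.hermSesq_sep (σ := σ) 3 _ fun x => ?_)
    obtain ⟨s, t, hx⟩ := hcoord (x - (B v x / B v u) • u) (LinearMap.mem_ker.2 (by simp; field_simp; ring))
    have hx' : x = s • v + t • w + (B v x / B v u) • u := by rw [hx, sub_add_cancel]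
    rw [hx']
    simp only [← hBdef, map_sub, LinearMap.sub_apply, map_add, map_smul, LinearMap.map_smulₛₗ, LinearMap.smul_apply,
      LinearMap.add_apply, hσσ, hwv0, h0, hvv, hvw, smul_eq_mul]
    field_simp
    ring
  have hGW : ∀ x, B v (G *ᵥ x) * σ a = B v x := fun x => by
    have := hT v x
    rw [hGv, LinearMap.map_smulₛₗ, LinearMap.smul_apply, smul_eq_mul] at this
    linear_combination this
  have hσa : σ a ≠ 0 := (map_ne_zero σ).2 ha
  obtain ⟨k, c, hGw⟩ := hcoord (G *ᵥ w) (LinearMap.mem_ker.2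
    ((mul_eq_zero.1 ((hGW w).trans hvw)).resolve_right hσa))
  have hca : c = a := by
    by_contra hne
    have hne' : c - a ≠ 0 := sub_ne_zero.2 hne
    refine hww ?_
    have := hno (w + (k / (c - a)) • v) c (by
      rw [mulVec_add, mulVec_smul, hGv, ← hGw, smul_smul, smul_add, smul_smul, add_comm (k • v) (c • w), add_assoc,
        ← add_smul]
      congr 2
      field_simp
      ring)
    simpa [hvw, hwv0, hvv, ← hBdef] using this
  rw [hca] at hGw
  have hnorm : σ a * a = 1 := by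
    have := hT w w
    rw [← hGw] at this
    simp only [map_add, map_smul, LinearMap.map_smulₛₗ, LinearMap.smul_apply, LinearMap.add_apply, hvv, hvw, hwv0,
      smul_eq_mul, RingHom.id_apply] at this
    refine mul_right_cancel₀ hww ?_
    linear_combination this
  set N := G - a • (1 : Matrix (Fin 3) (Fin 3) F) with hN
  have hNv : N *ᵥ v = 0 := by rw [hN, sub_mulVec, hGv, smul_mulVec, one_mulVec, sub_self]
  have hNw : N *ᵥ w = k • v := by rw [hN, sub_mulVec, ← hGw, smul_mulVec, one_mulVec, add_sub_cancel_right]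
  have hNW : ∀ x, B v (N *ᵥ x) = 0 := fun x => by
    rw [hN, sub_mulVec, smul_mulVec, one_mulVec, map_sub, map_smul, smul_eq_mul]
    refine (mul_eq_zero.1 (?_ : _ * σ a = 0)).resolve_right hσa
    linear_combination hGW x - B v x * hnorm
  have hN3 : N ^ 3 = 0 := Matrix.ext_iff_mulVec.2 fun x => by
    obtain ⟨s, t, hst⟩ := hcoord (N *ᵥ x) (hNW x)
    rw [pow_three, ← mulVec_mulVec, ← mulVec_mulVec, ← hst]
    simp [mulVec_add, mulVec_smul, hNv, hNw]
  have hG3 : G = a • 1 + N := by rw [hN, add_sub_cancel]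
  have hfr : ∀ {x y : F}, x ^ 3 = y ^ 3 → x = y := fun {x y} h => frobenius_inj F 3 h
  have hdet : a ^ 3 = 1 := hfr (by
    have h1 : (G ^ 3).det = 1 := by rw [det_pow, hG, suHom_det, one_pow]
    rw [hG3, cube_matrix, hN3, add_zero, det_smul, det_one, mul_one, Fintype.card_fin] at h1
    rw [one_pow, h1])
  have ha1 : a = 1 := hfr (by rw [hdet, one_pow])
  have hGN : G - 1 = N := by rw [hN, ha1, one_smul]
  refine ⟨by rw [hGN]; exact hN3, fun h2 => ?_⟩
  rw [hGN] at h2
  have hk : k ≠ 0 := by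
    rintro rfl
    exact hww (hno w a (by rw [← hGw]; simp))
  obtain ⟨s, t, hst⟩ := hcoord (N *ᵥ u) (hNW u)
  have h0 := congrArg (· *ᵥ u) h2
  simp only [pow_two, ← mulVec_mulVec, ← hst, mulVec_add, mulVec_smul, hNv, hNw, smul_zero, zero_add, smul_smul,
    zero_mulVec, smul_eq_zero, mul_eq_zero] at h0
  have ht : t = 0 := (h0.resolve_right hv0).resolve_right hk
  have hGu : G *ᵥ u = a • u + s • v := by
    rw [hG3, add_mulVec, smul_mulVec, one_mulVec, ← hst, ht, zero_smul, add_zero]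
  have := hT w u
  rw [← hGw, hGu] at this
  simp only [map_add, map_smul, LinearMap.map_smulₛₗ, LinearMap.smul_apply, LinearMap.add_apply, hvv, hwv0,
    smul_eq_mul, RingHom.id_apply, mul_zero, add_zero] at this
  have h9 : σ k * a * B v u = 0 := by linear_combination this - B w u * hnorm
  exact hu ((mul_eq_zero.1 h9).resolve_left (mul_ne_zero ((map_ne_zero σ).2 hk) ha))

/-- Conjugation by a unitary matrix is realised in `SU`, as scalars absorb determinants. -/
theorem su_conj_of_gu (hσ : ∀ x, σ x = x ^ q) (hσσ : ∀ x, σ (σ x) = x)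
    (P : Cfsg.GU 3 F q) (G M : Matrix (Fin 3) (Fin 3) F)
    (h : (P : GL (Fin 3) F).1 * G = M * (P : GL (Fin 3) F).1) :
    ∃ A : Cfsg.SU 3 F q, suHom 3 F q A * G * suHom 3 F q A⁻¹ = M := by
  haveI := Fact.mk Nat.prime_three
  set Pm := (P : GL (Fin 3) F).1 with hPm
  have hU : tau σ Pm * Pm = 1 := (CfsgLib.InvNorm.mem_GU_iff hσ hσσ _).1 P.2
  have hδ : σ Pm.det * Pm.det = 1 := by
    have := congrArg Matrix.det hU
    rwa [det_mul, tau, det_transpose, ← RingHom.mapMatrix_apply, ← RingHom.map_det, det_one] at this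
  obtain ⟨c, hc⟩ := (bijective_frobenius (R := F) 3).2 Pm.det⁻¹
  have hc' : c ^ 3 = Pm.det⁻¹ := hc
  have hcn : σ c * c = 1 := frobenius_inj F 3 (by
    show (σ c * c) ^ 3 = 1 ^ 3
    rw [mul_pow, ← map_pow, hc', map_inv₀, ← mul_inv, hδ, inv_one, one_pow])
  have hdet : (c • Pm).det = 1 := by
    rw [det_smul, Fintype.card_fin, hc']
    exact inv_mul_cancel₀ (fun h0 => by simp [h0] at hδ)
  let A : Cfsg.SU 3 F q := CfsgLib.UnitOrders.suMk hσ (c • Pm) hdet (by
    show tau σ (c • Pm) * (c • Pm) = 1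
    rw [ClassCountU.tau_smul, smul_mul_smul_comm, hU, hcn, one_smul])
  have hA : suHom 3 F q A = c • Pm := rfl
  refine ⟨A, ?_⟩
  rw [hA, smul_mul_assoc, h, ← mul_smul_comm, ← hA, mul_assoc, ← map_mul, mul_inv_cancel, map_one, mul_one]

section Ctx

variable {h : F[X]} [Fact (Irreducible h)] {X₀ : Matrix (Fin 3) (Fin 3) F}

theorem torusNorm_ne_top (hσ : ∀ x, σ x = x ^ q) (hd : h.natDegree = 3) (hX : aeval X₀ h = 0) :
    (torusNorm X₀ : Subgroup (Cfsg.SU 3 F q)) ≠ ⊤ := by
  intro htop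
  let d : Fin 3 → F := ![-1, -1, 1]
  let D : Cfsg.SU 3 F q := CfsgLib.UnitOrders.suMk hσ (Matrix.diagonal d)
    (by simp [d, det_diagonal, Fin.prod_univ_three]) (by
      show tau σ _ * _ = 1
      rw [tau, diagonal_map (map_zero σ), diagonal_transpose, diagonal_mul_diagonal, ← diagonal_one]
      congr 1
      funext i
      fin_cases i <;> simp [d])
  have hDD : D * D = 1 := suHom_injective (by
    rw [map_mul, map_one]
    show Matrix.diagonal d * Matrix.diagonal d = 1
    rw [diagonal_mul_diagonal, ← diagonal_one]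
    congr 1
    funext i
    fin_cases i <;> simp [d])
  have hDi : D⁻¹ = D := inv_eq_of_mul_eq_one_right hDD
  set Dm := suHom 3 F q D with hDm
  have hDm2 : Dm * Dm = 1 := by rw [hDm, ← map_mul, hDD, map_one]
  have hmem : D ∈ torusNorm X₀ := htop ▸ Subgroup.mem_top D
  have hc := (hmem X₀).2 (Commute.refl _)
  rw [hDi] at hc
  obtain ⟨z, hz⟩ := exists_emb_of_commute (hX := hX) hd hc
  have hconj : ∀ p : F[X], Dm * aeval X₀ p * Dm = aeval (Dm * X₀ * Dm) p := fun p => by
    rw [semiconj_aeval (show Dm * X₀ = Dm * X₀ * Dm * Dm by rw [mul_assoc _ Dm Dm, hDm2, mul_one]) p, mul_assoc,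
      hDm2, mul_one]
  have hz0 : aeval z h = 0 := emb_injective (X₀ := X₀) (hX := hX) (by
    rw [map_zero, ← aeval_emb, hz, ← hconj, hX, mul_zero, zero_mul])
  obtain ⟨j, hjlt, hrj⟩ := exists_pow_of_root hd hz0
  have hfix : z ^ Fintype.card F ^ j = AdjoinRoot.root h := emb_injective (X₀ := X₀) (hX := hX) (by
    rw [map_pow, hz, emb_root, ← aeval_X_pow (R := F), ← hconj, aeval_X_pow,
      show X₀ ^ Fintype.card F ^ j = Dm * X₀ * Dm by rw [← hz, ← hrj, map_pow, emb_root]]
    simp only [← mul_assoc, hDm2, one_mul]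
    rw [mul_assoc, hDm2, mul_one])
  have hj0 : j = 0 := by
    by_contra hne
    have h3 : ¬ 3 ∣ 2 * j := by omega
    obtain ⟨c, hc'⟩ := scalar_of_fixed hd h3 (z := AdjoinRoot.root h) (by rw [two_mul, pow_add, pow_mul, hrj, hfix])
    exact root_not_scalar hd c hc'
  rw [hj0, pow_zero, pow_one] at hrj
  rw [← hrj, emb_root] at hz
  have hcomm : Commute Dm X₀ := by
    show Dm * X₀ = X₀ * Dm
    conv_rhs => rw [hz, mul_assoc, hDm2, mul_one]
  obtain ⟨w, hw⟩ := exists_emb_of_commute (hX := hX) hd hcomm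
  have he0 : (Pi.single 0 1 : Fin 3 → F) ≠ 0 := fun h0 => by simpa using congrFun h0 0
  have h1 : emb X₀ hX w *ᵥ Pi.single 0 1 = emb X₀ hX (algebraMap F _ (-1)) *ᵥ Pi.single 0 1 := by
    rw [hw, AlgHom.commutes, Algebra.algebraMap_eq_smul_one, smul_mulVec, one_mulVec]
    show Matrix.diagonal d *ᵥ Pi.single 0 1 = _
    funext i
    fin_cases i <;> simp [d, mulVec_diagonal]
  rw [(emb_orbit (X₀ := X₀) (hX := hX) hd he0).1 h1, AlgHom.commutes] at hw
  have h2 := congrFun (congrFun hw 2) 2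
  rw [show Dm 2 2 = 1 from by show Matrix.diagonal d 2 2 = 1; simp [d]] at h2
  simp [Algebra.algebraMap_eq_smul_one] at h2
  exact Ring.neg_one_ne_one_of_char_ne_two (by rw [ringChar.eq F 3]; norm_num) h2

theorem center_le_torusNorm (hF : Fintype.card F = q ^ 2) (hσ : ∀ x, σ x = x ^ q) (hd : h.natDegree = 3)
    (hX : aeval X₀ h = 0) : Subgroup.center (Cfsg.SU 3 F q) ≤ torusNorm X₀ := fun z hz => by
  obtain ⟨c, -, hc⟩ := center_scalar (by norm_num) hF hσ hz
  refine mem_torusNorm hd hX ?_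
  have hm : suHom 3 F q z = c • 1 := Matrix.ext_iff_mulVec.2 fun v => by rw [hc, smul_mulVec, one_mulVec]
  have h1 : suHom 3 F q z * X₀ * suHom 3 F q z⁻¹ = X₀ := by
    rw [show suHom 3 F q z * X₀ = X₀ * suHom 3 F q z by rw [hm, smul_mul_assoc, one_mul, mul_smul_comm, mul_one],
      mul_assoc, ← map_mul, mul_inv_cancel, map_one, mul_one]
  rw [h1]

/-- The torus normaliser contains a regular unipotent element of order three. -/
theorem exists_regular (hF : Fintype.card F = q ^ 2) (hσ : ∀ x, σ x = x ^ q) (hσσ : ∀ x, σ (σ x) = x)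
    (hh : IsItem ((h, 1) : Item F)) (hd : h.natDegree = 3) (x₀ : Cfsg.GU 3 F q)
    (hX : aeval (x₀ : GL (Fin 3) F).1 h = 0) :
    ∃ (u : Cfsg.SU 3 F q) (U : Cfsg.GU 3 F q), u ∈ torusNorm (x₀ : GL (Fin 3) F).1 ∧
      suHom 3 F q u = (U : GL (Fin 3) F).1 ∧
      ((U : GL (Fin 3) F).1 - 1) ^ 3 = 0 ∧ ((U : GL (Fin 3) F).1 - 1) ^ 2 ≠ 0 := by
  haveI := Fact.mk Nat.prime_three
  haveI := finite_root (h := h)
  haveI : CharP (AdjoinRoot h) 3 := charP_of_injective_algebraMap (algebraMap F (AdjoinRoot h)).injective 3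
  set X₀ := (x₀ : GL (Fin 3) F).1 with hX₀
  set r := AdjoinRoot.root h with hr
  have hrq : aeval (r ^ Fintype.card F ^ 1) h = 0 := by
    rw [← aeval_pow_card, AdjoinRoot.mk_self, zero_pow (pow_ne_zero _ Fintype.card_ne_zero)]
  rw [pow_one] at hrq
  have hXq : aeval (((x₀ ^ Fintype.card F : Cfsg.GU 3 F q) : GL (Fin 3) F).1) h = 0 := by
    rw [SubmonoidClass.coe_pow, Units.val_pow_eq_pow_val, ← hX₀,
      show X₀ ^ Fintype.card F = emb X₀ hX (r ^ Fintype.card F) by rw [map_pow, hr, emb_root],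
      aeval_emb, hrq, map_zero]
  have hcq : IsConj x₀ (x₀ ^ Fintype.card F) := (Cfsg.Agent.S2587.result hF _ _).2
    (ClassCountU.isConj_GL_of_dataOf ((data_of_root hh _ hX).trans (data_of_root hh _ hXq).symm))
  obtain ⟨P, hP⟩ := isConj_iff.1 hcq
  have hPj : ∀ j : ℕ, P ^ j * x₀ * (P ^ j)⁻¹ = x₀ ^ Fintype.card F ^ j := by
    intro j
    induction j with
    | zero => simp
    | succ j ih =>
      have : P * x₀ ^ Fintype.card F ^ j * P⁻¹ = x₀ ^ Fintype.card F ^ (j + 1) := by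
        rw [← conj_pow, hP, ← pow_mul, ← pow_succ']
      rw [← this, ← ih, pow_succ']
      group
  obtain ⟨k, m, hm, ho⟩ := Nat.exists_eq_pow_mul_and_not_dvd (orderOf_pos P).ne' 3 (by norm_num)
  set U := ((P ^ m : Cfsg.GU 3 F q) : GL (Fin 3) F).1 with hUdef
  have hUU : tau σ U * U = 1 := (CfsgLib.InvNorm.mem_GU_iff hσ hσσ _).1 (P ^ m).2
  have hUk : U ^ 3 ^ k = 1 := by
    rw [hUdef, ← Units.val_pow_eq_pow_val, ← SubmonoidClass.coe_pow, ← pow_mul, mul_comm, ← ho, pow_orderOf_eq_one]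
    rfl
  have hUdet : U.det = 1 := eq_one_of_pow (by rw [← det_pow, hUk, det_one])
  let u : Cfsg.SU 3 F q := CfsgLib.UnitOrders.suMk hσ U hUdet hUU
  have hUconj : ∀ j : ℕ, ((P ^ j : Cfsg.GU 3 F q) : GL (Fin 3) F).1 * X₀ =
      emb X₀ hX (r ^ Fintype.card F ^ j) * ((P ^ j : Cfsg.GU 3 F q) : GL (Fin 3) F).1 := by
    intro j
    have h1 := congrArg (fun z : Cfsg.GU 3 F q => (z : GL (Fin 3) F).1) (mul_inv_eq_iff_eq_mul.1 (hPj j))
    simp only [Subgroup.coe_mul, Units.val_mul, SubmonoidClass.coe_pow, Units.val_pow_eq_pow_val] at h1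
    rw [map_pow, hr, emb_root]
    simpa only [SubmonoidClass.coe_pow, Units.val_pow_eq_pow_val] using h1
  have hu : suHom 3 F q u = U := rfl
  refine ⟨u, P ^ m, mem_torusNorm hd hX ?_, hu, ?_, ?_⟩
  · rw [hu, hUconj m, ← hUdef, mul_assoc, ← hu, ← map_mul, mul_inv_cancel, map_one, mul_one]
    exact emb_commute _
  · have hU3 : U ^ 3 = 1 := by
      have hc : Commute (U ^ 3) X₀ := by
        have h1 := hUconj (m * 3)
        rw [pow_mul, SubmonoidClass.coe_pow, Units.val_pow_eq_pow_val, ← hUdef, mul_comm m 3, pow_card_mul hd,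
          hr, emb_root] at h1
        exact h1
      obtain ⟨z, hz⟩ := exists_emb_of_commute (hX := hX) hd hc
      have hz1 : z = 1 := eq_one_of_pow (k := k) (emb_injective (X₀ := X₀) (hX := hX) (by
        rw [map_pow, hz, map_one, ← pow_mul, mul_comm, pow_mul, hUk, one_pow]))
      rw [← hz, hz1, map_one]
    show (U - 1) ^ 3 = 0
    rw [sub_pow_char_of_commute 3 (Commute.one_right U), hU3, one_pow, sub_self]
  · show (U - 1) ^ 2 ≠ 0
    intro h2
    have hUz : ∀ z, U * emb X₀ hX z = emb X₀ hX (z ^ Fintype.card F ^ m) * U := by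
      intro z
      induction z using AdjoinRoot.induction_on with
      | _ p =>
        rw [emb_mk, aeval_pow_card, ← aeval_emb]
        exact semiconj_aeval (hUconj m) p
    have hdet0 : (U - 1).det = 0 := by
      have := congrArg Matrix.det h2
      haveI hne : Nonempty (Fin 3) := ⟨0⟩
      rw [det_pow, det_zero] at this
      exact pow_eq_zero_iff (by norm_num) |>.1 this
    obtain ⟨v, hv0, hv⟩ := Matrix.exists_mulVec_eq_zero_iff.2 hdet0
    have hfix : ∀ w, (U - 1) *ᵥ w = 0 → w ∈ F ∙ v := by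
      intro w hw
      obtain ⟨z, rfl⟩ := (emb_orbit (X₀ := X₀) (hX := hX) hd hv0).2 w
      rw [sub_mulVec, one_mulVec, sub_eq_zero] at hv hw
      rw [mulVec_mulVec, hUz, ← mulVec_mulVec, hv] at hw
      obtain ⟨c, hc⟩ := scalar_of_fixed hd hm ((emb_orbit (X₀ := X₀) (hX := hX) hd hv0).1 hw)
      refine Submodule.mem_span_singleton.2 ⟨c, ?_⟩
      show c • v = emb X₀ hX z *ᵥ v
      rw [← hc, AlgHom.commutes, Algebra.algebraMap_eq_smul_one, smul_mulVec, one_mulVec]
    let L := Matrix.mulVecLin (U - 1)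
    have h4 := LinearMap.finrank_range_add_finrank_ker L
    have hker : LinearMap.ker L ≤ F ∙ v := fun w hw => hfix w hw
    have hran : LinearMap.range L ≤ LinearMap.ker L := by
      rintro _ ⟨w, rfl⟩
      show (U - 1) *ᵥ ((U - 1) *ᵥ w) = 0
      rw [mulVec_mulVec, ← pow_two, h2, zero_mulVec]
    have h5 := Submodule.finrank_mono hker
    have h6 := Submodule.finrank_mono hran
    rw [finrank_span_singleton hv0] at h5
    rw [Module.finrank_fin_fun] at h4
    omega

/-- An element with irreducible characteristic polynomial is conjugate into the torus normaliser. -/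
theorem conj_irreducible (hF : Fintype.card F = q ^ 2) (hσ : ∀ x, σ x = x ^ q) (hσσ : ∀ x, σ (σ x) = x)
    (hh : IsItem ((h, 1) : Item F)) (hd : h.natDegree = 3) (hstar : SemisimpleSU.star σ h = h)
    (hX : aeval X₀ h = 0) (hU₀ : tau σ X₀ * X₀ = 1) (g : Cfsg.SU 3 F q)
    (hirr : ∀ c, ¬ (suHom 3 F q g).charpoly.IsRoot c) :
    ∃ A : Cfsg.SU 3 F q, A * g * A⁻¹ ∈ torusNorm X₀ := by
  haveI := finite_root (h := h)
  haveI := (AdjoinRoot.powerBasis hh.irr.ne_zero).finite
  have hroot := root_norm hF hσ hσσ hh hd hstar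
  set G := suHom 3 F q g with hG
  let gG : Cfsg.GU 3 F q := ⟨Matrix.SpecialLinearGroup.toGL g.1, g.2⟩
  have hgG : (gG : GL (Fin 3) F).1 = G := rfl
  set f := G.charpoly with hf
  have hfd : f.natDegree = 3 := by rw [hf, Matrix.charpoly_natDegree_eq_dim, Fintype.card_fin]
  have hfi : IsItem ((f, 1) : Item F) :=
    ⟨Matrix.charpoly_monic G, Polynomial.irreducible_of_degree_le_three_of_not_isRoot (by simp [hfd]) hirr,
      fun h0 => hirr 0 (by rw [IsRoot.def, ← coeff_zero_eq_eval_zero, h0]), le_rfl⟩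
  haveI : Fact (Irreducible f) := ⟨hfi.irr⟩
  haveI := finite_root (h := f)
  haveI := (AdjoinRoot.powerBasis hfi.irr.ne_zero).finite
  have hfs : SemisimpleSU.star σ f = f := star_eq_self hσσ (by norm_num) (T := Matrix.toLin' G)
    (fun u v => herm_suHom hσ g u v) hfi (by rw [hf, ← Matrix.charpoly_toLin']; exact LinearMap.aeval_self_charpoly _)
  obtain ⟨φ⟩ := FiniteField.nonempty_algHom_of_finrank_dvd (F := F) (K := AdjoinRoot f) (L := AdjoinRoot h) (by
    rw [ClassCount.finrank_adjoinRoot hfi.irr.ne_zero, ClassCount.finrank_adjoinRoot hh.irr.ne_zero, hfd, hd])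
  set y := φ (AdjoinRoot.root f) with hy
  have hyn : y ^ (q ^ 3 + 1) = 1 := by rw [hy, ← map_pow, root_norm hF hσ hσσ hfi hfd hfs, map_one]
  have hyf : aeval (emb X₀ hX y) f = 0 := by
    rw [aeval_emb, hy, aeval_algHom_apply, AdjoinRoot.aeval_eq, AdjoinRoot.mk_self, map_zero, map_zero]
  have hyU : tau σ (emb X₀ hX y) * emb X₀ hX y = 1 := by
    rw [tau_emb hF hσ hroot hU₀, ← map_mul, ← pow_succ, hyn, map_one]
  let M : GL (Fin 3) F := ⟨emb X₀ hX y, tau σ (emb X₀ hX y), mul_eq_one_comm.1 hyU, hyU⟩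
  let M' : Cfsg.GU 3 F q := ⟨M, (CfsgLib.InvNorm.mem_GU_iff hσ hσσ _).2 hyU⟩
  have hgf : aeval ((gG : GL (Fin 3) F).1) f = 0 := by rw [hgG, hf]; exact Matrix.aeval_self_charpoly G
  obtain ⟨P, hP⟩ := isConj_iff.1 ((Cfsg.Agent.S2587.result hF gG M').2
    (ClassCountU.isConj_GL_of_dataOf ((data_of_root hfi _ hgf).trans (data_of_root hfi M hyf).symm)))
  obtain ⟨A, hA⟩ := su_conj_of_gu hσ hσσ P G (emb X₀ hX y)
    (congrArg (fun z : Cfsg.GU 3 F q => (z : GL (Fin 3) F).1) (mul_inv_eq_iff_eq_mul.1 hP))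
  have mat : suHom 3 F q (A * g * A⁻¹) = emb X₀ hX y := by rw [map_mul, map_mul, ← hA]
  refine ⟨A, mem_torusNorm hd hX ?_⟩
  rw [mat, (emb_commute (hX := hX) y).eq, mul_assoc, ← mat, ← map_mul, mul_inv_cancel, map_one, mul_one]

end Ctx

/-- The unitary case in dimension three, characteristic three. -/
theorem cov_psu3 (hF : Fintype.card F = q ^ 2) : Cov (Cfsg.PSU 3 F q) := by
  classical
  obtain ⟨σ, hσ, hσσ⟩ := CfsgLib.FieldEmb.exists_conj hF
  obtain ⟨h, hh, hd, hstar⟩ := exists_self_dual_cubic hF hσ hσσ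
  haveI : Fact (Irreducible h) := ⟨hh.irr⟩
  obtain ⟨x₀, hx₀⟩ := ClassCountU.exists_GU_of_data (n := 3) (D := {((h, 1) : Item F)}) hF hσ hσσ
    ⟨⟨fun it hit => by rw [Multiset.mem_singleton] at hit; subst hit; exact ⟨hh, le_rfl⟩,
      by simp [size, hd]⟩, by simp [ClassCountU.starItem, hstar]⟩
  have hX : aeval (x₀ : GL (Fin 3) F).1 h = 0 := by
    obtain ⟨d⟩ := ClassCount.exists_decomp _ (Matrix.GeneralLinearGroup.det_ne_zero (x₀ : GL (Fin 3) F))
    have hdata : d.data = {((h, 1) : Item F)} := by rw [← ClassCount.dataOf_eq d, hx₀]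
    refine Matrix.ext_iff_mulVec.2 fun v => d.φ.injective (funext fun i => ?_)
    have hi : (d.P i, d.e i) ∈ d.data := Multiset.mem_map.2 ⟨i, Finset.mem_univ i, rfl⟩
    rw [hdata, Multiset.mem_singleton, Prod.mk.injEq] at hi
    rw [ClassCount.map_aeval, zero_mulVec, map_zero, Pi.zero_apply,
      AdjoinRoot.mk_eq_zero.2 (show d.P i ^ d.e i ∣ h by rw [hi.1, hi.2, pow_one]), zero_mul]
  have hU₀ : tau σ (x₀ : GL (Fin 3) F).1 * (x₀ : GL (Fin 3) F).1 = 1 := (CfsgLib.InvNorm.mem_GU_iff hσ hσσ _).1 x₀.2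
  obtain ⟨u, U, huK, hu, hN3, hN2⟩ := exists_regular hF hσ hσσ hh hd x₀ hX
  let π : Equiv.Perm (Fin 3) := Equiv.swap 0 1 * Equiv.swap 1 2
  have hπ : Equiv.Perm.sign π = 1 := by
    rw [map_mul, Equiv.Perm.sign_swap (by decide), Equiv.Perm.sign_swap (by decide)]; rfl
  refine cov_quotient _ (H := lineStab (suHom 3 F q) (Pi.single 0 1)) (K := torusNorm (x₀ : GL (Fin 3) F).1) ?_
    (torusNorm_ne_top hσ hd hX) (center_le_lineStab (by norm_num) hF hσ _) (center_le_torusNorm hF hσ hd hX) ?_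
  · exact lineStab_ne_top hσ hπ (j := π.symm 0) (by decide) (Equiv.apply_symm_apply _ _)
  intro g
  by_cases hex : ∃ (v : Fin 3 → F) (a : F), hermSesq σ 3 v v ≠ 0 ∧ suHom 3 F q g *ᵥ v = a • v
  · obtain ⟨v, a, hv, hgv⟩ := hex
    obtain ⟨x, hx⟩ := conj_mem_lineStab hF hσ hσσ g 0 hv hgv
    exact ⟨x, Or.inl hx⟩
  rcases classify3 hσ hσσ g (fun v a hv => by_contra fun hne => hex ⟨v, a, hne, hv⟩) with hirr | ⟨h3, h2⟩
  · obtain ⟨A, hA⟩ := conj_irreducible hF hσ hσσ hh hd hstar hX hU₀ g hirr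
    exact ⟨A, Or.inr hA⟩
  · let gG : Cfsg.GU 3 F q := ⟨Matrix.SpecialLinearGroup.toGL g.1, g.2⟩
    obtain ⟨P, hP⟩ := isConj_iff.1 ((Cfsg.Agent.S2587.result hF gG U).2
      (ClassCountU.isConj_GL_of_dataOf ((data_regular (gG : GL (Fin 3) F) h3 h2).trans
        (data_regular _ hN3 hN2).symm)))
    obtain ⟨A, hA⟩ := su_conj_of_gu hσ hσσ P (suHom 3 F q g) (U : GL (Fin 3) F).1
      (congrArg (fun z : Cfsg.GU 3 F q => (z : GL (Fin 3) F).1) (mul_inv_eq_iff_eq_mul.1 hP))
    refine ⟨A, Or.inr ?_⟩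
    rw [show A * g * A⁻¹ = u from suHom_injective (by rw [map_mul, map_mul, hA, hu])]
    exact huK

end CfsgLib.NormalCover
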